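import Groth.Prelude.Def_SGA4b
import Mathlib.AlgebraicGeometry.Morphisms.Flat
import Mathlib.AlgebraicGeometry.Morphisms.UniversallyOpen

/-!
# Universally submersive morphisms

Surjective morphisms are universally submersive when they are universally open, or quasi-compact
and universally generalizing (in particular flat and quasi-compact).
-/

universe u

open CategoryTheory CategoryTheory.Limits AlgebraicGeometry

namespace Groth.Agent.EtSets24

/-- A quasi-compact surjective generalizing morphism is a quotient map. -/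
theorem isQuotientMap_of_generalizing {X Y : Scheme.{u}} (f : X ⟶ Y) [QuasiCompact f] [Surjective f]
    (hf : GeneralizingMap f) : Topology.IsQuotientMap f := by
  rw [Topology.isQuotientMap_iff]
  refine ⟨.of_isOpen_preimage_iff_isOpen fun s ↦
    ⟨fun hs ↦ ?_, fun hs ↦ hs.preimage f.continuous⟩, f.surjective⟩
  wlog hY : ∃ R, Y = Spec R
  · let 𝒰 := Y.affineCover
    rw [𝒰.isOpenCover_opensRange.isOpen_iff_inter]
    intro i
    rw [Scheme.Hom.coe_opensRange, ← Set.image_preimage_eq_inter_range]
    apply (𝒰.f i).isOpenEmbedding.isOpenMap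
    refine this (f := pullback.fst (𝒰.f i) f)
      (IsZariskiLocalAtTarget.of_isPullback (P := topologically GeneralizingMap)
        (iY := 𝒰.f i) (IsPullback.of_hasPullback (𝒰.f i) f).flip hf) _ ?_ ⟨_, rfl⟩
    rw [← Set.preimage_comp, ← TopCat.coe_comp, ← Scheme.Hom.comp_base, pullback.condition,
      Scheme.Hom.comp_base, TopCat.coe_comp, Set.preimage_comp]
    exact hs.preimage (Scheme.Hom.continuous _)
  obtain ⟨R, rfl⟩ := hY
  wlog hX : ∃ S, X = Spec S
  · have _ : CompactSpace X := QuasiCompact.compactSpace_of_compactSpace f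
    let 𝒰 := X.affineCover.finiteSubcover
    let p : ∐ (fun i : 𝒰.I₀ ↦ 𝒰.X i) ⟶ X := Sigma.desc (fun i ↦ 𝒰.f i)
    let q := (∐ (fun i : 𝒰.I₀ ↦ 𝒰.X i)).isoSpec.inv ≫ p
    haveI hqf : Flat q := inferInstance
    have hg : GeneralizingMap (q ≫ f) := by
      rw [Scheme.Hom.comp_base, TopCat.coe_comp]
      exact (Flat.generalizingMap q).comp hf
    have e : (∐ (fun i : 𝒰.I₀ ↦ 𝒰.X i)).isoSpec.inv ≫ p ≫ f = q ≫ f := (Category.assoc _ _ _).symm
    haveI hqc : QuasiCompact (q ≫ f) := e ▸ inferInstance
    haveI hqs : Surjective (q ≫ f) := e ▸ inferInstance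
    refine this R (q ≫ f) hg s ?_ ⟨_, rfl⟩
    rw [Scheme.Hom.comp_base, TopCat.coe_comp, Set.preimage_comp]
    exact hs.preimage q.continuous
  obtain ⟨S, rfl⟩ := hX
  obtain ⟨φ, rfl⟩ := Spec.map_surjective f
  exact ((PrimeSpectrum.isQuotientMap_of_generalizingMap
    ((surjective_iff (Spec.map φ)).mp inferInstance) hf).isOpen_preimage).mp hs

theorem isUnivSubmersive_of_generalizing {X' X : Scheme.{u}} (f : X' ⟶ X) [QuasiCompact f] [Surjective f]
    (h : ∀ (Y : Scheme.{u}) (g : Y ⟶ X), GeneralizingMap (pullback.snd f g)) : EtDesc.IsUnivSubmersive f :=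
  fun Y g => ⟨(pullback.snd f g).surjective, isQuotientMap_of_generalizing _ (h Y g)⟩

theorem isUnivSubmersive_of_flat {X' X : Scheme.{u}} (f : X' ⟶ X) [Flat f] [QuasiCompact f] [Surjective f] :
    EtDesc.IsUnivSubmersive f :=
  fun _ g => ⟨(pullback.snd f g).surjective, Flat.isQuotientMap_of_surjective _⟩

theorem isUnivSubmersive_of_universallyOpen {X' X : Scheme.{u}} (f : X' ⟶ X) [UniversallyOpen f] [Surjective f] :
    EtDesc.IsUnivSubmersive f :=
  fun _ g => ⟨(pullback.snd f g).surjective, (pullback.snd f g).isOpenMap.isQuotientMap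
    (pullback.snd f g).continuous (pullback.snd f g).surjective⟩

end Groth.Agent.EtSets24
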