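import Groth.Agent.Lib.EtSets24.FlatFibres
import Groth.Agent.Lib.Hens.Local

/-!
# Local acyclicity in degree zero over a discrete base

Dividing by the nilradical of the base reduces to algebras over a field.
-/

universe u

open CategoryTheory CategoryTheory.Limits AlgebraicGeometry Opposite TensorProduct IsLocalRing

set_option backward.isDefEq.respectTransparency.types false

namespace Groth.Agent.EtSets24

open GeomConn24

/-- Composites of universally submersive morphisms. -/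
theorem isUnivSubmersive_comp {W X Y : Scheme.{u}} (a : W ⟶ X) (f : X ⟶ Y) (ha : EtDesc.IsUnivSubmersive a)
    (hf : EtDesc.IsUnivSubmersive f) : EtDesc.IsUnivSubmersive (a ≫ f) := fun T t => by
  let P := pullback.fst f t
  have h : IsPullback (pullback.fst a P) (pullback.snd a P ≫ pullback.snd f t) (a ≫ f) t :=
    (IsPullback.of_hasPullback a P).paste_vert (IsPullback.of_hasPullback f t)
  have h2 : h.isoPullback.inv ≫ pullback.snd a P ≫ pullback.snd f t = pullback.snd (a ≫ f) t :=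
    h.isoPullback_inv_snd
  rw [← h2]
  refine ⟨((hf T t).1.comp (ha _ P).1).comp h.isoPullback.inv.surjective, ?_⟩
  have := ((hf T t).2.comp (ha _ P).2).comp h.isoPullback.inv.homeomorph.isQuotientMap
  convert! this using 1

theorem isUnivSubmersive_of_closedImmersion {X Y : Scheme.{u}} (f : X ⟶ Y) [IsClosedImmersion f] [Surjective f] :
    EtDesc.IsUnivSubmersive f := fun _ g =>
  ⟨(pullback.snd f g).surjective, ((pullback.snd f g).isClosedEmbedding.isClosedMap).isQuotientMap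
    (pullback.snd f g).continuous (pullback.snd f g).surjective⟩

theorem isSepClosed_of_ringEquiv {K K' : Type u} [Field K] [Field K'] [IsSepClosed K] (e : K ≃+* K') :
    IsSepClosed K' := IsSepClosed.of_exists_root _ fun p _ hp hs => by
  obtain ⟨x, hx⟩ := IsSepClosed.exists_eval₂_eq_zero e.symm.toRingHom p (Polynomial.degree_pos_of_irreducible hp).ne' hs
  refine ⟨e x, e.symm.injective ?_⟩
  rw [map_zero]
  have h := Polynomial.eval₂_at_apply (p := p) e.symm.toRingHom (e x)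
  rw [show e.symm.toRingHom (e x) = x from e.symm_apply_apply x, hx] at h
  exact h.symm

set_option maxHeartbeats 1000000 in
/-- Acyclicity of staged local algebras detected modulo a nil ideal of the base. -/
theorem isZeroAcyclic_of_nil {R R' A B : Type u} [CommRing R] [CommRing R'] [Algebra R R'] (I : Ideal R)
    (hI : I ≤ nilradical R) [Module.Flat (R ⧸ I) (R' ⧸ I.map (algebraMap R R'))]
    [CommRing A] [Algebra R A] [HenselianLocalRing A] [IsSepClosed (ResidueField A)] [CommRing B] [IsLocalRing B]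
    [Algebra R' B] [Algebra R B] [IsScalarTower R R' B] [Algebra A B] [IsScalarTower R A B]
    [IsLocalHom (algebraMap A B)] [Module.Flat R' B] (hA : Staged R A) (hB : Staged R' B)
    (hlift : ∀ (A₀ L : Type u) [CommRing A₀] [Algebra (R ⧸ I) A₀] [Field L] [IsAlgClosed L] [Algebra A₀ L]
      [Algebra (R ⧸ I) L] [IsScalarTower (R ⧸ I) A₀ L] (S' : Type u) [CommRing S'] [Algebra (R ⧸ I) S']
      [Algebra (R' ⧸ I.map (algebraMap R R')) S'] [IsScalarTower (R ⧸ I) (R' ⧸ I.map (algebraMap R R')) S']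
      [Algebra.Etale (R' ⧸ I.map (algebraMap R R')) S'], Lifts (R ⧸ I) A₀ L S') :
    EtAcyc.IsZeroAcyclic (Spec.map (CommRingCat.ofHom (algebraMap A B))) := by
  let I' := I.map (algebraMap R R')
  let IA := I.map (algebraMap R A)
  let IB := I'.map (algebraMap R' B)
  let A₀ := A ⧸ IA
  let B₀ := B ⧸ IB
  have hIB : IB = I.map (algebraMap R B) := by
    rw [show IB = (I.map (algebraMap R R')).map (algebraMap R' B) from rfl, Ideal.map_map, ← IsScalarTower.algebraMap_eq]
  have hle : IA ≤ IB.comap (algebraMap A B) := by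
    rw [← Ideal.map_le_iff_le_comap, Ideal.map_map, ← IsScalarTower.algebraMap_eq, hIB]
  have hnilA : IA ≤ nilradical A := Ideal.map_le_iff_le_comap.2 fun r hr =>
    mem_nilradical.2 ((mem_nilradical.1 (hI hr)).map (algebraMap R A))
  have hnilB : IB ≤ nilradical B := by
    rw [hIB]
    exact Ideal.map_le_iff_le_comap.2 fun r hr => mem_nilradical.2 ((mem_nilradical.1 (hI hr)).map (algebraMap R B))
  haveI : Nontrivial A₀ := Ideal.Quotient.nontrivial_iff.2 fun h => by
    obtain ⟨n, hn⟩ := mem_nilradical.1 (hnilA (h.ge (Submodule.mem_top (x := (1 : A)))))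
    exact one_ne_zero ((one_pow n).symm.trans hn)
  haveI : Nontrivial B₀ := Ideal.Quotient.nontrivial_iff.2 fun h => by
    obtain ⟨n, hn⟩ := mem_nilradical.1 (hnilB (h.ge (Submodule.mem_top (x := (1 : B)))))
    exact one_ne_zero ((one_pow n).symm.trans hn)
  haveI : IsLocalRing A₀ := IsLocalRing.of_surjective' (Ideal.Quotient.mk IA) Ideal.Quotient.mk_surjective
  haveI : IsLocalRing B₀ := IsLocalRing.of_surjective' (Ideal.Quotient.mk IB) Ideal.Quotient.mk_surjective
  haveI : HenselianLocalRing A₀ := Hens.henselianLocalRing_of_isIntegral A A₀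
  haveI : IsLocalHom (Ideal.Quotient.mk IA) := IsLocalHom.of_surjective _ Ideal.Quotient.mk_surjective
  haveI : IsSepClosed (ResidueField A₀) := by
    refine isSepClosed_of_ringEquiv (RingEquiv.ofBijective (ResidueField.map (Ideal.Quotient.mk IA))
      ⟨RingHom.injective _, fun z => ?_⟩)
    obtain ⟨z, rfl⟩ := residue_surjective z
    obtain ⟨a, rfl⟩ := Ideal.Quotient.mk_surjective z
    exact ⟨residue A a, rfl⟩
  letI : Algebra A₀ B₀ := (Ideal.quotientMap IB (algebraMap A B) hle).toAlgebra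
  have hAB : ∀ a : A, algebraMap A₀ B₀ (Ideal.Quotient.mk IA a) = Ideal.Quotient.mk IB (algebraMap A B a) :=
    fun _ => rfl
  haveI : IsLocalHom (algebraMap A₀ B₀) := ⟨fun a ha => by
    obtain ⟨a, rfl⟩ := Ideal.Quotient.mk_surjective a
    rw [hAB] at ha
    haveI : IsLocalHom (Ideal.Quotient.mk IB) := IsLocalHom.of_surjective _ Ideal.Quotient.mk_surjective
    exact (((isUnit_map_iff _ _).1 ha : IsUnit (algebraMap A B a)) |> (isUnit_map_iff (algebraMap A B) a).1).map _⟩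
  let R₁ := R ⧸ I
  let R₁' := R' ⧸ I'
  letI : Algebra R₁ A₀ := Ideal.Quotient.algebraQuotientMapQuotient
  letI : Algebra R₁' B₀ := Ideal.Quotient.algebraQuotientMapQuotient
  letI : Algebra R₁ B₀ := ((algebraMap R₁' B₀).comp (algebraMap R₁ R₁')).toAlgebra
  haveI : IsScalarTower R₁ R₁' B₀ := .of_algebraMap_eq fun _ => rfl
  haveI : IsScalarTower R₁ A₀ B₀ := .of_algebraMap_eq fun r => by
    obtain ⟨r, rfl⟩ := Ideal.Quotient.mk_surjective r
    show Ideal.Quotient.mk IB (algebraMap R' B (algebraMap R R' r)) = Ideal.Quotient.mk IB (algebraMap A B (algebraMap R A r))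
    rw [← IsScalarTower.algebraMap_apply, ← IsScalarTower.algebraMap_apply]
  haveI : IsScalarTower R R₁ A₀ := .of_algebraMap_eq fun _ => rfl
  haveI : IsScalarTower R' R₁' B₀ := .of_algebraMap_eq fun _ => rfl
  haveI : Module.Flat R₁' B₀ :=
    Module.Flat.of_linearEquiv (Algebra.TensorProduct.quotIdealMapEquivQuotTensor B I').toLinearEquiv
  have hA₀ : Staged R₁ A₀ := hA.map (Ideal.Quotient.mkₐ R IA) Ideal.Quotient.mk_surjective
  have hB₀ : Staged R₁' B₀ := hB.map (Ideal.Quotient.mkₐ R' IB) Ideal.Quotient.mk_surjective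
  haveI : Module.Flat A₀ B₀ := flat_of_staged (R' := R₁') hA₀
  haveI : Module.FaithfullyFlat A₀ B₀ := Module.FaithfullyFlat.of_flat_of_isLocalHom
  refine isZeroAcyclic_spec ?_ fun L _ _ _ e he => ?_
  · -- submersive
    let p₀ := Spec.map (CommRingCat.ofHom (algebraMap A₀ B₀))
    let iA := Spec.map (CommRingCat.ofHom (Ideal.Quotient.mk IA))
    let iB := Spec.map (CommRingCat.ofHom (Ideal.Quotient.mk IB))
    haveI : Flat p₀ := (HasRingHomProperty.Spec_iff (P := @Flat)).2 (RingHom.flat_algebraMap_iff.2 inferInstance)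
    haveI : Surjective p₀ := ⟨PrimeSpectrum.comap_surjective_of_faithfullyFlat⟩
    haveI : IsClosedImmersion iA := IsClosedImmersion.spec_of_surjective _ Ideal.Quotient.mk_surjective
    haveI : Surjective iA := ⟨fun (P : PrimeSpectrum A) => by
      refine (_root_.range_comap_of_surjective _ (Ideal.Quotient.mk IA) Ideal.Quotient.mk_surjective).ge ?_
      rw [Ideal.mk_ker]
      exact hnilA.trans (nilradical_le_prime P.asIdeal)⟩
    have hsq : iB ≫ Spec.map (CommRingCat.ofHom (algebraMap A B)) = p₀ ≫ iA := by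
      simp only [p₀, iA, iB, ← Spec.map_comp]
      rfl
    refine isUnivSubmersive_of_comp iB _ ?_
    rw [hsq]
    exact isUnivSubmersive_comp _ _ (isUnivSubmersive_of_flat p₀) (isUnivSubmersive_of_closedImmersion iA)
  -- connected fibres
  have hL : ∀ a ∈ IA, algebraMap A L a = 0 := fun a ha => ((mem_nilradical.1 (hnilA ha)).map (algebraMap A L)).eq_zero
  letI : Algebra A₀ L := (Ideal.Quotient.lift IA (algebraMap A L) hL).toAlgebra
  haveI : IsScalarTower A A₀ L := .of_algebraMap_eq fun _ => rfl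
  letI : Algebra R₁ L := ((algebraMap A₀ L).comp (algebraMap R₁ A₀)).toAlgebra
  haveI : IsScalarTower R₁ A₀ L := .of_algebraMap_eq fun _ => rfl
  have key := idempotent_trivial_of_staged hA₀ hB₀ L (fun S' _ _ _ _ _ => hlift A₀ L S')
  letI : Algebra A₀ (B ⊗[A] L) :=
    ((Algebra.TensorProduct.includeRight : L →ₐ[A] B ⊗[A] L).toRingHom.comp (algebraMap A₀ L)).toAlgebra
  have hkill : ∀ x ∈ IB, (x ⊗ₜ[A] (1 : L)) = 0 := by
    rw [hIB]
    intro x hx
    refine (RingHom.mem_ker (f := (Algebra.TensorProduct.includeLeftRingHom : B →+* B ⊗[A] L))).1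
      (Ideal.map_le_iff_le_comap.2 (fun r hr => ?_) hx)
    show algebraMap R B r ⊗ₜ[A] (1 : L) = 0
    rw [IsScalarTower.algebraMap_apply R A B, Algebra.algebraMap_eq_smul_one, TensorProduct.smul_tmul,
      Algebra.smul_def, mul_one, hL _ (Ideal.mem_map_of_mem _ hr), TensorProduct.tmul_zero]
  let jB : B₀ →ₐ[A₀] B ⊗[A] L :=
    { Ideal.Quotient.lift IB (Algebra.TensorProduct.includeLeftRingHom : B →+* B ⊗[A] L) hkill with
      commutes' := fun a => by
        obtain ⟨a, rfl⟩ := Ideal.Quotient.mk_surjective a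
        show algebraMap A B a ⊗ₜ[A] (1 : L) = (1 : B) ⊗ₜ[A] algebraMap A L a
        rw [Algebra.algebraMap_eq_smul_one, TensorProduct.smul_tmul, Algebra.smul_def, mul_one] }
  let jL : L →ₐ[A₀] B ⊗[A] L :=
    { (Algebra.TensorProduct.includeRight : L →ₐ[A] B ⊗[A] L).toRingHom with commutes' := fun _ => rfl }
  let Φ : B₀ ⊗[A₀] L →ₐ[A₀] B ⊗[A] L := Algebra.TensorProduct.lift jB jL fun _ _ => .all _ _
  letI : Algebra A (B₀ ⊗[A₀] L) := ((algebraMap A₀ (B₀ ⊗[A₀] L)).comp (Ideal.Quotient.mk IA)).toAlgebra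
  let kB : B →ₐ[A] B₀ ⊗[A₀] L :=
    { (Algebra.TensorProduct.includeLeftRingHom : B₀ →+* B₀ ⊗[A₀] L).comp (Ideal.Quotient.mk IB) with
      commutes' := fun _ => rfl }
  let kL : L →ₐ[A] B₀ ⊗[A₀] L :=
    { (Algebra.TensorProduct.includeRight : L →ₐ[A₀] B₀ ⊗[A₀] L).toRingHom with
      commutes' := fun a => (Algebra.TensorProduct.includeRight : L →ₐ[A₀] B₀ ⊗[A₀] L).commutes (Ideal.Quotient.mk IA a) }
  let Ψ : B ⊗[A] L →ₐ[A] B₀ ⊗[A₀] L := Algebra.TensorProduct.lift kB kL fun _ _ => .all _ _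
  have hΦΨ : ∀ z, Φ (Ψ z) = z := by
    intro z
    induction z using TensorProduct.induction_on with
    | zero => rw [map_zero, map_zero]
    | add v w hv hw => rw [map_add, map_add, hv, hw]
    | tmul b l =>
      rw [show Ψ (b ⊗ₜ[A] l) = kB b * kL l from Algebra.TensorProduct.lift_tmul _ _ _ _ _, map_mul,
        show Φ (kB b) = jB (Ideal.Quotient.mk IB b) * jL 1 from Algebra.TensorProduct.lift_tmul _ _ _ _ _,
        show Φ (kL l) = jB 1 * jL l from Algebra.TensorProduct.lift_tmul _ _ _ _ _, map_one, map_one, mul_one, one_mul]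
      show (b ⊗ₜ[A] (1 : L)) * ((1 : B) ⊗ₜ[A] l) = _
      rw [Algebra.TensorProduct.tmul_mul_tmul, mul_one, one_mul]
  rcases key (Ψ e) (he.map Ψ) with h | h
  · exact Or.inl (by rw [← hΦΨ e, h, map_zero])
  · exact Or.inr (by rw [← hΦΨ e, h, map_one])

/-- The algebra modulo nilpotents, over a field. -/
theorem exists_field_model {k₀ k R R₀' R' : Type u} [CommRing k₀] [Field k] [Algebra k₀ k] [CommRing R] [Algebra k₀ R]
    [CommRing R₀'] [Algebra k₀ R₀'] [CommRing R'] [Algebra R R'] (e : R' ≃ₐ[R] R ⊗[k₀] R₀') (I : Ideal R)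
    [Algebra k (R ⧸ I)] [IsScalarTower k₀ k (R ⧸ I)] :
    ∃ (Q : Type u) (_ : CommRing Q) (_ : Algebra k Q),
      Nonempty ((R' ⧸ I.map (algebraMap R R')) ≃ₐ[R ⧸ I] (R ⧸ I) ⊗[k] Q) :=
  ⟨k ⊗[k₀] R₀', inferInstance, inferInstance,
    ⟨(Algebra.TensorProduct.quotIdealMapEquivQuotTensor R' I).trans
      ((Algebra.TensorProduct.congr (AlgEquiv.refl : (R ⧸ I) ≃ₐ[R ⧸ I] (R ⧸ I)) e).trans
        ((Algebra.TensorProduct.cancelBaseChange k₀ R (R ⧸ I) (R ⧸ I) R₀').trans
          (Algebra.TensorProduct.cancelBaseChange k₀ k (R ⧸ I) (R ⧸ I) R₀').symm))⟩⟩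

/-- The algebraic statement over a field. -/
theorem isZeroAcyclic_over_field {k R R' A B : Type u} [Field k] [CommRing R] [CommRing R'] [Algebra R R']
    (I : Ideal R) (hI : I ≤ nilradical R) [Algebra k (R ⧸ I)] {Q : Type u} [CommRing Q] [Algebra k Q]
    (eQ : (R' ⧸ I.map (algebraMap R R')) ≃ₐ[R ⧸ I] (R ⧸ I) ⊗[k] Q)
    [CommRing A] [Algebra R A] [HenselianLocalRing A] [IsSepClosed (ResidueField A)] [CommRing B] [IsLocalRing B]
    [Algebra R' B] [Algebra R B] [IsScalarTower R R' B] [Algebra A B] [IsScalarTower R A B]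
    [IsLocalHom (algebraMap A B)] [Module.Flat R' B] (hA : Staged R A) (hB : Staged R' B) :
    EtAcyc.IsZeroAcyclic (Spec.map (CommRingCat.ofHom (algebraMap A B))) := by
  haveI : Module.Flat (R ⧸ I) (R' ⧸ I.map (algebraMap R R')) := Module.Flat.of_linearEquiv eQ.toLinearEquiv
  refine isZeroAcyclic_of_nil I hI hA hB fun A₀ L _ _ _ _ _ _ _ S' _ _ _ _ _ => ?_
  let T := (R ⧸ I) ⊗[k] Q
  let R₁' := R' ⧸ I.map (algebraMap R R')
  letI : Algebra T R₁' := eQ.symm.toRingHom.toAlgebra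
  letI : Algebra T S' := ((algebraMap R₁' S').comp (algebraMap T R₁')).toAlgebra
  haveI : IsScalarTower T R₁' S' := .of_algebraMap_eq fun _ => rfl
  haveI : IsScalarTower (R ⧸ I) T S' := IsScalarTower.of_algebraMap_eq (R := R ⧸ I) (S := T) (A := S') fun r => by
    show algebraMap (R ⧸ I) S' r = algebraMap R₁' S' (eQ.symm (algebraMap (R ⧸ I) T r))
    rw [AlgEquiv.commutes]
    exact IsScalarTower.algebraMap_apply _ R₁' S' r
  haveI : Algebra.Etale T R₁' :=
    Algebra.Etale.of_equiv (AlgEquiv.ofRingEquiv (f := eQ.symm.toRingEquiv) (fun _ => rfl) : T ≃ₐ[T] R₁')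
  haveI : Algebra.Etale T S' := Algebra.Etale.comp _ R₁' S'
  exact lifts_field k Q

/-- Everything is universally locally acyclic in degree zero over a discrete base. -/
theorem isULocZeroAcyclic_of_discrete {X Y : Scheme.{u}} (g : X ⟶ Y) [DiscreteTopology Y] :
    EtAcyc.IsULocZeroAcyclic g := by
  intro X₁ Y₁ g₁ b' b h
  refine isLocZeroAcyclic_of_charts g₁ fun x => ?_
  let y₀ : Y := g (b' x)
  let P : Y.Opens := ⟨{y₀}, isOpen_discrete _⟩
  obtain ⟨U₀, hU₀, hyU₀, hU₀P⟩ : ∃ U : Y.Opens, IsAffineOpen U ∧ y₀ ∈ U ∧ (U : Set Y) ⊆ P :=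
    exists_isAffineOpen_mem_and_subset (U := P) (Set.mem_singleton y₀)
  obtain ⟨W₀, hW₀, hxW, hW⟩ : ∃ V : X.Opens, IsAffineOpen V ∧ b' x ∈ V ∧ (V : Set X) ⊆ (g ⁻¹ᵁ U₀ : X.Opens) :=
    exists_isAffineOpen_mem_and_subset (U := g ⁻¹ᵁ U₀) hyU₀
  obtain ⟨U, hU, hxU, hUb⟩ : ∃ U : Y₁.Opens, IsAffineOpen U ∧ g₁ x ∈ U ∧ (U : Set Y₁) ⊆ (b ⁻¹ᵁ U₀ : Y₁.Opens) :=
    exists_isAffineOpen_mem_and_subset (U := b ⁻¹ᵁ U₀) (by
      show b (g₁ x) ∈ U₀
      rw [← Scheme.Hom.comp_apply, ← h.w, Scheme.Hom.comp_apply]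
      exact hyU₀)
  obtain ⟨V, hV, hxV, hVU, e, he⟩ := exists_pullback_chart h hU₀ hW₀ hW hU hUb x hxW hxU
  refine ⟨U, hU, hxU, V, hV, hxV, hVU, ?_⟩
  let k₀ : Type u := Γ(Y, U₀)
  let R₀' : Type u := Γ(X, W₀)
  let R : Type u := Γ(Y₁, U)
  let R' : Type u := Γ(X₁, V)
  letI : Algebra k₀ R₀' := (g.appLE U₀ W₀ hW).hom.toAlgebra
  letI : Algebra k₀ R := (b.appLE U₀ U hUb).hom.toAlgebra
  letI : Algebra R R' := (g₁.appLE U V hVU).hom.toAlgebra
  let eR : R' ≃ₐ[R] R ⊗[k₀] R₀' := AlgEquiv.ofRingEquiv (f := e) he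
  have hsub : ∀ p q : PrimeSpectrum k₀, p = q := fun p q =>
    hU₀.fromSpec.isOpenEmbedding.injective
      ((hU₀P (hU₀.range_fromSpec.le ⟨p, rfl⟩)).trans (hU₀P (hU₀.range_fromSpec.le ⟨q, rfl⟩)).symm)
  haveI : Nontrivial k₀ := by
    obtain ⟨p, -⟩ := hU₀.range_fromSpec.ge hyU₀
    exact PrimeSpectrum.nonempty_iff_nontrivial.1 ⟨p⟩
  obtain ⟨M, hM⟩ := Ideal.exists_maximal k₀
  let J : Ideal k₀ := nilradical k₀
  have hJ : J = M := le_antisymm (haveI := hM.isPrime; nilradical_le_prime M) fun r hr => mem_nilradical.2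
    (nilpotent_iff_mem_prime.2 fun Q hQ => by
      have := congrArg PrimeSpectrum.asIdeal (hsub ⟨M, hM.isPrime⟩ ⟨Q, hQ⟩)
      change M = Q at this
      rwa [← this])
  haveI : J.IsMaximal := hJ ▸ hM
  letI : Field (k₀ ⧸ J) := Ideal.Quotient.field J
  let I : Ideal R := nilradical R
  letI : Algebra (k₀ ⧸ J) (R ⧸ I) := (Ideal.quotientMap I (algebraMap k₀ R) fun r hr =>
    mem_nilradical.2 ((mem_nilradical.1 hr).map (algebraMap k₀ R))).toAlgebra
  haveI : IsScalarTower k₀ (k₀ ⧸ J) (R ⧸ I) := .of_algebraMap_eq fun _ => rfl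
  obtain ⟨Q, _, _, ⟨eQ⟩⟩ := exists_field_model (k := k₀ ⧸ J) eR I
  intro A B _ _ _ _ _ _ _ _ _ _ _ _ _ hA hB
  exact isZeroAcyclic_over_field I le_rfl eQ hA hB

end Groth.Agent.EtSets24
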