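import Groth.Agent.Lib.EtDesc24.SubmApp
import Groth.Agent.Lib.Gabber24.Same
import Mathlib.AlgebraicGeometry.Geometrically.Connected

/-!
# Sections of sheaves of sets along morphisms with geometrically connected fibres

Along a universally submersive morphism with geometrically connected fibres every section of an
inverse image descends: the descent datum condition holds automatically, a section being locally
constant on a connected geometric fibre.
-/

universe u

open CategoryTheory CategoryTheory.Limits AlgebraicGeometry Opposite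
open Groth.Agent.EtStalk hiding agree isOpen_agree mem_agree_iff_germ eq_of_agree
open Groth.Agent.EtDesc24

set_option backward.isDefEq.respectTransparency.types false

namespace Groth.Agent.EtSets24

/-- A point over a larger separably closed field of an etale scheme comes from the smaller field. -/
theorem exists_descend_pt {V U : Scheme.{u}} (g : V ⟶ U) [AlgebraicGeometry.Etale g] {Ω K : Type u}
    [Field Ω] [IsSepClosed Ω] [Field K] (c : Spec (CommRingCat.of K) ⟶ Spec (CommRingCat.of Ω))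
    (k : Spec (CommRingCat.of Ω) ⟶ U) (z : Spec (CommRingCat.of K) ⟶ V) (h : z ≫ g = c ≫ k) :
    ∃ y : Spec (CommRingCat.of Ω) ⟶ V, y ≫ g = k ∧ c ≫ y = z := by
  let q := pullback.snd g k
  let l : Spec (CommRingCat.of K) ⟶ pullback g k := pullback.lift z c h
  obtain ⟨c', hc'⟩ := Scheme.pointSmallEtaleFiberObjToPreimage_surjective (𝟙 (Spec (CommRingCat.of Ω)))
    (s₀ := (default : Spec (CommRingCat.of Ω))) rfl (Scheme.Etale.mk q)
    ⟨l default, @Subsingleton.elim (Spec (CommRingCat.of Ω)) _ _ _⟩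
  let b : Spec (CommRingCat.of Ω) ⟶ pullback g k := c'.left
  have hb : b ≫ q = 𝟙 _ := Over.w c'
  have hbpt : b default = l default := congrArg Subtype.val hc'
  haveI : AlgebraicGeometry.Etale (b ≫ q) := by rw [hb]; infer_instance
  haveI : AlgebraicGeometry.Etale b := AlgebraicGeometry.Etale.of_comp b q
  haveI : IsSplitMono b := ⟨⟨⟨q, hb⟩⟩⟩
  haveI : IsOpenImmersion b := IsOpenImmersion.of_flat_of_mono b
  let m := IsOpenImmersion.lift b l (by
    rintro _ ⟨x, rfl⟩
    exact ⟨default, by rw [hbpt, Subsingleton.elim x default]⟩)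
  have hm : m ≫ b = l := IsOpenImmersion.lift_fac _ _ _
  have hmc : m = c := by
    rw [← pullback.lift_snd z c h, show pullback.lift z c h = l from rfl, ← hm, Category.assoc, hb, Category.comp_id]
  refine ⟨b ≫ pullback.fst g k, ?_, ?_⟩
  · rw [Category.assoc, pullback.condition, ← Category.assoc, hb, Category.id_comp]
  · rw [← Category.assoc, ← hmc, hm, pullback.lift_fst]

variable {X' X : Scheme.{u}} (f : X' ⟶ X) (F : EtDesc.Sh X)

section Fibre

variable {U : X.Etale} (s : ((EtDesc.pullSh f).obj F).obj.obj (op ((EtCoh.bc f).obj U)))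
  {Ω : Type u} [Field Ω] [IsSepClosed Ω] (ξ : Spec (CommRingCat.of Ω) ⟶ X)
  (k : Spec (CommRingCat.of Ω) ⟶ U.left)

/-- A candidate for the value of `s` on the geometric fibre over `k`. -/
structure Cand where
  V : X.Etale
  g : V ⟶ U
  y : Spec (CommRingCat.of Ω) ⟶ V.left
  hy : y ≫ V.hom = ξ
  hyk : y ≫ g.left = k
  t : F.obj.obj (op V)

variable {F s ξ k}

noncomputable def Cand.germ (D : Cand (U := U) F ξ k) : (Sets.stalk ξ).obj F :=
  Sets.germ ξ F (Over.homMk D.y D.hy : fib ξ D.V) D.t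

noncomputable def Cand.map (D : Cand (U := U) F ξ k) : pullback f ξ ⟶ ((EtCoh.bc f).obj D.V).left :=
  pullback.lift (pullback.snd f ξ ≫ D.y) (pullback.fst f ξ) (by
    rw [Category.assoc, D.hy]
    exact pullback.condition.symm)

variable (s)

/-- Where `s` has the candidate value. -/
def Cand.loc (D : Cand (U := U) F ξ k) : Set (pullback f ξ : Scheme.{u}) :=
  D.map f ⁻¹' agree ((EtDesc.pullSh f).obj F) (unitAt f F D.V D.t)
    (((EtDesc.pullSh f).obj F).obj.map ((EtCoh.bc f).map D.g).op s)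

variable (k) in
/-- The point of the base change of `U` at a point of the fibre. -/
noncomputable def fibToBc (hk : k ≫ U.hom = ξ) {K : Type u} [Field K]
    (z : Spec (CommRingCat.of K) ⟶ pullback f ξ) :
    Spec (CommRingCat.of K) ⟶ ((EtCoh.bc f).obj U).left :=
  z ≫ pullback.lift (pullback.snd f ξ ≫ k) (pullback.fst f ξ) (by
    rw [Category.assoc, hk]
    exact pullback.condition.symm)

lemma Cand.map_map (D : Cand (U := U) F ξ k) (hk : k ≫ U.hom = ξ) {K : Type u} [Field K]
    (z : Spec (CommRingCat.of K) ⟶ pullback f ξ) :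
    (z ≫ D.map f) ≫ ((EtCoh.bc f).map D.g).left = fibToBc f k hk z := by
  refine (Category.assoc _ _ _).trans (congrArg (z ≫ ·) (pullback.hom_ext ?_ ?_))
  · refine (Category.assoc _ _ _).trans ((congrArg (D.map f ≫ ·) (bcFst_nat f D.g)).trans ?_)
    refine (Category.assoc _ _ _).symm.trans ((congrArg (· ≫ D.g.left) (pullback.lift_fst _ _ _)).trans ?_)
    refine (Category.assoc _ _ _).trans ((congrArg (pullback.snd f ξ ≫ ·) D.hyk).trans ?_)
    exact (pullback.lift_fst _ _ _).symm
  · refine (Category.assoc _ _ _).trans ((congrArg (D.map f ≫ ·) (MorphismProperty.Over.w ((EtCoh.bc f).map D.g))).trans ?_)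
    exact (pullback.lift_snd _ _ _).trans (pullback.lift_snd _ _ _).symm

/-- The criterion for the candidate locus. -/
lemma Cand.mem_loc_iff (D : Cand (U := U) F ξ k) (hk : k ≫ U.hom = ξ) {K : Type u} [Field K] [IsSepClosed K]
    (z : Spec (CommRingCat.of K) ⟶ pullback f ξ) (ζ : Spec (CommRingCat.of K) ⟶ X')
    (hζ : z ≫ pullback.fst f ξ = ζ) (n : fib (ζ ≫ f) D.V) (hn : n.left = (z ≫ pullback.snd f ξ) ≫ D.y)
    (φ : fib ζ ((EtCoh.bc f).obj U)) (hφ : φ.left = fibToBc f k hk z) :
    z default ∈ D.loc f s ↔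
      Sets.stalkPull f ζ F (Sets.germ (ζ ≫ f) F n D.t) = Sets.germ ζ ((EtDesc.pullSh f).obj F) φ s := by
  let m : fib ζ ((EtCoh.bc f).obj D.V) := Over.homMk (z ≫ D.map f) (by
    exact (Category.assoc _ _ _).trans ((congrArg (z ≫ ·) (pullback.lift_snd _ _ _)).trans hζ))
  have hm : liftFib f ζ n = m := by
    refine Over.OverMorphism.ext (pullback.hom_ext ((pullback.lift_fst _ _ _).trans ?_)
      ((pullback.lift_snd _ _ _).trans (Over.w m).symm))
    refine hn.trans (Eq.trans ?_ (Category.assoc _ _ _).symm)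
    exact (Category.assoc _ _ _).trans (congrArg (z ≫ ·) (pullback.lift_fst _ _ _).symm)
  have hm' : (Scheme.pointSmallEtale ζ).fiber.map ((EtCoh.bc f).map D.g) m = φ :=
    Over.OverMorphism.ext ((D.map_map f hk z).trans hφ.symm)
  have hpt : fibPt m = D.map f (z default) := Scheme.Hom.comp_apply _ _ _
  show D.map f (z default) ∈ agree _ _ _ ↔ _
  rw [← hpt, mem_agree_iff_germ, Sets.germ_map, hm', Sets.germ_stalkPull, hm]
  rfl

/-- Candidates meeting on the fibre have the same value. -/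
lemma Cand.germ_eq (D D' : Cand (U := U) F ξ k) (hk : k ≫ U.hom = ξ)
    {w : (pullback f ξ : Scheme.{u})} (h : w ∈ D.loc f s) (h' : w ∈ D'.loc f s) :
    D.germ = D'.germ := by
  let z := geomPt (pullback f ξ) w
  let ζ := z ≫ pullback.fst f ξ
  let c := z ≫ pullback.snd f ξ
  let P := Gabber24.prod D.V D'.V
  have hd : D.y ≫ D.V.hom = D'.y ≫ D'.V.hom := D.hy.trans D'.hy.symm
  let y : Spec (CommRingCat.of Ω) ⟶ P.left := pullback.lift D.y D'.y hd
  have hy : y ≫ P.hom = ξ := (Category.assoc _ _ _).symm.trans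
    ((congrArg (· ≫ D.V.hom) (pullback.lift_fst _ _ _)).trans D.hy)
  let φ : fib ξ P := Over.homMk y hy
  have hc : ζ ≫ f = c ≫ ξ := by simp only [ζ, c, Category.assoc, pullback.condition]
  let φK : fib (ζ ≫ f) P := Over.homMk (c ≫ y) ((Category.assoc _ _ _).trans ((congrArg (c ≫ ·) hy).trans hc.symm))
  have hl : fibToBc f k hk z ≫ ((EtCoh.bc f).obj U).hom = ζ := by
    refine (Category.assoc _ _ _).trans (congrArg (z ≫ ·) (pullback.lift_snd _ _ _))
  let φU : fib ζ ((EtCoh.bc f).obj U) := Over.homMk (fibToBc f k hk z) hl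
  have hw : z default = w := geomPt_default w
  have h1 := (D.mem_loc_iff f s hk z ζ rfl ((Scheme.pointSmallEtale (ζ ≫ f)).fiber.map (Gabber24.prodFst D.V D'.V) φK)
    ((Category.assoc _ _ _).trans (congrArg (c ≫ ·) (pullback.lift_fst _ _ _))) φU rfl).1 (by rw [hw]; exact h)
  have h2 := (D'.mem_loc_iff f s hk z ζ rfl ((Scheme.pointSmallEtale (ζ ≫ f)).fiber.map (Gabber24.prodSnd D.V D'.V) φK)
    ((Category.assoc _ _ _).trans (congrArg (c ≫ ·) (pullback.lift_snd _ _ _))) φU rfl).1 (by rw [hw]; exact h')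
  have h3 := (ConcreteCategory.bijective_of_isIso (Sets.stalkPull f ζ F)).1 (h1.trans h2.symm)
  rw [← Sets.germ_map, ← Sets.germ_map, ← mem_agree_iff_germ] at h3
  have hpt : fibPt φK = fibPt φ :=
    (Scheme.Hom.comp_apply c y _).trans (congrArg y (Subsingleton.elim _ _))
  rw [hpt, mem_agree_iff_germ, Sets.germ_map, Sets.germ_map] at h3
  have e₁ : (Scheme.pointSmallEtale ξ).fiber.map (Gabber24.prodFst D.V D'.V) φ = Over.homMk D.y D.hy :=
    Over.OverMorphism.ext (pullback.lift_fst _ _ _)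
  have e₂ : (Scheme.pointSmallEtale ξ).fiber.map (Gabber24.prodSnd D.V D'.V) φ = Over.homMk D'.y D'.hy :=
    Over.OverMorphism.ext (pullback.lift_snd _ _ _)
  rw [e₁, e₂] at h3
  exact h3

/-- Every point of the fibre lies in some candidate locus. -/
theorem exists_cand (hk : k ≫ U.hom = ξ) (w : (pullback f ξ : Scheme.{u})) :
    ∃ D : Cand (U := U) F ξ k, w ∈ D.loc f s := by
  let z := geomPt (pullback f ξ) w
  let ζ := z ≫ pullback.fst f ξ
  let c := z ≫ pullback.snd f ξ
  have hl : fibToBc f k hk z ≫ ((EtCoh.bc f).obj U).hom = ζ :=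
    (Category.assoc _ _ _).trans (congrArg (z ≫ ·) (pullback.lift_snd _ _ _))
  let φU : fib ζ ((EtCoh.bc f).obj U) := Over.homMk (fibToBc f k hk z) hl
  obtain ⟨p, hp⟩ := (ConcreteCategory.bijective_of_isIso (Sets.stalkPull f ζ F)).2
    (Sets.germ ζ ((EtDesc.pullSh f).obj F) φU s)
  obtain ⟨V₀, z₀, t₀, rfl⟩ := Sets.germ_surjective (ζ ≫ f) F p
  let P := Gabber24.prod U V₀
  have hc : ζ ≫ f = c ≫ ξ := by simp only [ζ, c, Category.assoc, pullback.condition]
  let zP : Spec (CommRingCat.of _) ⟶ P.left := pullback.lift (c ≫ k) z₀.left (by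
    rw [Category.assoc, hk, ← hc]; exact (Over.w z₀).symm)
  have hz : zP ≫ (Gabber24.prodFst U V₀).left = c ≫ k := pullback.lift_fst _ _ _
  haveI := etale_left (Gabber24.prodFst U V₀)
  obtain ⟨y, hy, hcy⟩ := exists_descend_pt (Gabber24.prodFst U V₀).left c k zP hz
  have hyP : y ≫ P.hom = ξ := by
    refine (congrArg (y ≫ ·) (MorphismProperty.Over.w (Gabber24.prodFst U V₀)).symm).trans ?_
    exact (Category.assoc _ _ _).symm.trans ((congrArg (· ≫ U.hom) hy).trans hk)
  let D : Cand (U := U) F ξ k := ⟨P, Gabber24.prodFst U V₀, y, hyP, hy, F.obj.map (Gabber24.prodSnd U V₀).op t₀⟩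
  let n : fib (ζ ≫ f) P := Over.homMk (c ≫ y) ((Category.assoc _ _ _).trans ((congrArg (c ≫ ·) hyP).trans hc.symm))
  refine ⟨D, ?_⟩
  rw [← geomPt_default w]
  refine (D.mem_loc_iff f s hk z ζ rfl n rfl φU rfl).2 (Eq.trans ?_ hp)
  refine congrArg _ ((Sets.germ_map (ζ ≫ f) F (Gabber24.prodSnd U V₀) n t₀).trans ?_)
  refine congrArg (fun x => Sets.germ (ζ ≫ f) F x t₀) (Over.OverMorphism.ext ?_)
  show (c ≫ y) ≫ (Gabber24.prodSnd U V₀).left = z₀.left
  rw [hcy]
  exact pullback.lift_snd _ _ _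

end Fibre

/-- On geometrically connected fibres every section is compatible with the descent datum. -/
theorem compat_of_geometricallyConnected [GeometricallyConnected f] {U : X.Etale}
    (s : ((EtDesc.pullSh f).obj F).obj.obj (op ((EtCoh.bc f).obj U))) : Compat f F s := by
  intro Ω _ _ η x₁ x₂ hx
  let η₁ := η ≫ pullback.fst f f
  let η₂ := η ≫ pullback.snd f f
  let k : Spec (CommRingCat.of Ω) ⟶ U.left := x₁.left ≫ bcFst f U
  let ξ := η₁ ≫ f
  have hk : k ≫ U.hom = ξ := (Category.assoc _ _ _).trans ((congrArg (x₁.left ≫ ·) pullback.condition).trans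
    ((Category.assoc _ _ _).symm.trans (congrArg (· ≫ f) (Over.w x₁))))
  have h12 : η₂ ≫ f = ξ := by simp only [ξ, η₁, η₂, Category.assoc, pullback.condition]
  let Φ := pullback f ξ
  haveI : ConnectedSpace Φ :=
    ‹GeometricallyConnected f›.geometrically_connectedSpace _ _ _ (IsPullback.of_hasPullback f ξ)
  let w₁ : Spec (CommRingCat.of Ω) ⟶ Φ := pullback.lift η₁ (𝟙 _) (Category.id_comp ξ).symm
  let w₂ : Spec (CommRingCat.of Ω) ⟶ Φ := pullback.lift η₂ (𝟙 _) (h12.trans (Category.id_comp ξ).symm)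
  obtain ⟨D₁, hD₁⟩ := exists_cand f s (F := F) hk (w₁ default)
  obtain ⟨D₂, hD₂⟩ := exists_cand f s (F := F) hk (w₂ default)
  have hopen : ∀ D : Cand (U := U) F ξ k, IsOpen (D.loc f s) := fun D =>
    (isOpen_agree _ _ _).preimage (D.map f).continuous
  have hval : D₁.germ = D₂.germ := by
    let A : Set Φ := ⋃ D ∈ {D : Cand (U := U) F ξ k | D.germ = D₁.germ}, D.loc f s
    have hAc : Aᶜ = ⋃ D ∈ {D : Cand (U := U) F ξ k | D.germ ≠ D₁.germ}, D.loc f s := by
      ext w
      constructor
      · intro hw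
        obtain ⟨D, hD⟩ := exists_cand f s (F := F) hk w
        exact Set.mem_biUnion (show D.germ ≠ D₁.germ from fun e => hw (Set.mem_biUnion e hD)) hD
      · intro hw hA
        obtain ⟨D, hne, hD⟩ := Set.mem_iUnion₂.1 hw
        obtain ⟨D', he, hD'⟩ := Set.mem_iUnion₂.1 hA
        exact hne ((D.germ_eq f s D' hk hD hD').trans he)
    have hclopen : IsClopen A := ⟨⟨by rw [hAc]; exact isOpen_biUnion fun D _ => hopen D⟩,
      isOpen_biUnion fun D _ => hopen D⟩
    have hall : A = Set.univ := (isClopen_iff.1 hclopen).resolve_left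
      (Set.nonempty_iff_ne_empty.1 ⟨_, Set.mem_biUnion (show D₁.germ = D₁.germ from rfl) hD₁⟩)
    obtain ⟨D, he, hD⟩ := Set.mem_iUnion₂.1 (hall.ge (Set.mem_univ (w₂ default)))
    exact he.symm.trans (D.germ_eq f s D₂ hk hD hD₂)
  let P := Gabber24.prod D₁.V D₂.V
  let y : Spec (CommRingCat.of Ω) ⟶ P.left := pullback.lift D₁.y D₂.y (D₁.hy.trans D₂.hy.symm)
  have hy : y ≫ P.hom = ξ := (Category.assoc _ _ _).symm.trans
    ((congrArg (· ≫ D₁.V.hom) (pullback.lift_fst _ _ _)).trans D₁.hy)
  let t := F.obj.map (Gabber24.prodFst D₁.V D₂.V).op D₁.t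
  let n₁ : fib (η₁ ≫ f) P := Over.homMk y hy
  let n₂ : fib (η₂ ≫ f) P := Over.homMk y (hy.trans h12.symm)
  have hrel := rel_unit f F η (liftFib f η₁ n₁) (liftFib f η₂ n₂)
    ((pullback.lift_fst _ _ _).trans (pullback.lift_fst _ _ _).symm) t
  have e₁ : Sets.germ η₁ _ (liftFib f η₁ n₁) (unitAt f F P t) = Sets.germ η₁ _ x₁ s := by
    refine (Sets.germ_stalkPull f η₁ F n₁ t).symm.trans ?_
    refine Eq.trans (congrArg _ ?_) ((D₁.mem_loc_iff f s hk w₁ η₁ (pullback.lift_fst _ _ _)
      (Over.homMk D₁.y D₁.hy) (by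
        refine ((congrArg (· ≫ D₁.y) (pullback.lift_snd _ _ _)).trans (Category.id_comp _)).symm) x₁ ?_).1 hD₁)
    · refine (Sets.germ_map (η₁ ≫ f) F (Gabber24.prodFst D₁.V D₂.V) n₁ D₁.t).trans ?_
      exact congrArg (fun z => Sets.germ (η₁ ≫ f) F z D₁.t) (Over.OverMorphism.ext (pullback.lift_fst _ _ _))
    · refine pullback.hom_ext ?_ ?_
      · refine Eq.trans ?_ (Category.assoc _ _ _).symm
        refine Eq.trans ?_ (congrArg (w₁ ≫ ·) (pullback.lift_fst _ _ _)).symm
        exact ((Category.assoc _ _ _).symm.trans ((congrArg (· ≫ k) (pullback.lift_snd _ _ _)).trans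
          (Category.id_comp _))).symm
      · refine (Over.w x₁).trans (Eq.symm ?_)
        exact (Category.assoc _ _ _).trans ((congrArg (w₁ ≫ ·) (pullback.lift_snd _ _ _)).trans
          (pullback.lift_fst _ _ _))
  have e₂ : Sets.germ η₂ _ (liftFib f η₂ n₂) (unitAt f F P t) = Sets.germ η₂ _ x₂ s := by
    refine (Sets.germ_stalkPull f η₂ F n₂ t).symm.trans ?_
    refine Eq.trans (congrArg _ ?_) ((D₂.mem_loc_iff f s hk w₂ η₂ (pullback.lift_fst _ _ _)
      (Over.homMk D₂.y (D₂.hy.trans h12.symm)) (by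
        refine ((congrArg (· ≫ D₂.y) (pullback.lift_snd _ _ _)).trans (Category.id_comp _)).symm) x₂ ?_).1 hD₂)
    · have key : ∀ (ξ' : Spec (CommRingCat.of Ω) ⟶ X) (e : ξ = ξ'),
          Sets.germ ξ' F (Over.homMk y (hy.trans e) : fib ξ' P) t =
            Sets.germ ξ' F (Over.homMk D₂.y (D₂.hy.trans e) : fib ξ' D₂.V) D₂.t := by
        rintro _ rfl
        refine (Sets.germ_map ξ F (Gabber24.prodFst D₁.V D₂.V) _ D₁.t).trans (Eq.trans ?_ hval)
        exact congrArg (fun z => Sets.germ ξ F z D₁.t) (Over.OverMorphism.ext (pullback.lift_fst _ _ _))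
      exact key _ h12.symm
    · refine pullback.hom_ext ?_ ?_
      · refine hx.symm.trans (Eq.trans ?_ (Category.assoc _ _ _).symm)
        refine Eq.trans ?_ (congrArg (w₂ ≫ ·) (pullback.lift_fst _ _ _)).symm
        exact ((Category.assoc _ _ _).symm.trans ((congrArg (· ≫ k) (pullback.lift_snd _ _ _)).trans
          (Category.id_comp _))).symm
      · refine (Over.w x₂).trans (Eq.symm ?_)
        exact (Category.assoc _ _ _).trans ((congrArg (w₂ ≫ ·) (pullback.lift_snd _ _ _)).trans
          (pullback.lift_fst _ _ _))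
  rw [← e₁, ← e₂]
  exact hrel

/-- The unit is bijective on all sections. -/
theorem unitAt_bijective [GeometricallyConnected f] (hf : EtDesc.IsUnivSubmersive f) (U : X.Etale) :
    Function.Bijective (unitAt f F U) :=
  ⟨unitAt_injective f hf F U, fun s => exists_unitAt_eq f hf F s (compat_of_geometricallyConnected f F s)⟩

/-- Theorem: geometrically connected fibres and universal submersiveness make the unit an isomorphism. -/
theorem isIso_unit [GeometricallyConnected f] (hf : EtDesc.IsUnivSubmersive f) :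
    IsIso ((EtDesc.adjSh f).unit.app F) := by
  have : IsIso ((EtDesc.adjSh f).unit.app F).hom := by
    rw [NatTrans.isIso_iff_isIso_app]
    intro U
    exact (ConcreteCategory.isIso_iff_bijective _).2 (unitAt_bijective f F hf U.unop)
  haveI : IsIso ((sheafToPresheaf _ _).map ((EtDesc.adjSh f).unit.app F)) := this
  exact isIso_of_reflects_iso _ (sheafToPresheaf _ _)

end Groth.Agent.EtSets24
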