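import Groth.Agent.Lib.EtSets24.Factorizations

/-!
# Base change for sheaves of sets is etale local
-/

universe u

open CategoryTheory CategoryTheory.Limits AlgebraicGeometry Opposite

set_option backward.isDefEq.respectTransparency.types false

namespace Groth.Agent.EtSets24

open Groth.Agent.EtStalk hiding agree isOpen_agree mem_agree_iff_germ agree_symm agree_trans agree_self eq_of_agree mem_agree_map mem_agree_unit baseChange0_germ
open Groth.Agent.EtDesc24 (agree isOpen_agree mem_agree_iff_germ eq_of_agree baseChange0_germ)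
open Groth.Agent.SetsStage24 (val val_map val_congr' res val_res At at_res at_toComp toComp fromComp toComp_fromComp val_of_at_toComp exists_at ext_val)
open Groth.Agent.Gabber24 (prodFst prodSnd)

/-- Values of the image of a section under base change. -/
lemma at_sqHom {X S Y T : Scheme.{u}} (f : X ⟶ S) (g : T ⟶ S) (h : Y ⟶ X) (e : Y ⟶ T) (w : h ≫ f = e ≫ g)
    (F : EtDesc.Sh T) {V : S.Etale} {W : X.Etale} (m : W ⟶ (EtCoh.bc f).obj V)
    (t : F.obj.obj (op ((EtCoh.bc g).obj V))) {K : Type u} [Field K] [IsSepClosed K]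
    (ζ : Spec (CommRingCat.of K) ⟶ Y) (ω : Spec (CommRingCat.of K) ⟶ ((EtCoh.bc h).obj W).left)
    (hω : ω ≫ ((EtCoh.bc h).obj W).hom = ζ) (n : Spec (CommRingCat.of K) ⟶ ((EtCoh.bc g).obj V).left)
    (hn : n ≫ ((EtCoh.bc g).obj V).hom = ζ ≫ e)
    (hn' : n ≫ bcFst g V = ω ≫ bcFst h W ≫ m.left ≫ bcFst f V) :
    At e F (((EtDesc.pullSh e).obj F).obj.map ((EtCoh.bc h).map m).op
      (((EtDesc.pullSh e).obj F).obj.map (sqHom g f h e w.symm V).op (res e F t))) ζ ω hω n hn t := by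
  subst hω
  let G := (EtDesc.pullSh e).obj F
  have e0 : G.obj.map ((EtCoh.bc h).map m).op (G.obj.map (sqHom g f h e w.symm V).op (res e F t)) =
      G.obj.map (((EtCoh.bc h).map m) ≫ sqHom g f h e w.symm V).op (res e F t) := by
    rw [op_comp, Functor.map_comp_apply]
  rw [e0]
  refine at_res e F t (((EtCoh.bc h).map m) ≫ sqHom g f h e w.symm V) n hn (pullback.hom_ext ?_ ?_)
  · refine Eq.trans ?_ hn'.symm
    show ((ω ≫ ((EtCoh.bc h).map m).left ≫ (sqHom g f h e w.symm V).left) ≫ bcFst e _) ≫ bcFst g V = _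
    refine (Category.assoc _ _ _).trans ?_
    refine (Category.assoc _ _ _).trans (congrArg (ω ≫ ·) ?_)
    refine (Category.assoc _ _ _).trans ((congrArg (_ ≫ ·) (sqHom_fst g f h e w.symm V)).trans ?_)
    exact (Category.assoc _ _ _).symm.trans
      ((congrArg (· ≫ bcFst f V) (bcFst_nat h m)).trans (Category.assoc _ _ _))
  · refine Eq.trans ?_ hn.symm
    have hc : bcFst e ((EtCoh.bc g).obj V) ≫ ((EtCoh.bc g).obj V).hom =
        ((EtCoh.bc e).obj ((EtCoh.bc g).obj V)).hom ≫ e := pullback.condition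
    have hw := MorphismProperty.Over.w (((EtCoh.bc h).map m) ≫ sqHom g f h e w.symm V)
    let K' := (((EtCoh.bc h).map m) ≫ sqHom g f h e w.symm V).left
    show (ω ≫ K' ≫ bcFst e ((EtCoh.bc g).obj V)) ≫ ((EtCoh.bc g).obj V).hom = _
    refine (congrArg (· ≫ _) (Category.assoc ω K' _).symm).trans ?_
    refine (Category.assoc (ω ≫ K') _ _).trans ((congrArg ((ω ≫ K') ≫ ·) hc).trans ?_)
    refine (Category.assoc _ _ _).symm.trans (congrArg (· ≫ e) ?_)
    exact (Category.assoc _ _ _).trans (congrArg (ω ≫ ·) hw)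

lemma exists_congr_pull {P T : Scheme.{u}} {e e' : P ⟶ T} (h : e = e') (F : EtDesc.Sh T) {U : P.Etale}
    (τ : ((EtDesc.pullSh e).obj F).obj.obj (op U)) :
    ∃ σ : ((EtDesc.pullSh e').obj F).obj.obj (op U), ∀ (K : Type u) [Field K] [IsSepClosed K]
      (ζ : Spec (CommRingCat.of K) ⟶ P) (ω : Spec (CommRingCat.of K) ⟶ U.left) (hω : ω ≫ U.hom = ζ)
      (N : T.Etale) (n : Spec (CommRingCat.of K) ⟶ N.left) (hn : n ≫ N.hom = ζ ≫ e) (s : F.obj.obj (op N)),
      At e F τ ζ ω hω n hn s → At e' F σ ζ ω hω n (hn.trans (congrArg (ζ ≫ ·) h)) s := by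
  subst h
  exact ⟨τ, fun K _ _ ζ ω hω N n hn s h => h⟩

/-- Transport of a section of an inverse image to an iterated inverse image. -/
lemma exists_transfer {Y T P T' : Scheme.{u}} (e : Y ⟶ T) (e₁ : P ⟶ T') (e₂ : T' ⟶ T) (y : P ⟶ Y)
    (hy : y ≫ e = e₁ ≫ e₂) (F : EtDesc.Sh T) {W : Y.Etale} {U : P.Etale} (φ : U.left ⟶ W.left)
    (hφ : φ ≫ W.hom = U.hom ≫ y) (σ : ((EtDesc.pullSh e).obj F).obj.obj (op W)) :
    ∃ σ' : ((EtDesc.pullSh e₁).obj ((EtDesc.pullSh e₂).obj F)).obj.obj (op U),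
      ∀ (K : Type u) [Field K] [IsSepClosed K] (ζ : Spec (CommRingCat.of K) ⟶ P)
      (ω : Spec (CommRingCat.of K) ⟶ U.left) (hω : ω ≫ U.hom = ζ)
      (N : T.Etale) (n : Spec (CommRingCat.of K) ⟶ N.left) (hn : n ≫ N.hom = (ζ ≫ e₁) ≫ e₂)
      (s : F.obj.obj (op N)) (ha : (ω ≫ φ) ≫ W.hom = ζ ≫ y) (hn' : n ≫ N.hom = (ζ ≫ y) ≫ e),
      At e F σ (ζ ≫ y) (ω ≫ φ) ha n hn' s →
      val ((EtDesc.pullSh e₁).obj ((EtDesc.pullSh e₂).obj F)) ζ ω hω σ' =
        Sets.stalkPull e₁ ζ _ (Sets.stalkPull e₂ (ζ ≫ e₁) F (val F ((ζ ≫ e₁) ≫ e₂) n hn s)) := by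
  let G := (EtDesc.pullSh e).obj F
  let m : U ⟶ (EtCoh.bc y).obj W :=
    MorphismProperty.Over.homMk (pullback.lift φ U.hom hφ) (pullback.lift_snd _ _ _)
  let τ := ((EtDesc.pullSh y).obj G).obj.map m.op (res y G σ)
  obtain ⟨σ'', hσ''⟩ := exists_congr_pull hy F (toComp F y e τ)
  refine ⟨fromComp F e₁ e₂ σ'', fun K _ _ ζ ω hω N n hn s ha hn' h => ?_⟩
  have hτ : At y G τ ζ ω hω (ω ≫ φ) ha σ :=
    at_res y G σ m (ω ≫ φ) ha (congrArg (ω ≫ ·) (pullback.lift_fst _ _ _))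
  have h1 := at_toComp F y e τ ω hω n hn' s (hτ.trans (congrArg _ h))
  have h2 := hσ'' K ζ ω hω N n _ s h1
  refine val_of_at_toComp F e₁ e₂ _ ω hω n hn s ?_
  rw [toComp_fromComp]
  exact h2

set_option maxHeartbeats 1000000 in
/-- One chart. -/
theorem bijective_stalk_of_chart {X S Y T : Scheme.{u}} (f : X ⟶ S) (g : T ⟶ S) (h : Y ⟶ X) (e : Y ⟶ T)
    (c : IsPullback e h g f) (F : EtDesc.Sh T) (U : X.Etale) (V : S.Etale) (a : U.left ⟶ V.left)
    (ha : a ≫ V.hom = U.hom ≫ f) {T₁ Y₁ : Scheme.{u}} (g₁ : T₁ ⟶ V.left) (t₁ : T₁ ⟶ T)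
    (cT : IsPullback t₁ g₁ g V.hom) (h₁ : Y₁ ⟶ U.left) (e₁ : Y₁ ⟶ T₁) (cY : IsPullback e₁ h₁ g₁ a)
    (hloc : IsIso (EtBC.baseChange0Sh g₁ a h₁ e₁ cY.w ((EtDesc.pullSh t₁).obj F)))
    {Ω : Type u} [Field Ω] [IsSepClosed Ω] (ξ : Spec (CommRingCat.of Ω) ⟶ U.left) :
    Function.Bijective ((Sets.stalk (ξ ≫ U.hom)).map (EtBC.baseChange0Sh g f h e c.w F)) := by
  haveI : AlgebraicGeometry.Etale U.hom := U.prop
  haveI : AlgebraicGeometry.Etale V.hom := V.prop
  let G := (EtDesc.pullSh e).obj F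
  let F₁ := (EtDesc.pullSh t₁).obj F
  let G₁ := (EtDesc.pullSh e₁).obj F₁
  let ξ₀ := ξ ≫ U.hom
  let y : Y₁ ⟶ Y := c.lift (e₁ ≫ t₁) (h₁ ≫ U.hom) (by
    rw [Category.assoc, cT.w, ← Category.assoc, cY.w, Category.assoc, ha, Category.assoc])
  have hye : y ≫ e = e₁ ≫ t₁ := c.lift_fst _ _ _
  have hyh : y ≫ h = h₁ ≫ U.hom := c.lift_snd _ _ _
  have hη : (ξ ≫ a) ≫ V.hom = ξ₀ ≫ f := by rw [Category.assoc, ha, ← Category.assoc]
  have hb := ConcreteCategory.bijective_of_isIso (Sets.stalkPull f ξ₀ ((EtDesc.pushSh g).obj F))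
  have hb₁ := ConcreteCategory.bijective_of_isIso (Sets.stalkPull a ξ ((EtDesc.pushSh g₁).obj F₁))
  have himg : ∀ {W : S.Etale} (v : fib (ξ₀ ≫ f) W) (t : F.obj.obj (op ((EtCoh.bc g).obj W))),
      (Sets.stalk ξ₀).map (EtBC.baseChange0Sh g f h e c.w F)
        (Sets.stalkPull f ξ₀ ((EtDesc.pushSh g).obj F) (Sets.germ (ξ₀ ≫ f) _ v t)) =
      Sets.germ ξ₀ ((EtDesc.pushSh h).obj G) (liftFib f ξ₀ v) (G.obj.map (sqHom g f h e c.w W).op (res e F t)) := by
    intro W v t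
    rw [Sets.germ_stalkPull, Sets.germ_nat, baseChange0_germ]
  have himg₁ : ∀ {W : V.left.Etale} (v : fib (ξ ≫ a) W) (t : F₁.obj.obj (op ((EtCoh.bc g₁).obj W))),
      (Sets.stalk ξ).map (EtBC.baseChange0Sh g₁ a h₁ e₁ cY.w F₁)
        (Sets.stalkPull a ξ ((EtDesc.pushSh g₁).obj F₁) (Sets.germ (ξ ≫ a) _ v t)) =
      Sets.germ ξ ((EtDesc.pushSh h₁).obj G₁) (liftFib a ξ v) (G₁.obj.map (sqHom g₁ a h₁ e₁ cY.w W).op (res e₁ F₁ t)) := by
    intro W v t
    rw [Sets.germ_stalkPull, Sets.germ_nat, baseChange0_germ]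
  have hbij := ConcreteCategory.bijective_of_isIso ((Sets.stalk ξ).map (EtBC.baseChange0Sh g₁ a h₁ e₁ cY.w F₁))
  constructor
  · intro p q hpq
    obtain ⟨p', rfl⟩ := hb.2 p
    obtain ⟨q', rfl⟩ := hb.2 q
    obtain ⟨W, v, t, t', rfl, rfl⟩ := GrothendieckTopology.Point.toPresheafFiber_jointly_surjective₂
      (Scheme.pointSmallEtale (ξ₀ ≫ f)) (A := Type (u + 1)) (CC := fun X => X)
      (P := ((EtDesc.pushSh g).obj F).obj) p' q'
    change (Sets.stalk ξ₀).map _ (Sets.stalkPull f ξ₀ _ (Sets.germ (ξ₀ ≫ f) _ v t)) =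
      (Sets.stalk ξ₀).map _ (Sets.stalkPull f ξ₀ _ (Sets.germ (ξ₀ ≫ f) _ v t')) at hpq
    show Sets.stalkPull f ξ₀ _ (Sets.germ (ξ₀ ≫ f) _ v t) = Sets.stalkPull f ξ₀ _ (Sets.germ (ξ₀ ≫ f) _ v t')
    rw [himg, himg] at hpq
    refine congrArg _ ?_
    obtain ⟨W', m, w, hw, hWt⟩ := (Sets.germ_eq_iff ξ₀ ((EtDesc.pushSh h).obj G) _ _ _).1 hpq
    -- the local objects
    let Wl := (EtCoh.bc V.hom).obj W
    let vl : fib (ξ ≫ a) Wl := Over.homMk (pullback.lift v.left (ξ ≫ a) ((Over.w v).trans hη.symm))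
      (pullback.lift_snd _ _ _)
    let mT : ((EtCoh.bc g₁).obj Wl).left ⟶ ((EtCoh.bc g).obj W).left :=
      pullback.lift (bcFst g₁ Wl ≫ bcFst V.hom W) (((EtCoh.bc g₁).obj Wl).hom ≫ t₁) (by
        rw [Category.assoc, show bcFst V.hom W ≫ W.hom = Wl.hom ≫ V.hom from pullback.condition,
          ← Category.assoc, show bcFst g₁ Wl ≫ Wl.hom = ((EtCoh.bc g₁).obj Wl).hom ≫ g₁ from pullback.condition,
          Category.assoc, Category.assoc, cT.w])
    have hmT : mT ≫ ((EtCoh.bc g).obj W).hom = ((EtCoh.bc g₁).obj Wl).hom ≫ t₁ := pullback.lift_snd _ _ _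
    let mTo : (EtCoh.bc g₁).obj Wl ⟶ (EtCoh.bc t₁).obj ((EtCoh.bc g).obj W) :=
      MorphismProperty.Over.homMk (pullback.lift mT ((EtCoh.bc g₁).obj Wl).hom hmT) (pullback.lift_snd _ _ _)
    let tl (s : F.obj.obj (op ((EtCoh.bc g).obj W))) : F₁.obj.obj (op ((EtCoh.bc g₁).obj Wl)) :=
      F₁.obj.map mTo.op (res t₁ F s)
    have htl : ∀ (s : F.obj.obj (op ((EtCoh.bc g).obj W))) (K : Type u) [Field K] [IsSepClosed K]
        (ζ : Spec (CommRingCat.of K) ⟶ T₁) (ω : Spec (CommRingCat.of K) ⟶ ((EtCoh.bc g₁).obj Wl).left)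
        (hω : ω ≫ ((EtCoh.bc g₁).obj Wl).hom = ζ) (n : Spec (CommRingCat.of K) ⟶ ((EtCoh.bc g).obj W).left)
        (hn : n ≫ ((EtCoh.bc g).obj W).hom = ζ ≫ t₁) (_ : ω ≫ mT = n),
        At t₁ F (tl s) ζ ω hω n hn s := by
      intro s K _ _ ζ ω hω n hn he
      exact at_res t₁ F s mTo n hn ((congrArg (ω ≫ ·) (pullback.lift_fst _ _ _)).trans he)
    let W'l := (EtCoh.bc U.hom).obj W'
    let ml' : W'l.left ⟶ Wl.left := pullback.lift (bcFst U.hom W' ≫ m.left ≫ bcFst f W) (W'l.hom ≫ a) (by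
      rw [Category.assoc, Category.assoc, show bcFst f W ≫ W.hom = ((EtCoh.bc f).obj W).hom ≫ f from pullback.condition,
        ← Category.assoc m.left, MorphismProperty.Over.w m, ← Category.assoc,
        show bcFst U.hom W' ≫ W'.hom = W'l.hom ≫ U.hom from pullback.condition, Category.assoc, Category.assoc, ha])
    let ml : W'l ⟶ (EtCoh.bc a).obj Wl :=
      MorphismProperty.Over.homMk (pullback.lift ml' W'l.hom (pullback.lift_snd _ _ _)) (pullback.lift_snd _ _ _)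
    let wl : fib ξ W'l := Over.homMk (pullback.lift w.left ξ (Over.w w)) (pullback.lift_snd _ _ _)
    have hwl : (Scheme.pointSmallEtale ξ).fiber.map ml wl = liftFib a ξ vl := by
      refine Over.OverMorphism.ext ?_
      show pullback.lift w.left ξ _ ≫ pullback.lift ml' W'l.hom _ = _
      apply pullback.hom_ext
      · refine Eq.trans ?_ (pullback.lift_fst _ _ _).symm
        rw [Category.assoc, pullback.lift_fst]
        apply pullback.hom_ext
        · refine Eq.trans ?_ (pullback.lift_fst _ _ _).symm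
          refine ((Category.assoc _ _ _).trans (congrArg (_ ≫ ·) (pullback.lift_fst _ _ _))).trans ?_
          refine ((Category.assoc _ _ _).symm.trans
            (congrArg (· ≫ (m.left ≫ bcFst f W)) (pullback.lift_fst _ _ _))).trans ?_
          refine (Category.assoc _ _ _).symm.trans ?_
          have := congrArg (fun x : fib ξ₀ ((EtCoh.bc f).obj W) => x.left ≫ bcFst f W) hw
          exact this.trans (pullback.lift_fst _ _ _)
        · refine Eq.trans ?_ (pullback.lift_snd _ _ _).symm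
          refine ((Category.assoc _ _ _).trans (congrArg (_ ≫ ·) (pullback.lift_snd _ _ _))).trans ?_
          exact (Category.assoc _ _ _).symm.trans (congrArg (· ≫ a) (pullback.lift_snd _ _ _))
      · refine Eq.trans ?_ (pullback.lift_snd _ _ _).symm
        rw [Category.assoc, pullback.lift_snd]
        exact pullback.lift_snd _ _ _
    have hloc_eq : G₁.obj.map ((EtCoh.bc h₁).map ml).op (G₁.obj.map (sqHom g₁ a h₁ e₁ cY.w Wl).op (res e₁ F₁ (tl t))) =
        G₁.obj.map ((EtCoh.bc h₁).map ml).op (G₁.obj.map (sqHom g₁ a h₁ e₁ cY.w Wl).op (res e₁ F₁ (tl t'))) := by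
      refine ext_val fun K _ _ ζ ω hω => ?_
      let nl : Spec (CommRingCat.of K) ⟶ ((EtCoh.bc g₁).obj Wl).left :=
        pullback.lift ((ω ≫ bcFst h₁ W'l) ≫ ml') (ζ ≫ e₁) (by
          rw [Category.assoc, show ml' ≫ Wl.hom = W'l.hom ≫ a from pullback.lift_snd _ _ _, Category.assoc ω,
            ← Category.assoc (bcFst h₁ W'l), show bcFst h₁ W'l ≫ W'l.hom = ((EtCoh.bc h₁).obj W'l).hom ≫ h₁ from pullback.condition,
            Category.assoc, ← cY.w, ← Category.assoc, hω, Category.assoc])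
      have hnl : nl ≫ ((EtCoh.bc g₁).obj Wl).hom = ζ ≫ e₁ := pullback.lift_snd _ _ _
      have hnl' : nl ≫ bcFst g₁ Wl = ω ≫ bcFst h₁ W'l ≫ ml.left ≫ bcFst a Wl := by
        refine (pullback.lift_fst _ _ _).trans ?_
        rw [Category.assoc]
        exact congrArg (ω ≫ bcFst h₁ W'l ≫ ·) (pullback.lift_fst ml' W'l.hom _).symm
      let ψ : Spec (CommRingCat.of K) ⟶ ((EtCoh.bc h).obj W').left :=
        pullback.lift ((ω ≫ bcFst h₁ W'l) ≫ bcFst U.hom W') (ζ ≫ y) (by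
          rw [Category.assoc, show bcFst U.hom W' ≫ W'.hom = W'l.hom ≫ U.hom from pullback.condition,
            Category.assoc ω, ← Category.assoc (bcFst h₁ W'l),
            show bcFst h₁ W'l ≫ W'l.hom = ((EtCoh.bc h₁).obj W'l).hom ≫ h₁ from pullback.condition,
            Category.assoc, ← hyh, ← Category.assoc, hω, Category.assoc])
      let n := nl ≫ mT
      have hn : n ≫ ((EtCoh.bc g).obj W).hom = (ζ ≫ y) ≫ e := by
        rw [Category.assoc, hmT, ← Category.assoc, hnl, Category.assoc, Category.assoc, hye]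
      have hn' : n ≫ bcFst g W = ψ ≫ bcFst h W' ≫ m.left ≫ bcFst f W := by
        refine (Category.assoc _ _ _).trans ((congrArg (nl ≫ ·) (pullback.lift_fst _ _ _)).trans ?_)
        rw [← Category.assoc nl, show nl ≫ bcFst g₁ Wl = _ from pullback.lift_fst _ _ _, Category.assoc,
          show ml' ≫ bcFst V.hom W = _ from pullback.lift_fst _ _ _, ← Category.assoc ψ,
          show ψ ≫ bcFst h W' = _ from pullback.lift_fst _ _ _]
        simp only [Category.assoc]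
      have e2 := congrArg (fun s => val G (ζ ≫ y) ψ (pullback.lift_snd _ _ _) s) hWt
      have hv := SetsStage24.At.val_eq (at_sqHom f g h e c.w.symm F m t (ζ ≫ y) ψ (pullback.lift_snd _ _ _) n hn hn')
        ((e2.trans (at_sqHom f g h e c.w.symm F m t' (ζ ≫ y) ψ (pullback.lift_snd _ _ _) n hn hn') :))
      have hn₁ : n ≫ ((EtCoh.bc g).obj W).hom = (ζ ≫ e₁) ≫ t₁ := by rw [hn, Category.assoc, Category.assoc, hye]
      have hv' : val F ((ζ ≫ e₁) ≫ t₁) n hn₁ t = val F ((ζ ≫ e₁) ≫ t₁) n hn₁ t' :=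
        (val_congr' F (by rw [Category.assoc, Category.assoc, hye]) rfl rfl).1 hv
      refine (at_sqHom a g₁ h₁ e₁ cY.w.symm F₁ ml (tl t) ζ ω hω nl hnl hnl').trans (Eq.trans (congrArg _ ?_)
        (at_sqHom a g₁ h₁ e₁ cY.w.symm F₁ ml (tl t') ζ ω hω nl hnl hnl').symm)
      exact (htl t K _ nl hnl n hn₁ rfl).trans ((congrArg _ hv').trans (htl t' K _ nl hnl n hn₁ rfl).symm)
    have hpq₁ : Sets.germ (ξ ≫ a) ((EtDesc.pushSh g₁).obj F₁) vl (tl t) =
        Sets.germ (ξ ≫ a) ((EtDesc.pushSh g₁).obj F₁) vl (tl t') := by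
      refine hb₁.1 (hbij.1 ?_)
      rw [himg₁, himg₁, ← hwl, ← Sets.germ_map, ← Sets.germ_map]
      exact congrArg _ hloc_eq
    obtain ⟨W'', j, v'', hv'', heq⟩ := (Sets.germ_eq_iff (ξ ≫ a) ((EtDesc.pushSh g₁).obj F₁) vl _ _).1 hpq₁
    haveI : AlgebraicGeometry.Etale W''.hom := W''.prop
    let WS : S.Etale := Scheme.Etale.mk (W''.hom ≫ V.hom)
    let jS : WS ⟶ W := MorphismProperty.Over.homMk (j.left ≫ bcFst V.hom W) (by
      show (j.left ≫ bcFst V.hom W) ≫ W.hom = W''.hom ≫ V.hom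
      rw [Category.assoc, show bcFst V.hom W ≫ W.hom = Wl.hom ≫ V.hom from pullback.condition,
        ← Category.assoc, MorphismProperty.Over.w j])
    let vl'' : Spec (CommRingCat.of Ω) ⟶ W''.left := v''.left
    let vS : fib (ξ₀ ≫ f) WS := Over.homMk vl'' (by
      show vl'' ≫ W''.hom ≫ V.hom = _
      rw [← Category.assoc]
      exact (congrArg (· ≫ V.hom) (Over.w v'')).trans hη)
    have hvS : (Scheme.pointSmallEtale (ξ₀ ≫ f)).fiber.map jS vS = v := by
      refine Over.OverMorphism.ext ?_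
      show vl'' ≫ j.left ≫ bcFst V.hom W = v.left
      rw [← Category.assoc]
      exact (congrArg (fun x : fib (ξ ≫ a) Wl => x.left ≫ bcFst V.hom W) hv'').trans (pullback.lift_fst _ _ _)
    refine (Sets.germ_eq_iff (ξ₀ ≫ f) ((EtDesc.pushSh g).obj F) v t t').2 ⟨WS, jS, vS, hvS, ?_⟩
    show F.obj.map ((EtCoh.bc g).map jS).op t = F.obj.map ((EtCoh.bc g).map jS).op t'
    refine ext_val fun K _ _ ζ ω hω => ?_
    have hω' : (ω ≫ bcFst g WS) ≫ W''.hom ≫ V.hom = ζ ≫ g := by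
      rw [Category.assoc, show bcFst g WS ≫ W''.hom ≫ V.hom = ((EtCoh.bc g).obj WS).hom ≫ g from pullback.condition,
        ← Category.assoc, hω]
    let p := cT.lift ζ ((ω ≫ bcFst g WS) ≫ W''.hom) (by rw [← hω', Category.assoc (ω ≫ bcFst g WS)])
    let ωl : Spec (CommRingCat.of K) ⟶ ((EtCoh.bc g₁).obj W'').left :=
      pullback.lift (ω ≫ bcFst g WS) p (cT.lift_snd _ _ _).symm
    have hωl : ωl ≫ ((EtCoh.bc g₁).obj W'').hom = p := pullback.lift_snd _ _ _
    let nl := ωl ≫ ((EtCoh.bc g₁).map j).left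
    have hnl : nl ≫ ((EtCoh.bc g₁).obj Wl).hom = p := by
      rw [Category.assoc, MorphismProperty.Over.w, hωl]
    let n := ω ≫ ((EtCoh.bc g).map jS).left
    have hn : n ≫ ((EtCoh.bc g).obj W).hom = p ≫ t₁ := by
      rw [Category.assoc, MorphismProperty.Over.w, hω, cT.lift_fst]
    have hen : nl ≫ mT = n := by
      apply pullback.hom_ext
      · refine (Category.assoc _ _ _).trans ((congrArg (nl ≫ ·) (pullback.lift_fst _ _ _)).trans ?_)
        refine Eq.trans ?_ ((Category.assoc _ _ _).trans (congrArg (ω ≫ ·) (bcFst_nat g jS))).symm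
        show (ωl ≫ _) ≫ bcFst g₁ Wl ≫ bcFst V.hom W = ω ≫ bcFst g WS ≫ j.left ≫ bcFst V.hom W
        rw [Category.assoc, ← Category.assoc ((EtCoh.bc g₁).map j).left, bcFst_nat, Category.assoc,
          ← Category.assoc ωl, show ωl ≫ bcFst g₁ W'' = _ from pullback.lift_fst _ _ _, Category.assoc]
        rfl
      · refine Eq.trans ?_ hn.symm
        refine (Category.assoc _ _ _).trans ((congrArg (nl ≫ ·) hmT).trans ?_)
        rw [← Category.assoc, hnl]
    have h3 : val F₁ p nl hnl (tl t) = val F₁ p nl hnl (tl t') := by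
      refine (val_map F₁ p ((EtCoh.bc g₁).map j) ωl hωl nl hnl rfl (tl t)).symm.trans
        ((congrArg (fun s => val F₁ p ωl hωl s) heq).trans ?_)
      exact val_map F₁ p ((EtCoh.bc g₁).map j) ωl hωl nl hnl rfl (tl t')
    have h4 := SetsStage24.At.val_eq (htl t K p nl hnl n hn hen)
      (h3.trans (htl t' K p nl hnl n hn hen) :)
    have hnζ : n ≫ ((EtCoh.bc g).obj W).hom = ζ := by rw [hn, cT.lift_fst]
    refine (val_map F ζ ((EtCoh.bc g).map jS) ω hω n hnζ rfl t).trans (Eq.trans ?_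
      (val_map F ζ ((EtCoh.bc g).map jS) ω hω n hnζ rfl t').symm)
    exact (val_congr' F (cT.lift_fst _ _ _) rfl rfl).1 h4
  · intro q
    obtain ⟨W', w, σ, rfl⟩ := Sets.germ_surjective ξ₀ ((EtDesc.pushSh h).obj G) q
    let W'l := (EtCoh.bc U.hom).obj W'
    let wl : fib ξ W'l := Over.homMk (pullback.lift w.left ξ (Over.w w)) (pullback.lift_snd _ _ _)
    let φ : ((EtCoh.bc h₁).obj W'l).left ⟶ ((EtCoh.bc h).obj W').left :=
      pullback.lift (bcFst h₁ W'l ≫ bcFst U.hom W') (((EtCoh.bc h₁).obj W'l).hom ≫ y) (by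
        rw [Category.assoc, show bcFst U.hom W' ≫ W'.hom = W'l.hom ≫ U.hom from pullback.condition,
          ← Category.assoc, show bcFst h₁ W'l ≫ W'l.hom = ((EtCoh.bc h₁).obj W'l).hom ≫ h₁ from pullback.condition,
          Category.assoc, Category.assoc, hyh])
    obtain ⟨σl, hσl⟩ := exists_transfer e e₁ t₁ y hye F φ (pullback.lift_snd _ _ _) σ
    obtain ⟨p, hp⟩ := hbij.2 (Sets.germ ξ ((EtDesc.pushSh h₁).obj G₁) wl σl)
    obtain ⟨p', rfl⟩ := hb₁.2 p
    obtain ⟨W'', v'', t'', rfl⟩ := Sets.germ_surjective (ξ ≫ a) ((EtDesc.pushSh g₁).obj F₁) p'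
    rw [himg₁] at hp
    haveI : AlgebraicGeometry.Etale W''.hom := W''.prop
    let WS : S.Etale := Scheme.Etale.mk (W''.hom ≫ V.hom)
    let θ : ((EtCoh.bc g₁).obj W'').left ⟶ ((EtCoh.bc g).obj WS).left :=
      pullback.lift (bcFst g₁ W'') (((EtCoh.bc g₁).obj W'').hom ≫ t₁) (by
        show bcFst g₁ W'' ≫ W''.hom ≫ V.hom = _
        rw [← Category.assoc, show bcFst g₁ W'' ≫ W''.hom = ((EtCoh.bc g₁).obj W'').hom ≫ g₁ from pullback.condition,
          Category.assoc, Category.assoc, cT.w])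
    haveI : IsIso θ := by
      have hpb : IsPullback (bcFst g₁ W'') (((EtCoh.bc g₁).obj W'').hom ≫ t₁) WS.hom g :=
        (IsPullback.of_hasPullback W''.hom g₁).paste_vert cT.flip
      rw [show θ = hpb.isoPullback.hom from pullback.hom_ext
        ((pullback.lift_fst _ _ _).trans hpb.isoPullback_hom_fst.symm)
        ((pullback.lift_snd _ _ _).trans hpb.isoPullback_hom_snd.symm)]
      infer_instance
    haveI : GeometricallyConnected θ := ⟨fun K _ k Q p₁ p₂ hP => by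
      haveI : IsIso p₂ := MorphismProperty.of_isPullback (P := MorphismProperty.isomorphisms Scheme.{u}) hP
        (inferInstance : IsIso θ)
      exact p₂.homeomorph.symm.surjective.connectedSpace p₂.homeomorph.symm.continuous⟩
    obtain ⟨t, ht⟩ := exists_section_of_square t₁ F ((EtCoh.bc g₁).obj W'') ((EtCoh.bc g).obj WS) θ
      (pullback.lift_snd _ _ _) (isUnivSubmersive_of_flat θ) t''
    let vl'' : Spec (CommRingCat.of Ω) ⟶ W''.left := v''.left
    let vS : fib (ξ₀ ≫ f) WS := Over.homMk vl'' (by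
      show vl'' ≫ W''.hom ≫ V.hom = _
      rw [← Category.assoc]
      exact (congrArg (· ≫ V.hom) (Over.w v'')).trans hη)
    refine ⟨Sets.stalkPull f ξ₀ _ (Sets.germ (ξ₀ ≫ f) _ vS t), (himg vS t).trans ?_⟩
    -- the equality of germs over the chart
    let P := Gabber24.prod ((EtCoh.bc a).obj W'') W'l
    let la : Spec (CommRingCat.of Ω) ⟶ ((EtCoh.bc a).obj W'').left := (liftFib a ξ v'').left
    let vP : fib ξ P := Over.homMk (pullback.lift la wl.left ((Over.w (liftFib a ξ v'')).trans (Over.w wl).symm)) (by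
      show pullback.lift la wl.left _ ≫ pullback.fst _ _ ≫ ((EtCoh.bc a).obj W'').hom = ξ
      rw [← Category.assoc, pullback.lift_fst]
      exact Over.w (liftFib a ξ v''))
    have hP₁ : (Scheme.pointSmallEtale ξ).fiber.map (prodFst _ _) vP = liftFib a ξ v'' :=
      Over.OverMorphism.ext (pullback.lift_fst _ _ _)
    have hP₂ : (Scheme.pointSmallEtale ξ).fiber.map (prodSnd _ _) vP = wl :=
      Over.OverMorphism.ext (pullback.lift_snd _ _ _)
    rw [← hP₁, ← hP₂, ← Sets.germ_map, ← Sets.germ_map] at hp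
    obtain ⟨R, r, z, hz, hR⟩ := (Sets.germ_eq_iff ξ ((EtDesc.pushSh h₁).obj G₁) vP _ _).1 hp
    haveI : AlgebraicGeometry.Etale R.hom := R.prop
    let RX : X.Etale := Scheme.Etale.mk (R.hom ≫ U.hom)
    let k₁ : R ⟶ (EtCoh.bc a).obj W'' := r ≫ prodFst _ _
    let k₂ : R ⟶ W'l := r ≫ prodSnd _ _
    let zl : Spec (CommRingCat.of Ω) ⟶ R.left := z.left
    let zX : fib ξ₀ RX := Over.homMk zl (by
      show zl ≫ R.hom ≫ U.hom = _
      rw [← Category.assoc]
      exact congrArg (· ≫ U.hom) (Over.w z))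
    have hk₁w : (k₁.left ≫ bcFst a W'') ≫ W''.hom = R.hom ≫ a := by
      rw [Category.assoc, show bcFst a W'' ≫ W''.hom = ((EtCoh.bc a).obj W'').hom ≫ a from pullback.condition,
        ← Category.assoc, MorphismProperty.Over.w k₁]
    let m₁ : RX ⟶ (EtCoh.bc f).obj WS :=
      MorphismProperty.Over.homMk (pullback.lift (k₁.left ≫ bcFst a W'') (R.hom ≫ U.hom) (by
        show (k₁.left ≫ bcFst a W'') ≫ W''.hom ≫ V.hom = (R.hom ≫ U.hom) ≫ f
        rw [← Category.assoc, hk₁w, Category.assoc, ha, Category.assoc])) (pullback.lift_snd _ _ _)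
    let m₂ : RX ⟶ W' := MorphismProperty.Over.homMk (k₂.left ≫ bcFst U.hom W') (by
      show (k₂.left ≫ bcFst U.hom W') ≫ W'.hom = R.hom ≫ U.hom
      rw [Category.assoc, show bcFst U.hom W' ≫ W'.hom = W'l.hom ≫ U.hom from pullback.condition,
        ← Category.assoc, MorphismProperty.Over.w k₂])
    have hm₁ : (Scheme.pointSmallEtale ξ₀).fiber.map m₁ zX = liftFib f ξ₀ vS := by
      refine Over.OverMorphism.ext ?_
      show zl ≫ pullback.lift (k₁.left ≫ bcFst a W'') (R.hom ≫ U.hom) _ = _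
      apply pullback.hom_ext
      · refine Eq.trans ?_ (pullback.lift_fst _ _ _).symm
        rw [Category.assoc, pullback.lift_fst]
        show zl ≫ (r.left ≫ (prodFst _ _).left) ≫ bcFst a W'' = vl''
        rw [← Category.assoc, ← Category.assoc]
        refine (congrArg (fun x : fib ξ P => (x.left ≫ (prodFst _ _).left) ≫ bcFst a W'') hz).trans ?_
        exact (congrArg (· ≫ bcFst a W'') (pullback.lift_fst _ _ _)).trans (pullback.lift_fst _ _ _)
      · refine Eq.trans ?_ (pullback.lift_snd _ _ _).symm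
        rw [Category.assoc, pullback.lift_snd]
        exact Over.w zX
    have hm₂ : (Scheme.pointSmallEtale ξ₀).fiber.map m₂ zX = w := by
      refine Over.OverMorphism.ext ?_
      show zl ≫ (r.left ≫ (prodSnd _ _).left) ≫ bcFst U.hom W' = w.left
      rw [← Category.assoc, ← Category.assoc]
      refine (congrArg (fun x : fib ξ P => (x.left ≫ (prodSnd _ _).left) ≫ bcFst U.hom W') hz).trans ?_
      exact (congrArg (· ≫ bcFst U.hom W') (pullback.lift_snd _ _ _)).trans (pullback.lift_fst _ _ _)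
    rw [← hm₁, ← hm₂, ← Sets.germ_map, ← Sets.germ_map]
    refine congrArg _ ?_
    show G.obj.map ((EtCoh.bc h).map m₁).op _ = G.obj.map ((EtCoh.bc h).map m₂).op σ
    refine ext_val fun K _ _ ζ ψ hψ => ?_
    have hψ' : ((ψ ≫ bcFst h RX) ≫ R.hom) ≫ U.hom = ζ ≫ h := by
      rw [Category.assoc, Category.assoc, show bcFst h RX ≫ R.hom ≫ U.hom = ((EtCoh.bc h).obj RX).hom ≫ h from pullback.condition,
        ← Category.assoc, hψ]
    let ρ : Spec (CommRingCat.of K) ⟶ U.left := (ψ ≫ bcFst h RX) ≫ R.hom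
    let τ := cT.lift (ζ ≫ e) (ρ ≫ a) (by
      rw [Category.assoc, c.w, ← Category.assoc, ← hψ', Category.assoc, Category.assoc ρ a, ha])
    let ζ₁ : Spec (CommRingCat.of K) ⟶ Y₁ := cY.lift τ ρ (cT.lift_snd _ _ _)
    have hζy : ζ₁ ≫ y = ζ := by
      apply c.hom_ext
      · rw [Category.assoc, hye, ← Category.assoc, cY.lift_fst, cT.lift_fst]
      · rw [Category.assoc, hyh, ← Category.assoc, cY.lift_snd, hψ']
    have hψ₁ : ψ ≫ ((EtCoh.bc h).obj RX).hom = ζ₁ ≫ y := hψ.trans hζy.symm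
    refine (val_congr' G hζy rfl rfl (ha := hψ₁) (hb := hψ₁)).1 ?_
    let ω : Spec (CommRingCat.of K) ⟶ ((EtCoh.bc h₁).obj R).left :=
      pullback.lift (ψ ≫ bcFst h RX) ζ₁ (cY.lift_snd _ _ _).symm
    have hω : ω ≫ ((EtCoh.bc h₁).obj R).hom = ζ₁ := pullback.lift_snd _ _ _
    have hωf : ω ≫ bcFst h₁ R = ψ ≫ bcFst h RX := pullback.lift_fst _ _ _
    let nl : Spec (CommRingCat.of K) ⟶ ((EtCoh.bc g₁).obj W'').left :=
      pullback.lift ((ψ ≫ bcFst h RX) ≫ k₁.left ≫ bcFst a W'') (ζ₁ ≫ e₁) (by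
        refine (Category.assoc _ _ _).trans ((congrArg (_ ≫ ·) hk₁w).trans ?_)
        exact (Category.assoc _ _ _).symm.trans ((congrArg (· ≫ a) (cY.lift_snd τ ρ (cT.lift_snd _ _ _)).symm).trans
          (((Category.assoc _ _ _).trans (congrArg (ζ₁ ≫ ·) cY.w.symm)).trans (Category.assoc _ _ _).symm)))
    have hnl : nl ≫ ((EtCoh.bc g₁).obj W'').hom = ζ₁ ≫ e₁ := pullback.lift_snd _ _ _
    let n := nl ≫ θ
    have hn : n ≫ ((EtCoh.bc g).obj WS).hom = (ζ₁ ≫ y) ≫ e := by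
      refine (Category.assoc _ _ _).trans ((congrArg (nl ≫ ·) (pullback.lift_snd _ _ _)).trans ?_)
      rw [← Category.assoc, hnl, Category.assoc, Category.assoc, hye]
    have hn' : n ≫ bcFst g WS = ψ ≫ bcFst h RX ≫ m₁.left ≫ bcFst f WS := by
      refine (Category.assoc _ _ _).trans ((congrArg (nl ≫ ·) (pullback.lift_fst _ _ _)).trans ?_)
      refine (pullback.lift_fst _ _ _).trans ?_
      rw [Category.assoc]
      exact congrArg (ψ ≫ bcFst h RX ≫ ·) (pullback.lift_fst (k₁.left ≫ bcFst a W'') (R.hom ≫ U.hom) _).symm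
    refine (at_sqHom f g h e c.w.symm F m₁ t (ζ₁ ≫ y) ψ hψ₁ n hn hn').trans ?_
    let ω₂ := ω ≫ ((EtCoh.bc h₁).map k₂).left
    have hω₂ : ω₂ ≫ ((EtCoh.bc h₁).obj W'l).hom = ζ₁ := by
      rw [Category.assoc, MorphismProperty.Over.w, hω]
    let nψ := ψ ≫ ((EtCoh.bc h).map m₂).left
    have hnψ : nψ ≫ ((EtCoh.bc h).obj W').hom = ζ₁ ≫ y := by
      rw [Category.assoc, MorphismProperty.Over.w, hψ₁]
    have hφψ : ω₂ ≫ φ = nψ := by
      apply pullback.hom_ext
      · refine (Category.assoc _ _ _).trans ((congrArg (ω₂ ≫ ·) (pullback.lift_fst _ _ _)).trans ?_)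
        refine Eq.trans ?_ ((Category.assoc _ _ _).trans (congrArg (ψ ≫ ·) (bcFst_nat h m₂))).symm
        show (ω ≫ _) ≫ bcFst h₁ W'l ≫ bcFst U.hom W' = ψ ≫ bcFst h RX ≫ k₂.left ≫ bcFst U.hom W'
        rw [Category.assoc, ← Category.assoc ((EtCoh.bc h₁).map k₂).left, bcFst_nat, Category.assoc,
          ← Category.assoc ω, hωf]
        exact Category.assoc _ _ _
      · refine Eq.trans ?_ hnψ.symm
        refine (Category.assoc _ _ _).trans ((congrArg (ω₂ ≫ ·) (pullback.lift_snd _ _ _)).trans ?_)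
        rw [← Category.assoc, hω₂]
    refine Eq.trans ?_ (val_map G (ζ₁ ≫ y) ((EtCoh.bc h).map m₂) ψ hψ₁ nψ hnψ rfl σ).symm
    obtain ⟨N, n', hn₁, s, hs⟩ := exists_at e F σ (ζ₁ ≫ y) nψ hnψ
    refine Eq.trans (congrArg _ ?_) hs.symm
    have hn₂ : n' ≫ N.hom = (ζ₁ ≫ e₁) ≫ t₁ := by rw [hn₁, Category.assoc, Category.assoc, hye]
    have hs' : At e F σ (ζ₁ ≫ y) (ω₂ ≫ φ) (by rw [hφψ, hnψ]) n' hn₁ s := by
      refine Eq.trans ?_ hs
      exact congrArg (fun x => Sets.germ (ζ₁ ≫ y) G x σ) (Over.OverMorphism.ext hφψ)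
    have h5 := hσl K ζ₁ ω₂ hω₂ N n' hn₂ s _ hn₁ hs'
    have hn₃ : n ≫ ((EtCoh.bc g).obj WS).hom = (ζ₁ ≫ e₁) ≫ t₁ := by rw [hn, Category.assoc, Category.assoc, hye]
    have hnl' : nl ≫ bcFst g₁ W'' = ω ≫ bcFst h₁ R ≫ k₁.left ≫ bcFst a W'' := by
      rw [← Category.assoc ω, hωf]
      exact pullback.lift_fst _ _ _
    have h6 := at_sqHom a g₁ h₁ e₁ cY.w.symm F₁ k₁ t'' ζ₁ ω hω nl hnl hnl'
    have h7 : val F₁ (ζ₁ ≫ e₁) nl hnl t'' = Sets.stalkPull t₁ (ζ₁ ≫ e₁) F (val F ((ζ₁ ≫ e₁) ≫ t₁) n hn₃ t) := by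
      have key : ∀ (q : Spec (CommRingCat.of K) ⟶ T₁) (hq : nl ≫ ((EtCoh.bc g₁).obj W'').hom = q)
          (hq' : n ≫ ((EtCoh.bc g).obj WS).hom = q ≫ t₁),
          val F₁ q nl hq t'' = Sets.stalkPull t₁ q F (val F (q ≫ t₁) n hq' t) := fun q hq hq' => by
        subst hq; exact ht K nl
      exact key _ hnl hn₃
    have h8 : val G₁ ζ₁ ω hω (G₁.obj.map ((EtCoh.bc h₁).map k₁).op (G₁.obj.map (sqHom g₁ a h₁ e₁ cY.w W'').op (res e₁ F₁ t''))) =
        val G₁ ζ₁ ω₂ hω₂ σl := by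
      refine Eq.trans ?_ (val_map G₁ ζ₁ ((EtCoh.bc h₁).map k₂) ω hω ω₂ hω₂ rfl σl)
      refine congrArg (fun x => val G₁ ζ₁ ω hω x) ?_
      have h9 : G₁.obj.map ((EtCoh.bc h₁).map r).op (G₁.obj.map ((EtCoh.bc h₁).map (prodFst _ _)).op
          (G₁.obj.map (sqHom g₁ a h₁ e₁ cY.w W'').op (res e₁ F₁ t''))) =
          G₁.obj.map ((EtCoh.bc h₁).map r).op (G₁.obj.map ((EtCoh.bc h₁).map (prodSnd _ _)).op σl) := hR
      simp only [k₁, k₂, Functor.map_comp, op_comp, ConcreteCategory.comp_apply]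
      exact h9
    have h10 := (ConcreteCategory.bijective_of_isIso (Sets.stalkPull e₁ ζ₁ F₁)).1
      ((h6.symm.trans (h8.trans h5)))
    have h11 := (ConcreteCategory.bijective_of_isIso (Sets.stalkPull t₁ (ζ₁ ≫ e₁) F)).1 (h7.symm.trans h10)
    exact (val_congr' F (by rw [Category.assoc, Category.assoc, hye]) rfl rfl).1 h11

/-- Base change is etale local. -/
theorem isIso_baseChange0Sh_of_local {X S Y T : Scheme.{u}} (f : X ⟶ S) (g : T ⟶ S) (h : Y ⟶ X) (e : Y ⟶ T)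
    (c : IsPullback e h g f) (F : EtDesc.Sh T)
    {ι : Type u} (U : ι → X.Etale) (hU : EtCoh.Covers U) (V : ι → S.Etale)
    (a : ∀ i, (U i).left ⟶ (V i).left) (ha : ∀ i, a i ≫ (V i).hom = (U i).hom ≫ f)
    (Ti Yi : ι → Scheme.{u}) (gi : ∀ i, Ti i ⟶ (V i).left) (ti : ∀ i, Ti i ⟶ T)
    (cT : ∀ i, IsPullback (ti i) (gi i) g (V i).hom)
    (hi : ∀ i, Yi i ⟶ (U i).left) (ei : ∀ i, Yi i ⟶ Ti i) (cY : ∀ i, IsPullback (ei i) (hi i) (gi i) (a i))
    (hloc : ∀ i, IsIso (EtBC.baseChange0Sh (gi i) (a i) (hi i) (ei i) (cY i).w ((EtDesc.pullSh (ti i)).obj F))) :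
    IsIso (EtBC.baseChange0Sh g f h e c.w F) := by
  rw [Sets.isIso_iff_stalk]
  intro Ω _ _ ξ
  obtain ⟨i, y, hy⟩ := hU (ξ default)
  haveI : AlgebraicGeometry.Etale (U i).hom := (U i).prop
  obtain ⟨z, -⟩ := Scheme.pointSmallEtaleFiberObjToPreimage_surjective ξ (s₀ := ξ default) rfl (U i) ⟨y, hy⟩
  let ζ : Spec (CommRingCat.of Ω) ⟶ (U i).left := z.left
  have hζ : ζ ≫ (U i).hom = ξ := Over.w z
  rw [← hζ]
  exact bijective_stalk_of_chart f g h e c F (U i) (V i) (a i) (ha i) (gi i) (ti i) (cT i) (hi i) (ei i) (cY i)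
    (hloc i) ζ

end Groth.Agent.EtSets24
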