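import Groth.Agent.Lib.EtSets24.PairModel
import Groth.Agent.Lib.EtSets24.ConnDescent
import Groth.Agent.Lib.SetsStage24.Section
import Groth.Agent.Lib.EtDesc24.SetsPush

/-!
# Base change for sheaves of sets along universally locally 0-acyclic morphisms
-/

universe u

open CategoryTheory CategoryTheory.Limits AlgebraicGeometry Opposite IsLocalRing

set_option backward.isDefEq.respectTransparency.types false

namespace Groth.Agent.EtSets24

open Groth.Agent.EtStalk hiding agree isOpen_agree mem_agree_iff_germ agree_symm agree_trans agree_self eq_of_agree mem_agree_map mem_agree_unit baseChange0_germ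
open Groth.Agent.EtDesc24 (agree isOpen_agree mem_agree_iff_germ eq_of_agree baseChange0_germ)
open Groth.Agent.ProperPush24 (Stage HasLifts toStage toStage_hom toStage_fst toStage_map exists_affine_stage)
open Groth.Agent.ShFlat24 (exists_stage stageFib lift_unique closedPt_default bcTop_inv_proj)
open Groth.Agent.SetsStage24 (val val_map val_congr' res val_res At at_res at_toComp toComp fromComp toComp_fromComp germ_eq_of_agree exists_stage_section)
open Groth.Agent.Gabber24 (prodFst prodSnd)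

lemma exists_congr_map {P T : Scheme.{u}} {e e' : P ⟶ T} (h : e = e') (F : EtDesc.Sh T)
    (τ : ((EtDesc.pullSh e).obj F).obj.obj (op (EtCoh.top P))) :
    ∃ σ : ((EtDesc.pullSh e').obj F).obj.obj (op (EtCoh.top P)), ∀ (K : Type u) [Field K] [IsSepClosed K]
      (ω : Spec (CommRingCat.of K) ⟶ P) (N : T.Etale) (n : Spec (CommRingCat.of K) ⟶ N.left)
      (hn : n ≫ N.hom = ω ≫ e') (s : F.obj.obj (op N)),
      At e F τ ω ω (Category.comp_id ω) n (hn.trans (congrArg (ω ≫ ·) h.symm)) s →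
        At e' F σ ω ω (Category.comp_id ω) n hn s := by
  subst h
  exact ⟨τ, fun K _ _ ω N n hn s h => h⟩

set_option maxHeartbeats 2000000 in
/-- Base change in degree zero along a universally locally 0-acyclic morphism. -/
theorem isIso_baseChange0Sh_uloc {X S : Scheme.{u}} (f : X ⟶ S) (hf : EtAcyc.IsULocZeroAcyclic f)
    {Y T : Scheme.{u}} (g : T ⟶ S) [QuasiCompact g] [QuasiSeparated g] (h : Y ⟶ X) (e : Y ⟶ T)
    (hsq : IsPullback e h g f) (F : EtDesc.Sh T) :
    IsIso (EtBC.baseChange0Sh g f h e hsq.w F) := by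
  haveI : QuasiCompact h := MorphismProperty.of_isPullback hsq ‹QuasiCompact g›
  haveI : QuasiSeparated h := MorphismProperty.of_isPullback hsq ‹QuasiSeparated g›
  rw [Sets.isIso_iff_stalk]
  intro Ω _ _ ξ
  obtain ⟨A, B, _, _, _, _, _, _, α, _, hLA, β, _, ψ, _, ζA, ζB, hαβ, hξ, hζ, hgeo, hsurj, hgen⟩ :=
    exists_pair_model_uloc f hf ξ
  let sψ := Spec.map (CommRingCat.ofHom ψ)
  have hη : ζA ≫ EtStalk.closedPt A ≫ α = ξ ≫ f := by
    rw [← hξ, Category.assoc, Category.assoc, hαβ, ← Category.assoc, ← hζ]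
    simp only [Category.assoc]
  let G := (EtDesc.pullSh e).obj F
  let pA := pullback.fst g α
  let pY := pullback.fst h β
  let θ : pullback h β ⟶ pullback g α := pullback.lift (pY ≫ e) (pullback.snd h β ≫ sψ) (by
    rw [Category.assoc, hsq.w, ← Category.assoc, pullback.condition, Category.assoc, hαβ, Category.assoc])
  have hθA : θ ≫ pA = pY ≫ e := pullback.lift_fst _ _ _
  have hθsq : IsPullback θ (pullback.snd h β) (pullback.snd g α) sψ := by
    refine IsPullback.of_right ?_ (pullback.lift_snd _ _ _) (IsPullback.of_hasPullback g α)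
    rw [hθA, ← hαβ]
    exact (IsPullback.of_hasPullback h β).paste_horiz hsq
  haveI : Surjective sψ := hsurj
  haveI : GeometricallyConnected sψ := hgeo
  haveI : Surjective θ := MorphismProperty.of_isPullback hθsq.flip ‹Surjective sψ›
  haveI : QuasiCompact θ := MorphismProperty.of_isPullback hθsq.flip (inferInstance : QuasiCompact sψ)
  haveI : GeometricallyConnected θ := MorphismProperty.of_isPullback hθsq.flip ‹GeometricallyConnected sψ›
  have hθsub : EtDesc.IsUnivSubmersive θ := isUnivSubmersive_of_generalizing θ fun Q t => by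
    have hp : IsPullback (pullback.fst θ t ≫ pullback.snd h β) (pullback.snd θ t) sψ (t ≫ pullback.snd g α) :=
      (IsPullback.of_hasPullback θ t).paste_horiz hθsq.flip
    rw [← hp.isoPullback_hom_snd, Scheme.Hom.comp_base, TopCat.coe_comp]
    exact hp.isoPullback.hom.homeomorph.isOpenEmbedding.generalizingMap.comp (hgen _ _)
  have hb := ConcreteCategory.bijective_of_isIso (Sets.stalkPull f ξ ((EtDesc.pushSh g).obj F))
  let v (T₁ : Stage α) : fib (ξ ≫ f) T₁.V := stageFib ζA hη T₁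
  let vB (TB : Stage β) : fib ξ TB.V := stageFib ζB hξ TB
  have himg : ∀ {V : S.Etale} (v : fib (ξ ≫ f) V) (t : F.obj.obj (op ((EtCoh.bc g).obj V))),
      (Sets.stalk ξ).map (EtBC.baseChange0Sh g f h e hsq.w F)
        (Sets.stalkPull f ξ ((EtDesc.pushSh g).obj F) (Sets.germ (ξ ≫ f) _ v t)) =
      Sets.germ ξ ((EtDesc.pushSh h).obj G) (liftFib f ξ v) (G.obj.map (sqHom g f h e hsq.w V).op (res e F t)) := by
    intro V v t
    rw [Sets.germ_stalkPull, Sets.germ_nat, baseChange0_germ]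
  -- the stage upstairs over a stage downstairs
  have hup : ∀ T₁ : Stage α, ∃ a : Spec (CommRingCat.of B) ⟶ ((EtCoh.bc f).obj T₁.V).left,
      a ≫ ((EtCoh.bc f).obj T₁.V).hom = β ∧ a ≫ bcFst f T₁.V = sψ ≫ T₁.a ∧
      ζB ≫ EtStalk.closedPt B ≫ a = ((liftFib f ξ (v T₁)).left : Spec (CommRingCat.of Ω) ⟶ _) := by
    intro T₁
    let a : Spec (CommRingCat.of B) ⟶ ((EtCoh.bc f).obj T₁.V).left := pullback.lift (sψ ≫ T₁.a) β (by
      rw [Category.assoc, T₁.w, hαβ])
    refine ⟨a, pullback.lift_snd _ _ _, pullback.lift_fst _ _ _, pullback.hom_ext ?_ ?_⟩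
    · refine Eq.trans ?_ (pullback.lift_fst _ _ _).symm
      refine (Category.assoc _ _ _).trans ((congrArg (ζB ≫ ·) ((Category.assoc _ _ _).trans
        (congrArg (_ ≫ ·) (pullback.lift_fst _ _ _)))).trans ?_)
      show ζB ≫ EtStalk.closedPt B ≫ sψ ≫ T₁.a = ζA ≫ EtStalk.closedPt A ≫ T₁.a
      have := congrArg (· ≫ T₁.a) hζ
      simpa only [Category.assoc] using this
    · refine Eq.trans ?_ (pullback.lift_snd _ _ _).symm
      exact (Category.assoc _ _ _).trans ((congrArg (ζB ≫ ·) ((Category.assoc _ _ _).trans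
        (congrArg (_ ≫ ·) (pullback.lift_snd _ _ _)))).trans hξ)
  -- values of the image on the local base change
  have hvals : ∀ (T₁ : Stage α) (t : F.obj.obj (op ((EtCoh.bc g).obj T₁.V))) (TB : Stage β)
      (m : TB.V ⟶ (EtCoh.bc f).obj T₁.V), TB.a ≫ m.left ≫ bcFst f T₁.V = sψ ≫ T₁.a →
      ∀ (K : Type u) [Field K] [IsSepClosed K] (ω : Spec (CommRingCat.of K) ⟶ pullback h β),
      val G (ω ≫ pY) (ω ≫ toStage h TB) (by rw [Category.assoc, toStage_hom])
        (G.obj.map ((EtCoh.bc h).map m).op (G.obj.map (sqHom g f h e hsq.w T₁.V).op (res e F t))) =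
      Sets.stalkPull e (ω ≫ pY) F (val F ((ω ≫ pY) ≫ e) ((ω ≫ θ) ≫ toStage g T₁)
        (by rw [Category.assoc _ (toStage g T₁), toStage_hom, Category.assoc, hθA, Category.assoc]) t) := by
    intro T₁ t TB m hm K _ _ ω
    let l : Spec (CommRingCat.of K) ⟶ ((EtCoh.bc h).obj ((EtCoh.bc f).obj T₁.V)).left :=
      (ω ≫ toStage h TB) ≫ ((EtCoh.bc h).map m).left
    have hl : l ≫ ((EtCoh.bc h).obj ((EtCoh.bc f).obj T₁.V)).hom = ω ≫ pY := by
      refine (Category.assoc _ _ _).trans ((congrArg (_ ≫ ·) (MorphismProperty.Over.w ((EtCoh.bc h).map m))).trans ?_)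
      exact (Category.assoc _ _ _).trans (congrArg (ω ≫ ·) (toStage_hom h TB))
    refine (val_map G (ω ≫ pY) ((EtCoh.bc h).map m) _ _ l hl rfl _).trans ?_
    refine at_res e F t (sqHom g f h e hsq.w T₁.V) ((ω ≫ θ) ≫ toStage g T₁) _ (pullback.hom_ext ?_ ?_)
    · refine Eq.trans ?_ ((Category.assoc _ _ _).trans (congrArg (_ ≫ ·) (toStage_fst g T₁))).symm
      refine (Category.assoc _ _ _).trans ((congrArg (l ≫ ·) ((Category.assoc _ _ _).trans
        (sqHom_fst g f h e hsq.w T₁.V))).trans ?_)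
      refine (Category.assoc _ _ _).trans ((congrArg ((ω ≫ toStage h TB) ≫ ·) ((Category.assoc _ _ _).symm.trans
        ((congrArg (· ≫ bcFst f T₁.V) (bcFst_nat h m)).trans (Category.assoc _ _ _)))).trans ?_)
      refine ((Category.assoc _ _ _).trans (congrArg (ω ≫ ·) ((Category.assoc _ _ _).symm.trans
        ((congrArg (· ≫ (m.left ≫ bcFst f T₁.V)) (toStage_fst h TB)).trans ((Category.assoc _ _ _).trans
          (congrArg (_ ≫ ·) hm)))))).trans ?_
      rw [Category.assoc ω θ, ← Category.assoc θ, show θ ≫ pullback.snd g α = pullback.snd h β ≫ sψ from pullback.lift_snd _ _ _]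
      simp only [Category.assoc]
    · refine Eq.trans ?_ ((Category.assoc _ _ _).trans (congrArg (_ ≫ ·) (toStage_hom g T₁))).symm
      have hc : bcFst e ((EtCoh.bc g).obj T₁.V) ≫ ((EtCoh.bc g).obj T₁.V).hom =
          ((EtCoh.bc e).obj ((EtCoh.bc g).obj T₁.V)).hom ≫ e := pullback.condition
      have hw := MorphismProperty.Over.w (sqHom g f h e hsq.w T₁.V)
      refine (Category.assoc _ _ _).trans ((congrArg (l ≫ ·) ((Category.assoc _ _ _).trans
        (congrArg (_ ≫ ·) hc))).trans ?_)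
      rw [← Category.assoc (sqHom g f h e hsq.w T₁.V).left, hw, ← Category.assoc, hl, Category.assoc ω θ,
        hθA, Category.assoc]
  constructor
  · intro p q hpq
    obtain ⟨p', rfl⟩ := hb.2 p
    obtain ⟨q', rfl⟩ := hb.2 q
    obtain ⟨V, v₀, t₀, t₀', rfl, rfl⟩ := GrothendieckTopology.Point.toPresheafFiber_jointly_surjective₂
      (Scheme.pointSmallEtale (ξ ≫ f)) (A := Type (u + 1)) (CC := fun X => X)
      (P := ((EtDesc.pushSh g).obj F).obj) p' q'
    change (Sets.stalk ξ).map _ (Sets.stalkPull f ξ _ (Sets.germ (ξ ≫ f) _ v₀ t₀)) =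
      (Sets.stalk ξ).map _ (Sets.stalkPull f ξ _ (Sets.germ (ξ ≫ f) _ v₀ t₀')) at hpq
    show Sets.stalkPull f ξ _ (Sets.germ (ξ ≫ f) _ v₀ t₀) = Sets.stalkPull f ξ _ (Sets.germ (ξ ≫ f) _ v₀ t₀')
    obtain ⟨T₁, m₁, hm₁⟩ := exists_stage α ζA V v₀.left ((Over.w v₀).trans hη.symm)
    have e₀ : ∀ t, Sets.germ (ξ ≫ f) ((EtDesc.pushSh g).obj F) v₀ t =
        Sets.germ (ξ ≫ f) ((EtDesc.pushSh g).obj F) (v T₁) (((EtDesc.pushSh g).obj F).obj.map m₁.op t) := fun t => by
      rw [Sets.germ_map]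
      exact congrArg (fun z => Sets.germ (ξ ≫ f) ((EtDesc.pushSh g).obj F) z t) (Over.OverMorphism.ext hm₁.symm)
    rw [e₀, e₀] at hpq ⊢
    generalize ((EtDesc.pushSh g).obj F).obj.map m₁.op t₀ = t at hpq ⊢
    generalize ((EtDesc.pushSh g).obj F).obj.map m₁.op t₀' = t' at hpq ⊢
    refine congrArg _ ?_
    refine germ_eq_of_agree ζA g F hη T₁ t t' fun w => ?_
    have hp : Sets.germ ξ ((EtDesc.pushSh h).obj G) (liftFib f ξ (v T₁)) (G.obj.map (sqHom g f h e hsq.w T₁.V).op (res e F t)) =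
        Sets.germ ξ ((EtDesc.pushSh h).obj G) (liftFib f ξ (v T₁)) (G.obj.map (sqHom g f h e hsq.w T₁.V).op (res e F t')) :=
      (himg (v T₁) t).symm.trans (hpq.trans (himg (v T₁) t'))
    obtain ⟨W, m, wW, hwW, hWt⟩ := (Sets.germ_eq_iff ξ ((EtDesc.pushSh h).obj G) _ _ _).1 hp
    obtain ⟨TB, n, hn⟩ := exists_stage β ζB W wW.left ((Over.w wW).trans hξ.symm)
    obtain ⟨a, ha, haf, haz⟩ := hup T₁
    have hlift : TB.a ≫ (n ≫ m).left = a := by
      refine lift_unique ζB ((EtCoh.bc f).obj T₁.V) _ _ ?_ ?_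
      · rw [Category.assoc, MorphismProperty.Over.w, TB.w, ha]
      · rw [haz]
        refine Eq.trans ?_ (congrArg (fun z : fib ξ ((EtCoh.bc f).obj T₁.V) => z.left) hwW)
        show _ = wW.left ≫ m.left
        rw [← hn, show (n ≫ m).left = n.left ≫ m.left from rfl]
        exact ((Category.assoc _ _ _).trans (congrArg (ζB ≫ ·) ((Category.assoc _ _ _).trans
          (congrArg (_ ≫ ·) (Category.assoc _ _ _))))).symm
    obtain ⟨y, hy⟩ := (inferInstance : Surjective θ).surj w
    let ω := geomPt (pullback h β) y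
    have e2 : G.obj.map ((EtCoh.bc h).map (n ≫ m)).op (G.obj.map (sqHom g f h e hsq.w T₁.V).op (res e F t)) =
        G.obj.map ((EtCoh.bc h).map (n ≫ m)).op (G.obj.map (sqHom g f h e hsq.w T₁.V).op (res e F t')) := by
      have h4 := congrArg (G.obj.map ((EtCoh.bc h).map n).op) hWt
      simp only [Functor.map_comp, op_comp, ConcreteCategory.comp_apply]
      exact h4
    have hTB : TB.a ≫ (n ≫ m).left ≫ bcFst f T₁.V = sψ ≫ T₁.a := by rw [← Category.assoc, hlift, haf]
    have h5 := ((hvals T₁ t TB (n ≫ m) hTB _ ω).symm.trans ((congrArg _ e2).trans (hvals T₁ t' TB (n ≫ m) hTB _ ω)))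
    have h6 := (ConcreteCategory.bijective_of_isIso (Sets.stalkPull e (ω ≫ pY) F)).1 h5
    let φ : fib ((ω ≫ pY) ≫ e) ((EtCoh.bc g).obj T₁.V) := Over.homMk ((ω ≫ θ) ≫ toStage g T₁) (by
      show ((ω ≫ θ) ≫ toStage g T₁) ≫ ((EtCoh.bc g).obj T₁.V).hom = (ω ≫ pY) ≫ e
      rw [Category.assoc _ (toStage g T₁), toStage_hom, Category.assoc, hθA, Category.assoc])
    have hpt : fibPt φ = toStage g T₁ w := by
      show ((ω ≫ θ) ≫ toStage g T₁) default = _
      rw [Scheme.Hom.comp_apply, Scheme.Hom.comp_apply, geomPt_default, hy]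
    rw [← hpt]
    exact (mem_agree_iff_germ F φ t t').2 h6
  · intro q
    obtain ⟨W, wW, t₀, rfl⟩ := Sets.germ_surjective ξ ((EtDesc.pushSh h).obj G) q
    obtain ⟨TW, n₀, hn₀⟩ := exists_stage β ζB W wW.left ((Over.w wW).trans hξ.symm)
    let t' : G.obj.obj (op ((EtCoh.bc h).obj TW.V)) := G.obj.map ((EtCoh.bc h).map n₀).op t₀
    have e₀ : Sets.germ ξ ((EtDesc.pushSh h).obj G) wW t₀ = Sets.germ ξ ((EtDesc.pushSh h).obj G) (vB TW) t' := by
      refine Eq.trans ?_ (Sets.germ_map ξ ((EtDesc.pushSh h).obj G) n₀ (vB TW) t₀).symm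
      exact congrArg (fun z => Sets.germ ξ ((EtDesc.pushSh h).obj G) z t₀) (Over.OverMorphism.ext hn₀.symm)
    rw [e₀]
    -- the section on the local base change
    let m₀ : EtCoh.top (pullback h β) ⟶ (EtCoh.bc pY).obj ((EtCoh.bc h).obj TW.V) :=
      MorphismProperty.Over.homMk (pullback.lift (toStage h TW) (𝟙 _)
        ((toStage_hom h TW).trans (Category.id_comp pY).symm)) (pullback.lift_snd _ _ _)
    let τ := ((EtDesc.pullSh pY).obj G).obj.map m₀.op (res pY G t')
    obtain ⟨σ, hσ⟩ := exists_congr_map hθA.symm F (toComp F pY e τ)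
    obtain ⟨ρ, hρ⟩ := (unitAt_bijective θ ((EtDesc.pullSh pA).obj F) hθsub (EtCoh.top _)).2
      (((EtDesc.pullSh θ).obj ((EtDesc.pullSh pA).obj F)).obj.map (EtCore.bcTopIso θ).hom.op (fromComp F θ pA σ))
    obtain ⟨T₀, -, -⟩ := exists_affine_stage (α := α) (EtCoh.top S) α (Category.comp_id α)
    obtain ⟨T₁, t, ht⟩ := exists_stage_section g F hLA T₀ ρ
    refine ⟨Sets.stalkPull f ξ _ (Sets.germ (ξ ≫ f) _ (v T₁) t), (himg (v T₁) t).trans ?_⟩
    obtain ⟨a, ha, haf, haz⟩ := hup T₁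
    let P := Gabber24.prod ((EtCoh.bc f).obj T₁.V) TW.V
    let b : Spec (CommRingCat.of B) ⟶ P.left := pullback.lift a TW.a (ha.trans TW.w.symm)
    obtain ⟨TB, n, hn⟩ := exists_affine_stage (α := β) P b ((Category.assoc _ _ _).symm.trans
      ((congrArg (· ≫ ((EtCoh.bc f).obj T₁.V).hom) (pullback.lift_fst _ _ _)).trans ha))
    let m₁ : TB.V ⟶ (EtCoh.bc f).obj T₁.V := n ≫ prodFst _ _
    let m₂ : TB.V ⟶ TW.V := n ≫ prodSnd _ _
    have hm₁ : TB.a ≫ m₁.left = a :=
      (Category.assoc _ _ _).symm.trans ((congrArg (· ≫ _) hn).trans (pullback.lift_fst _ _ _))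
    have hm₂ : TB.a ≫ m₂.left = TW.a :=
      (Category.assoc _ _ _).symm.trans ((congrArg (· ≫ _) hn).trans (pullback.lift_snd _ _ _))
    have hv₁ : (Scheme.pointSmallEtale ξ).fiber.map m₁ (vB TB) = liftFib f ξ (v T₁) :=
      Over.OverMorphism.ext (by
        show (ζB ≫ EtStalk.closedPt B ≫ TB.a) ≫ m₁.left = _
        rw [Category.assoc, Category.assoc, hm₁, haz])
    have hv₂ : (Scheme.pointSmallEtale ξ).fiber.map m₂ (vB TB) = vB TW :=
      Over.OverMorphism.ext (by
        show (ζB ≫ EtStalk.closedPt B ≫ TB.a) ≫ m₂.left = _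
        rw [Category.assoc, Category.assoc, hm₂]
        rfl)
    rw [← hv₁, ← Sets.germ_map, ← hv₂, ← Sets.germ_map]
    refine germ_eq_of_agree ζB h G hξ TB _ _ fun y => ?_
    let ω := geomPt (pullback h β) y
    let φ : fib (ω ≫ pY) ((EtCoh.bc h).obj TB.V) := Over.homMk (ω ≫ toStage h TB) (by
      show (ω ≫ toStage h TB) ≫ ((EtCoh.bc h).obj TB.V).hom = ω ≫ pY
      rw [Category.assoc, toStage_hom])
    have hpt : fibPt φ = toStage h TB y := by
      show (ω ≫ toStage h TB) default = _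
      rw [Scheme.Hom.comp_apply, geomPt_default]
    rw [← hpt]
    refine (mem_agree_iff_germ G φ _ _).2 ?_
    refine (hvals T₁ t TB m₁ (by rw [← Category.assoc, hm₁, haf]) _ ω).trans ?_
    refine Eq.trans ?_ (val_map G (ω ≫ pY) ((EtCoh.bc h).map m₂) (ω ≫ toStage h TB)
      (by rw [Category.assoc, toStage_hom]) (ω ≫ toStage h TW) (by rw [Category.assoc, toStage_hom])
      (by rw [Category.assoc, toStage_map h m₂ hm₂]) t').symm
    obtain ⟨p, hp⟩ := (ConcreteCategory.bijective_of_isIso (Sets.stalkPull e (ω ≫ pY) F)).2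
      (val G (ω ≫ pY) (ω ≫ toStage h TW) (by rw [Category.assoc, toStage_hom]) t')
    obtain ⟨N, z, s, hs⟩ := Sets.germ_surjective ((ω ≫ pY) ≫ e) F p
    have hτ : At pY G τ ω ω (Category.comp_id ω) (ω ≫ toStage h TW) (by rw [Category.assoc, toStage_hom]) t' :=
      at_res pY G t' m₀ (ω ≫ toStage h TW) _ (congrArg (ω ≫ ·) (pullback.lift_fst _ _ _))
    have hAt := hσ _ ω N z.left (by rw [hθA, ← Category.assoc]; exact Over.w z) s (at_toComp F pY e τ ω (Category.comp_id ω) z.left (Over.w z) s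
      (hτ.trans (congrArg _ (by rw [← hp, show val F ((ω ≫ pY) ≫ e) z.left (Over.w z) s = p from hs]))))
    -- the same value from the stage
    let η := ω ≫ θ
    have e3 : ((EtDesc.pullSh θ).obj ((EtDesc.pullSh pA).obj F)).obj.map (EtCore.bcTopIso θ).inv.op
        (res θ ((EtDesc.pullSh pA).obj F) ρ) = fromComp F θ pA σ := by
      show ((EtDesc.pullSh θ).obj ((EtDesc.pullSh pA).obj F)).obj.map _ (EtDesc24.unitAt θ ((EtDesc.pullSh pA).obj F) (EtCoh.top _) ρ) = _
      rw [hρ, ← Functor.map_comp_apply, ← op_comp, Iso.inv_hom_id, op_id, Functor.map_id_apply]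
    have h1 : At θ ((EtDesc.pullSh pA).obj F) (fromComp F θ pA σ) ω ω (Category.comp_id ω) η (Category.comp_id _) ρ :=
      e3 ▸ at_res θ ((EtDesc.pullSh pA).obj F) ρ (EtCore.bcTopIso θ).inv η (Category.comp_id _)
        (congrArg (ω ≫ ·) (bcTop_inv_proj θ))
    have hfin := at_toComp F θ pA (fromComp F θ pA σ) ω (Category.comp_id ω) (η ≫ toStage g T₁)
      (by rw [Category.assoc _ (toStage g T₁), toStage_hom]) t (h1.trans (congrArg _ (ht _ η)))
    rw [toComp_fromComp] at hfin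
    have h2 := hAt.val_eq hfin
    rw [← hp]
    refine congrArg _ ?_
    have e4 : (ω ≫ pY) ≫ e = ω ≫ θ ≫ pA := by rw [Category.assoc, hθA]
    exact ((val_congr' F e4 rfl rfl (ha := Over.w z)
      (hb := by rw [Category.assoc _ (toStage g T₁), toStage_hom, Category.assoc, hθA, Category.assoc])).2 h2).symm.trans hs

end Groth.Agent.EtSets24
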