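import Groth.Agent.Lib.EtSets24.StrictLocal
import Groth.Agent.Lib.GeomConn24.Lifts

/-!
# Flat morphisms with separable fibres are universally locally acyclic in degree zero
-/

universe u

open CategoryTheory CategoryTheory.Limits AlgebraicGeometry Opposite TensorProduct

set_option backward.isDefEq.respectTransparency.types false

namespace Groth.Agent.EtSets24

open GeomConn24

/-- Reduced base changes to fields, on an affine chart. -/
theorem isReduced_tensor_chart {X Y : Scheme.{u}} (f : X ⟶ Y)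
    (hred : ∀ (K : Type u) [Field K] (k : Spec (CommRingCat.of K) ⟶ Y), IsReduced (pullback f k))
    {U : Y.Opens} (hU : IsAffineOpen U) {V : X.Opens} (hV : IsAffineOpen V) (hVU : V ≤ f ⁻¹ᵁ U)
    (K : Type u) [Field K] [Algebra Γ(Y, U) K] :
    letI : Algebra Γ(Y, U) Γ(X, V) := (f.appLE U V hVU).hom.toAlgebra
    _root_.IsReduced (Γ(X, V) ⊗[Γ(Y, U)] K) := by
  let R : Type u := Γ(Y, U)
  let R' : Type u := Γ(X, V)
  let φf : Γ(Y, U) ⟶ Γ(X, V) := f.appLE U V hVU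
  letI : Algebra R R' := φf.hom.toAlgebra
  let g := Spec.map (CommRingCat.ofHom (algebraMap R K) : Γ(Y, U) ⟶ _)
  let m : pullback (Spec.map φf) g ⟶ pullback f (g ≫ hU.fromSpec) :=
    pullback.map _ _ _ _ hV.fromSpec (𝟙 _) hU.fromSpec
      (IsAffineOpen.SpecMap_appLE_fromSpec f hU hV hVU) (Category.id_comp _).symm
  haveI : IsOpenImmersion m := by simp only [m]; infer_instance
  haveI := hred K (g ≫ hU.fromSpec)
  haveI := isReduced_of_isOpenImmersion m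
  haveI := isReduced_of_isOpenImmersion (pullbackSpecIso R R' K).inv
  exact (affine_isReduced_iff (CommRingCat.of (R' ⊗[R] K))).1 inferInstance

/-- The finitely presented case of a single morphism. -/
theorem isLocZeroAcyclic_of_fp {X Y : Scheme.{u}} (g : X ⟶ Y) [Flat g] [LocallyOfFinitePresentation g]
    (hred : ∀ (K : Type u) [Field K] (k : Spec (CommRingCat.of K) ⟶ Y), IsReduced (pullback g k)) :
    EtAcyc.IsLocZeroAcyclic g := by
  refine isLocZeroAcyclic_of_charts g fun x => ?_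
  obtain ⟨U, hU, hxU, -⟩ : ∃ U : Y.Opens, IsAffineOpen U ∧ g x ∈ U ∧ (U : Set Y) ⊆ Set.univ :=
    exists_isAffineOpen_mem_and_subset (U := (⊤ : Y.Opens)) trivial
  obtain ⟨V, hV, hxV, hVU⟩ : ∃ V : X.Opens, IsAffineOpen V ∧ x ∈ V ∧ (V : Set X) ⊆ (g ⁻¹ᵁ U : X.Opens) :=
    exists_isAffineOpen_mem_and_subset (U := g ⁻¹ᵁ U) hxU
  refine ⟨U, hU, hxU, V, hV, hxV, hVU, ?_⟩
  let R : Type u := Γ(Y, U)
  let R' : Type u := Γ(X, V)
  letI : Algebra R R' := (g.appLE U V hVU).hom.toAlgebra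
  haveI : Module.Flat R R' := g.flat_appLE hU hV hVU
  haveI : Algebra.FinitePresentation R R' :=
    HasRingHomProperty.appLE @LocallyOfFinitePresentation g inferInstance ⟨U, hU⟩ ⟨V, hV⟩ hVU
  intro A B _ _ _ _ _ _ _ _ _ _ _ _ _ hA hB
  refine isZeroAcyclic_of_staged (R' := R') hA hB fun L _ _ _ _ _ S' _ _ _ _ _ => ?_
  haveI : Algebra.FinitePresentation R S' := Algebra.FinitePresentation.trans R R' S'
  haveI : Module.Flat R S' := Module.Flat.trans R R' S'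
  refine lifts_finitePresentation fun K _ _ => ?_
  haveI : _root_.IsReduced (R' ⊗[R] K) := isReduced_tensor_chart g hred hU hV hVU K
  exact isReduced_tensor_of_etale (R₁ := R')

/-- The chart of a fibre product of affine charts. -/
theorem exists_pullback_chart {X Y X₁ Y₁ : Scheme.{u}} {g : X ⟶ Y} {g₁ : X₁ ⟶ Y₁} {b' : X₁ ⟶ X} {b : Y₁ ⟶ Y}
    (h : IsPullback b' g₁ g b) {U₀ : Y.Opens} (hU₀ : IsAffineOpen U₀) {W₀ : X.Opens} (hW₀ : IsAffineOpen W₀)
    (hW : W₀ ≤ g ⁻¹ᵁ U₀) {U : Y₁.Opens} (hU : IsAffineOpen U) (hUb : U ≤ b ⁻¹ᵁ U₀) (x : X₁) (hxW : b' x ∈ W₀)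
    (hxU : g₁ x ∈ U) :
    letI : Algebra Γ(Y, U₀) Γ(X, W₀) := (g.appLE U₀ W₀ hW).hom.toAlgebra
    letI : Algebra Γ(Y, U₀) Γ(Y₁, U) := (b.appLE U₀ U hUb).hom.toAlgebra
    ∃ (V : X₁.Opens) (_ : IsAffineOpen V) (_ : x ∈ V) (hVU : V ≤ g₁ ⁻¹ᵁ U)
      (e : Γ(X₁, V) ≃+* Γ(Y₁, U) ⊗[Γ(Y, U₀)] Γ(X, W₀)), ∀ r, e (g₁.appLE U V hVU r) = r ⊗ₜ 1 := by
  let R₀ : Type u := Γ(Y, U₀)
  let R₀' : Type u := Γ(X, W₀)
  let R : Type u := Γ(Y₁, U)
  letI : Algebra R₀ R₀' := (g.appLE U₀ W₀ hW).hom.toAlgebra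
  letI : Algebra R₀ R := (b.appLE U₀ U hUb).hom.toAlgebra
  let T := R ⊗[R₀] R₀'
  let iU : Spec (CommRingCat.of R) ⟶ Y₁ := hU.fromSpec
  let iW : Spec (CommRingCat.of R₀') ⟶ X := hW₀.fromSpec
  have e₁ : Spec.map (CommRingCat.ofHom (algebraMap R₀ R)) ≫ hU₀.fromSpec = iU ≫ b :=
    IsAffineOpen.SpecMap_appLE_fromSpec b hU₀ hU hUb
  have e₂ : Spec.map (CommRingCat.ofHom (algebraMap R₀ R₀')) ≫ hU₀.fromSpec = iW ≫ g :=
    IsAffineOpen.SpecMap_appLE_fromSpec g hU₀ hW₀ hW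
  haveI : IsOpenImmersion iU := hU.isOpenImmersion_fromSpec
  haveI : IsOpenImmersion iW := hW₀.isOpenImmersion_fromSpec
  let p₁ := Spec.map (CommRingCat.ofHom (algebraMap R₀ R))
  let p₂ := Spec.map (CommRingCat.ofHom (algebraMap R₀ R₀'))
  let m : Spec (CommRingCat.of T) ⟶ X₁ :=
    (pullbackSpecIso R₀ R R₀').inv ≫ pullback.map p₁ p₂ b g iU iW hU₀.fromSpec e₁ e₂ ≫ h.flip.isoPullback.inv
  haveI : IsOpenImmersion (pullback.map p₁ p₂ b g iU iW hU₀.fromSpec e₁ e₂) := inferInstance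
  haveI : IsOpenImmersion m := by simp only [m]; infer_instance
  have hm₁ : m ≫ g₁ = Spec.map (CommRingCat.ofHom (Algebra.TensorProduct.includeLeftRingHom : R →+* T)) ≫ iU := by
    simp only [m, Category.assoc, IsPullback.isoPullback_inv_fst, pullback.map, pullback.lift_fst]
    rw [← Category.assoc, pullbackSpecIso_inv_fst]
  have hm₂ : m ≫ b' = Spec.map (CommRingCat.ofHom (Algebra.TensorProduct.includeRight : R₀' →ₐ[R₀] T).toRingHom) ≫ iW := by
    simp only [m, Category.assoc, IsPullback.isoPullback_inv_snd, pullback.map, pullback.lift_snd]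
    rw [← Category.assoc, pullbackSpecIso_inv_snd]
    rfl
  let V : X₁.Opens := m.opensRange
  have hV : IsAffineOpen V := isAffineOpen_opensRange m
  have hVU : V ≤ g₁ ⁻¹ᵁ U := by
    rintro _ ⟨z, rfl⟩
    show g₁ (m z) ∈ U
    rw [← Scheme.Hom.comp_apply, hm₁, Scheme.Hom.comp_apply]
    exact hU.range_fromSpec.le ⟨_, rfl⟩
  have hxV : x ∈ V := by
    obtain ⟨r, hr⟩ := hU.range_fromSpec.ge hxU
    obtain ⟨w, hw⟩ := hW₀.range_fromSpec.ge hxW
    have hr' : r ∈ Set.range (pullback.fst p₁ p₂) := by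
      have hrw : p₁ r = p₂ w := hU₀.fromSpec.isOpenEmbedding.injective (by
        rw [← Scheme.Hom.comp_apply, ← Scheme.Hom.comp_apply, e₁, e₂, Scheme.Hom.comp_apply, Scheme.Hom.comp_apply]
        show b (iU r) = g (iW w)
        rw [show iU r = g₁ x from hr, show iW w = b' x from hw, ← Scheme.Hom.comp_apply, ← Scheme.Hom.comp_apply, h.w])
      obtain ⟨z, hz, -⟩ := Scheme.exists_preimage_of_isPullback (IsPullback.of_hasPullback p₁ p₂) r w hrw
      exact ⟨z, hz⟩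
    have hxr : h.flip.isoPullback.hom x ∈ Set.range (pullback.map p₁ p₂ b g iU iW hU₀.fromSpec e₁ e₂) := by
      rw [Scheme.Pullback.range_map]
      refine ⟨?_, ?_⟩
      · rw [Set.mem_preimage, ← Scheme.Hom.comp_apply, IsPullback.isoPullback_hom_fst]
        exact ⟨r, hr⟩
      · rw [Set.mem_preimage, ← Scheme.Hom.comp_apply, IsPullback.isoPullback_hom_snd]
        exact ⟨w, hw⟩
    obtain ⟨z, hz⟩ := hxr
    refine ⟨(pullbackSpecIso R₀ R R₀').hom z, ?_⟩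
    show m _ = x
    simp only [m, ← Scheme.Hom.comp_apply, Iso.hom_inv_id_assoc]
    rw [Scheme.Hom.comp_apply, hz, ← Scheme.Hom.comp_apply, Iso.hom_inv_id]
    rfl
  let a : Spec (CommRingCat.of T) ⟶ Spec Γ(X₁, V) := IsOpenImmersion.lift hV.fromSpec m (by rw [hV.range_fromSpec]; rfl)
  have ha : a ≫ hV.fromSpec = m := IsOpenImmersion.lift_fac _ _ _
  haveI : IsOpenImmersion a := by
    haveI : IsOpenImmersion (a ≫ hV.fromSpec) := by rw [ha]; infer_instance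
    exact IsOpenImmersion.of_comp a hV.fromSpec
  haveI : Surjective a := ⟨fun z => by
    obtain ⟨y, hy⟩ : hV.fromSpec z ∈ Set.range m := hV.range_fromSpec.le ⟨z, rfl⟩
    refine ⟨y, hV.fromSpec.isOpenEmbedding.injective ?_⟩
    rw [← Scheme.Hom.comp_apply, ha, hy]⟩
  haveI : IsIso a := (isIso_iff_isOpenImmersion_and_surjective a).2 ⟨inferInstance, inferInstance⟩
  let ψ : Γ(X₁, V) ⟶ CommRingCat.of T := Spec.preimage a
  haveI : IsIso (Spec.map ψ) := by rw [Spec.map_preimage]; infer_instance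
  haveI : IsIso ψ := by
    haveI : IsIso (Scheme.Spec.map ψ.op) := ‹IsIso (Spec.map ψ)›
    haveI := isIso_of_reflects_iso ψ.op Scheme.Spec
    exact isIso_of_op ψ
  refine ⟨V, hV, hxV, hVU, (asIso ψ).commRingCatIsoToRingEquiv, fun r => ?_⟩
  have key : g₁.appLE U V hVU ≫ ψ = CommRingCat.ofHom (Algebra.TensorProduct.includeLeftRingHom : R →+* T) := by
    refine Spec.map_injective ((cancel_mono hU.fromSpec).1 ?_)
    rw [Spec.map_comp, Category.assoc, IsAffineOpen.SpecMap_appLE_fromSpec g₁ hU hV hVU, Spec.map_preimage,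
      ← Category.assoc, ha, hm₁]
  exact RingHom.congr_fun (congrArg CommRingCat.Hom.hom key) r

/-- The noetherian case of a base change. -/
theorem isLocZeroAcyclic_of_noetherian {X Y X₁ Y₁ : Scheme.{u}} (g : X ⟶ Y) [Flat g] [IsLocallyNoetherian Y]
    (hred : ∀ (K : Type u) [Field K] (k : Spec (CommRingCat.of K) ⟶ Y), IsReduced (pullback g k))
    (g₁ : X₁ ⟶ Y₁) (b' : X₁ ⟶ X) (b : Y₁ ⟶ Y) (h : IsPullback b' g₁ g b) :
    EtAcyc.IsLocZeroAcyclic g₁ := by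
  refine isLocZeroAcyclic_of_charts g₁ fun x => ?_
  obtain ⟨U₀, hU₀, hyU₀, -⟩ : ∃ U : Y.Opens, IsAffineOpen U ∧ g (b' x) ∈ U ∧ (U : Set Y) ⊆ Set.univ :=
    exists_isAffineOpen_mem_and_subset (U := (⊤ : Y.Opens)) trivial
  obtain ⟨W₀, hW₀, hxW, hW⟩ : ∃ V : X.Opens, IsAffineOpen V ∧ b' x ∈ V ∧ (V : Set X) ⊆ (g ⁻¹ᵁ U₀ : X.Opens) :=
    exists_isAffineOpen_mem_and_subset (U := g ⁻¹ᵁ U₀) hyU₀
  obtain ⟨U, hU, hxU, hUb⟩ : ∃ U : Y₁.Opens, IsAffineOpen U ∧ g₁ x ∈ U ∧ (U : Set Y₁) ⊆ (b ⁻¹ᵁ U₀ : Y₁.Opens) :=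
    exists_isAffineOpen_mem_and_subset (U := b ⁻¹ᵁ U₀) (by
      show b (g₁ x) ∈ U₀
      rw [← Scheme.Hom.comp_apply, ← h.w, Scheme.Hom.comp_apply]
      exact hyU₀)
  obtain ⟨V, hV, hxV, hVU, e, he⟩ := exists_pullback_chart h hU₀ hW₀ hW hU hUb x hxW hxU
  refine ⟨U, hU, hxU, V, hV, hxV, hVU, ?_⟩
  let R₀ : Type u := Γ(Y, U₀)
  let R₀' : Type u := Γ(X, W₀)
  let R : Type u := Γ(Y₁, U)
  let R' : Type u := Γ(X₁, V)
  letI : Algebra R₀ R₀' := (g.appLE U₀ W₀ hW).hom.toAlgebra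
  letI : Algebra R₀ R := (b.appLE U₀ U hUb).hom.toAlgebra
  letI : Algebra R R' := (g₁.appLE U V hVU).hom.toAlgebra
  haveI : Flat g₁ := MorphismProperty.of_isPullback h inferInstance
  haveI : Module.Flat R R' := g₁.flat_appLE hU hV hVU
  haveI : IsNoetherianRing R₀ := IsLocallyNoetherian.component_noetherian ⟨U₀, hU₀⟩
  haveI : Module.Flat R₀ R₀' := g.flat_appLE hU₀ hW₀ hW
  intro A B _ _ _ _ _ _ _ _ _ _ _ _ _ hA hB
  refine isZeroAcyclic_of_staged (R' := R') hA hB fun L _ _ _ _ _ S' _ _ _ _ _ => ?_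
  letI : Algebra (R ⊗[R₀] R₀') R' := e.symm.toRingHom.toAlgebra
  letI : Algebra (R ⊗[R₀] R₀') S' := ((algebraMap R' S').comp (algebraMap (R ⊗[R₀] R₀') R')).toAlgebra
  haveI : IsScalarTower (R ⊗[R₀] R₀') R' S' := .of_algebraMap_eq fun _ => rfl
  haveI : IsScalarTower R (R ⊗[R₀] R₀') S' := .of_algebraMap_eq fun r => by
    show algebraMap R S' r = algebraMap R' S' (e.symm (r ⊗ₜ[R₀] (1 : R₀')))
    rw [← he r, RingEquiv.symm_apply_apply, IsScalarTower.algebraMap_apply R R' S']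
    rfl
  haveI : Algebra.Etale (R ⊗[R₀] R₀') R' := Algebra.Etale.of_equiv
    (AlgEquiv.ofRingEquiv (f := e.symm) (fun _ => rfl) : (R ⊗[R₀] R₀') ≃ₐ[R ⊗[R₀] R₀'] R')
  haveI : Algebra.Etale (R ⊗[R₀] R₀') S' := Algebra.Etale.comp _ R' S'
  refine lifts_noetherian R₀ R₀' fun K _ _ => ?_
  haveI : _root_.IsReduced (R₀' ⊗[R₀] K) := isReduced_tensor_chart g hred hU₀ hW₀ hW K
  exact isReduced_of_injective (Algebra.TensorProduct.comm R₀ K R₀') (AlgEquiv.injective _)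

/-- Flat morphisms with separable fibres, noetherian base or finite presentation. -/
theorem isULocZeroAcyclic_of_flat {X Y : Scheme.{u}} (g : X ⟶ Y) [Flat g]
    (hsep : ∀ (K : Type u) [Field K] (k : Spec (CommRingCat.of K) ⟶ Y), IsReduced (pullback g k))
    (h : IsLocallyNoetherian Y ∨ LocallyOfFinitePresentation g) : EtAcyc.IsULocZeroAcyclic g := by
  intro X₁ Y₁ g₁ b' b hp
  rcases h with hY | hfp
  · exact isLocZeroAcyclic_of_noetherian g hsep g₁ b' b hp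
  · haveI : Flat g₁ := MorphismProperty.of_isPullback hp inferInstance
    haveI : LocallyOfFinitePresentation g₁ := MorphismProperty.of_isPullback hp hfp
    refine isLocZeroAcyclic_of_fp g₁ fun K _ k => ?_
    haveI := hsep K (k ≫ b)
    exact isReduced_of_isOpenImmersion
      ((IsPullback.of_hasPullback g₁ k).paste_horiz hp).isoPullback.hom

end Groth.Agent.EtSets24
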