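import Groth.Agent.Lib.EtDesc24.SetsPush
import Groth.Agent.Lib.EtDesc24.Subm
import Groth.Agent.Lib.SetsStage24.Val

/-!
# Connectedness from bijectivity of units

If pullback of sections of constant sheaves along `p : W ⟶ V` is bijective and `V` is irreducible,
then `W` is connected.
-/

universe u

open CategoryTheory CategoryTheory.Limits AlgebraicGeometry Opposite
open Groth.Agent.EtStalk hiding agree isOpen_agree mem_agree_iff_germ agree_symm agree_trans agree_self eq_of_agree mem_agree_map mem_agree_unit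
open Groth.Agent.EtDesc24 (agree isOpen_agree mem_agree_iff_germ eq_of_agree)

set_option backward.isDefEq.respectTransparency.types false

namespace Groth.Agent.EtSets24

/-- A sheaf with two global sections differing everywhere. -/
theorem exists_two_sections (V : Scheme.{u}) : ∃ (F : EtDesc.Sh V) (s₀ s₁ : F.obj.obj (op (EtCoh.top V))),
    ∀ (Ω : Type u) [Field Ω] [IsSepClosed Ω] (ξ : Spec (CommRingCat.of Ω) ⟶ V) (φ : fib ξ (EtCoh.top V)),
      Sets.germ ξ F φ s₀ ≠ Sets.germ ξ F φ s₁ := by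
  let M : Type (u + 1) := ULift.{u + 1} Bool
  let P := (Functor.const (Scheme.Etale V)ᵒᵖ).obj M
  let η := toSheafify (Scheme.smallEtaleTopology V) P
  let F : EtDesc.Sh V := (presheafToSheaf (Scheme.smallEtaleTopology V) (Type (u + 1))).obj P
  refine ⟨F, η.app (op (EtCoh.top V)) ⟨false⟩, η.app (op (EtCoh.top V)) ⟨true⟩, fun Ω _ _ ξ φ h => ?_⟩
  let Φ := Scheme.pointSmallEtale ξ
  have e : ∀ m : M, Sets.germ ξ F φ (η.app (op (EtCoh.top V)) m) =
      Φ.presheafFiber.map η (Φ.toPresheafFiber (EtCoh.top V) φ P m) := fun m =>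
    (GrothendieckTopology.Point.toPresheafFiber_naturality_apply Φ η (EtCoh.top V) φ m).symm
  rw [e, e] at h
  have h' := (Φ.toPresheafFiber_map_bijective η).1 h
  obtain ⟨U, g, y, -, he⟩ :=
    (GrothendieckTopology.Point.toPresheafFiber_eq_iff' Φ (A := Type (u + 1)) (CC := fun X => X) (P := P)
      _ φ (⟨false⟩ : M) (⟨true⟩ : M)).1 h'
  exact Bool.false_ne_true (congrArg ULift.down (he : (⟨false⟩ : M) = ⟨true⟩))

/-- Agreement of pulled back sections only depends on the image point. -/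
lemma mem_agree_unitAt {X Y : Scheme.{u}} (f : X ⟶ Y) (F : EtDesc.Sh Y) {V : Y.Etale}
    (s t : F.obj.obj (op V)) (z : ((EtCoh.bc f).obj V).left) :
    z ∈ agree ((EtDesc.pullSh f).obj F) (EtDesc24.unitAt f F V s) (EtDesc24.unitAt f F V t) ↔
      bcFst f V z ∈ agree F s t := by
  suffices key : ∀ (Ω : Type u) [Field Ω] [IsSepClosed Ω] (ξ : Spec (CommRingCat.of Ω) ⟶ X)
      (φ : fib ξ ((EtCoh.bc f).obj V)),
      fibPt φ ∈ agree ((EtDesc.pullSh f).obj F) (EtDesc24.unitAt f F V s) (EtDesc24.unitAt f F V t) ↔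
        bcFst f V (fibPt φ) ∈ agree F s t by
    obtain ⟨φ, hφ⟩ := exists_fib ((EtCoh.bc f).obj V) z
    exact hφ ▸ key _ _ φ
  intro Ω _ _ ξ φ
  have hl : φ = liftFib f ξ (dropFib f ξ φ) :=
    (((fiberIso f ξ).app V).toEquiv.apply_symm_apply φ).symm
  have h1 : bcFst f V (fibPt φ) = fibPt (dropFib f ξ φ) := rfl
  rw [h1, mem_agree_iff_germ, mem_agree_iff_germ]
  rw [hl, show EtDesc24.unitAt f F V s = ((EtDesc.adjSh f).unit.app F).hom.app (op V) s from rfl,
    show EtDesc24.unitAt f F V t = ((EtDesc.adjSh f).unit.app F).hom.app (op V) t from rfl,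
    ← Sets.germ_stalkPull f ξ F, ← Sets.germ_stalkPull f ξ F, ← hl]
  exact (ConcreteCategory.bijective_of_isIso (Sets.stalkPull f ξ F)).1.eq_iff

/-- Connectedness of the source. -/
theorem connectedSpace_of_unit {W V : Scheme.{u}} (p : W ⟶ V) [IrreducibleSpace V]
    (hb : ∀ F : EtDesc.Sh V, Function.Bijective (EtDesc24.unitAt p F (EtCoh.top V))) : ConnectedSpace W := by
  obtain ⟨F, s₀, s₁, hne⟩ := exists_two_sections V
  let U₀ := (EtCoh.bc p).obj (EtCoh.top V)
  haveI : IsIso U₀.hom := by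
    show IsIso (pullback.snd (𝟙 V) p)
    infer_instance
  have hdisj : ∀ (t : F.obj.obj (op (EtCoh.top V))) (v : (EtCoh.top V).left),
      v ∈ agree F t s₀ → v ∈ agree F t s₁ → False := fun t v h₀ h₁ => by
    obtain ⟨φ, hφ⟩ := exists_fib (EtCoh.top V) v
    rw [← hφ] at h₀ h₁
    exact hne _ _ φ (((mem_agree_iff_germ F φ t s₀).1 h₀).symm.trans ((mem_agree_iff_germ F φ t s₁).1 h₁))
  have hnonempty : Nonempty W := by
    by_contra hW
    rw [not_nonempty_iff] at hW
    have e : EtDesc24.unitAt p F (EtCoh.top V) s₀ = EtDesc24.unitAt p F (EtCoh.top V) s₁ :=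
      eq_of_agree ((EtDesc.pullSh p).obj F) (U := U₀) fun z => hW.elim (U₀.hom z)
    obtain ⟨v⟩ : Nonempty (EtCoh.top V).left := inferInstanceAs (Nonempty V)
    refine hdisj s₀ v (SetsStage24.agree_self F s₀ v) ?_
    rw [← (hb F).1 e]
    exact SetsStage24.agree_self F s₀ v
  haveI := hnonempty
  refine connectedSpace_iff_clopen.2 ⟨inferInstance, fun C hC => ?_⟩
  let C₁ : U₀.left.Opens := ⟨U₀.hom ⁻¹' C, hC.isOpen.preimage U₀.hom.continuous⟩
  let C₀ : U₀.left.Opens := ⟨U₀.hom ⁻¹' Cᶜ, hC.compl.isOpen.preimage U₀.hom.continuous⟩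
  let P : ULift.{u} Bool → U₀.left.Opens := fun l => bif l.down then C₁ else C₀
  have hP : ∀ z, ∃! l, z ∈ P l := fun z => by
    by_cases hz : U₀.hom z ∈ C
    · exact ⟨⟨true⟩, hz, fun ⟨b⟩ hb => by cases b with | false => exact absurd hz hb | true => rfl⟩
    · exact ⟨⟨false⟩, hz, fun ⟨b⟩ hb => by cases b with | false => rfl | true => exact absurd hb hz⟩
  let G := (EtDesc.pullSh p).obj F
  let sec : ULift.{u} Bool → G.obj.obj (op U₀) := fun l => EtDesc24.unitAt p F (EtCoh.top V) (bif l.down then s₁ else s₀)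
  obtain ⟨σ, hσ, -⟩ := EtDesc24.existsUnique_glue_parts G U₀ P hP fun l => G.obj.map (EtSite.subHom U₀ (P l)).op (sec l)
  obtain ⟨t, rfl⟩ := (hb F).2 σ
  have key : ∀ (l : ULift.{u} Bool) (z : U₀.left), z ∈ P l →
      bcFst p (EtCoh.top V) z ∈ agree F t (bif l.down then s₁ else s₀) := fun l z hz =>
    (mem_agree_unitAt p F t _ z).1 ⟨EtSite.sub U₀ (P l), EtSite.subHom U₀ (P l), ⟨⟨z, hz⟩, rfl⟩, hσ l⟩
  by_contra hC'
  push Not at hC'
  obtain ⟨w₁, hw₁⟩ := hC'.1
  obtain ⟨w₀, hw₀⟩ := Set.nonempty_compl.2 hC'.2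
  obtain ⟨z₁, rfl⟩ := U₀.hom.surjective w₁
  obtain ⟨z₀, rfl⟩ := U₀.hom.surjective w₀
  haveI : PreirreducibleSpace (EtCoh.top V).left := inferInstanceAs (PreirreducibleSpace V)
  obtain ⟨v, h₁, h₀⟩ := nonempty_preirreducible_inter (isOpen_agree F t s₁) (isOpen_agree F t s₀)
    ⟨_, key ⟨true⟩ z₁ hw₁⟩ ⟨_, key ⟨false⟩ z₀ hw₀⟩
  exact hdisj t v h₀ h₁

end Groth.Agent.EtSets24
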