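import Groth.Agent.Lib.EtSets24.ConnDescent
import Groth.Agent.Lib.EtSets24.Submersive
import Groth.Agent.Lib.SetsStage24.Val
import Groth.Agent.Lib.EtDesc24.SetsPush
import Groth.Agent.Lib.ShFlat24.Main

/-!
# Base change for sheaves of sets along factorizations with geometrically connected fibres
-/

universe u

open CategoryTheory CategoryTheory.Limits AlgebraicGeometry Opposite

set_option backward.isDefEq.respectTransparency.types false

namespace Groth.Agent.EtSets24

open Groth.Agent.EtStalk hiding agree isOpen_agree mem_agree_iff_germ agree_symm agree_trans agree_self eq_of_agree mem_agree_map mem_agree_unit baseChange0_germ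
open Groth.Agent.EtDesc24 (agree isOpen_agree mem_agree_iff_germ eq_of_agree baseChange0_germ)
open Groth.Agent.SetsStage24 (val val_map val_congr' res val_res At at_res at_toComp toComp fromComp toComp_fromComp exists_at exists_glue ext_val good isOpen_good mem_good_iff)
open Groth.Agent.Gabber24 (prodFst prodSnd)
open Groth.Agent.ProperPush24 (bc_bc_hom_ext)
open Groth.Agent.ConnDescent24 (cmpScheme)

/-- An etale scheme over a separably closed field is discrete and its sections are its points. -/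
theorem etale_over_sepClosed {Ω : Type u} [Field Ω] [IsSepClosed Ω] {D : Scheme.{u}}
    (q : D ⟶ Spec (CommRingCat.of Ω)) [AlgebraicGeometry.Etale q] :
    DiscreteTopology D ∧ ∀ y y' : Spec (CommRingCat.of Ω) ⟶ D, y ≫ q = 𝟙 _ → y' ≫ q = 𝟙 _ →
      y default = y' default → y = y' := by
  have hopen : ∀ y : Spec (CommRingCat.of Ω) ⟶ D, y ≫ q = 𝟙 _ → IsOpenImmersion y := fun y hy => by
    haveI : AlgebraicGeometry.Etale (y ≫ q) := by rw [hy]; infer_instance
    haveI : AlgebraicGeometry.Etale y := AlgebraicGeometry.Etale.of_comp y q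
    haveI : IsSplitMono y := ⟨⟨⟨q, hy⟩⟩⟩
    exact IsOpenImmersion.of_flat_of_mono y
  refine ⟨discreteTopology_iff_isOpen_singleton.2 fun d => ?_, fun y y' hy hy' e => ?_⟩
  · obtain ⟨c, hc⟩ := Scheme.pointSmallEtaleFiberObjToPreimage_surjective (𝟙 (Spec (CommRingCat.of Ω)))
      (s₀ := (default : Spec (CommRingCat.of Ω))) rfl (Scheme.Etale.mk q)
      ⟨d, @Subsingleton.elim (Spec (CommRingCat.of Ω)) _ _ _⟩
    let b : Spec (CommRingCat.of Ω) ⟶ D := c.left
    haveI := hopen b (Over.w c)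
    have hbd : b default = d := congrArg Subtype.val hc
    rw [show ({d} : Set D) = Set.range b from ?_]
    · exact b.isOpenEmbedding.isOpen_range
    · refine Set.Subset.antisymm (fun x hx => ⟨default, hbd.trans hx.symm⟩) ?_
      rintro _ ⟨x, rfl⟩
      rw [Subsingleton.elim x default, hbd]; rfl
  · haveI := hopen y hy
    let m := IsOpenImmersion.lift y y' (by
      rintro _ ⟨x, rfl⟩
      exact ⟨default, by rw [e, Subsingleton.elim x default]⟩)
    have hm : m ≫ y = y' := IsOpenImmersion.lift_fac _ _ _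
    have h1 : m = 𝟙 _ := by
      rw [← hy', ← hm, Category.assoc, hy, Category.comp_id]
    rw [← hm, h1, Category.id_comp]

/-- Connected geometric fibres map to a single geometric point of an etale scheme. -/
theorem comp_eq_of_geometricallyConnected {U V' V'' : Scheme.{u}} (a : U ⟶ V') [GeometricallyConnected a]
    (p : V'' ⟶ V') [AlgebraicGeometry.Etale p] (b : U ⟶ V'') (hb : b ≫ p = a) {Ω : Type u} [Field Ω]
    [IsSepClosed Ω] (z z' : Spec (CommRingCat.of Ω) ⟶ U) (h : z ≫ a = z' ≫ a) : z ≫ b = z' ≫ b := by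
  let k := z ≫ a
  haveI : ConnectedSpace (pullback a k : Scheme.{u}) :=
    GeometricallyConnected.geometrically_connectedSpace k (pullback.fst a k) (pullback.snd a k)
      (IsPullback.of_hasPullback a k)
  obtain ⟨hD, hinj⟩ := etale_over_sepClosed (pullback.snd p k)
  let m : pullback a k ⟶ pullback p k := pullback.lift (pullback.fst a k ≫ b) (pullback.snd a k) (by
    rw [Category.assoc, hb, pullback.condition])
  let l : Spec (CommRingCat.of Ω) ⟶ pullback a k := pullback.lift z (𝟙 _) (Category.id_comp _).symm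
  let l' : Spec (CommRingCat.of Ω) ⟶ pullback a k := pullback.lift z' (𝟙 _) (by rw [Category.id_comp, ← h])
  have hl : ∀ (x : Spec (CommRingCat.of Ω) ⟶ pullback a k), x ≫ pullback.snd a k = 𝟙 _ →
      (x ≫ m) ≫ pullback.snd p k = 𝟙 _ := fun x hx => by
    rw [Category.assoc, pullback.lift_snd, hx]
  have hpt : (l ≫ m) default = (l' ≫ m) default := by
    rw [Scheme.Hom.comp_apply, Scheme.Hom.comp_apply]
    exact PreconnectedSpace.constant inferInstance m.continuous
  have e := congrArg (· ≫ pullback.fst p k)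
    (hinj _ _ (hl l (pullback.lift_snd _ _ _)) (hl l' (pullback.lift_snd _ _ _)) hpt)
  have h1 : ∀ (x : Spec (CommRingCat.of Ω) ⟶ pullback a k),
      (x ≫ m) ≫ pullback.fst p k = (x ≫ pullback.fst a k) ≫ b := fun x => by
    rw [Category.assoc, pullback.lift_fst, ← Category.assoc]
  have e' : (l ≫ pullback.fst a k) ≫ b = (l' ≫ pullback.fst a k) ≫ b := ((h1 l).symm.trans e).trans (h1 l')
  rwa [show l ≫ pullback.fst a k = z from pullback.lift_fst _ _ _,
    show l' ≫ pullback.fst a k = z' from pullback.lift_fst _ _ _] at e'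

/-- The image in an etale cover is open. -/
theorem isOpen_range_of_geometricallyConnected {U V' V'' : Scheme.{u}} (a : U ⟶ V') [GeometricallyConnected a]
    (ha : EtDesc.IsUnivSubmersive a) (p : V'' ⟶ V') [AlgebraicGeometry.Etale p] (b : U ⟶ V'')
    (hb : b ≫ p = a) : IsOpen (Set.range b) := by
  obtain ⟨-, hq⟩ := ha V'' p
  rw [← hq.isOpen_preimage]
  let σ : U ⟶ pullback a p := pullback.lift (𝟙 U) b (by rw [Category.id_comp, hb])
  have hσ : σ ≫ pullback.fst a p = 𝟙 U := pullback.lift_fst _ _ _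
  haveI : AlgebraicGeometry.Etale (σ ≫ pullback.fst a p) := by rw [hσ]; infer_instance
  haveI : AlgebraicGeometry.Etale σ := AlgebraicGeometry.Etale.of_comp σ (pullback.fst a p)
  haveI : IsSplitMono σ := ⟨⟨⟨_, hσ⟩⟩⟩
  haveI : IsOpenImmersion σ := IsOpenImmersion.of_flat_of_mono σ
  rw [show (pullback.snd a p) ⁻¹' Set.range b = Set.range σ from ?_]
  · exact σ.isOpenEmbedding.isOpen_range
  refine Set.Subset.antisymm (fun x ⟨z', hz'⟩ => ?_) ?_
  · obtain ⟨w, hw, -⟩ := Scheme.Pullback.exists_preimage_pullback (f := pullback.snd a p) (g := b) x z' hz'.symm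
    let ω := geomPt (pullback (pullback.snd a p) b) w
    let z : Spec (CommRingCat.of _) ⟶ U := (ω ≫ pullback.fst _ _) ≫ pullback.fst a p
    let z₁ : Spec (CommRingCat.of _) ⟶ U := ω ≫ pullback.snd _ _
    have hz₁ : z₁ ≫ b = (ω ≫ pullback.fst _ _) ≫ pullback.snd a p := by
      simp only [z₁, Category.assoc, pullback.condition]
    have heq : z ≫ b = z₁ ≫ b := by
      refine comp_eq_of_geometricallyConnected a p b hb z z₁ ?_
      show ((ω ≫ pullback.fst _ _) ≫ pullback.fst a p) ≫ a = z₁ ≫ a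
      rw [Category.assoc, pullback.condition, ← Category.assoc, ← hz₁, Category.assoc, hb]
    have e : z ≫ σ = ω ≫ pullback.fst _ _ := by
      apply pullback.hom_ext
      · rw [Category.assoc, hσ, Category.comp_id]
      · rw [Category.assoc, pullback.lift_snd, heq, hz₁]
    refine ⟨z default, ?_⟩
    rw [← Scheme.Hom.comp_apply, e, Scheme.Hom.comp_apply, geomPt_default, hw]
  · rintro _ ⟨z, rfl⟩
    exact ⟨z, by rw [← Scheme.Hom.comp_apply, pullback.lift_snd]⟩

lemma at_congr_pt {T : Scheme.{u}} (F : EtDesc.Sh T) {Q : Scheme.{u}} {p : Q ⟶ T}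
    {ρ : ((EtDesc.pullSh p).obj F).obj.obj (op (EtCoh.top Q))} {K : Type u} [Field K] [IsSepClosed K]
    {q q' : Spec (CommRingCat.of K) ⟶ Q} (e : q = q') {M : T.Etale} {n : Spec (CommRingCat.of K) ⟶ M.left}
    {hn : n ≫ M.hom = q ≫ p} {s : F.obj.obj (op M)} (h : At p F ρ q q (Category.comp_id q) n hn s) :
    At p F ρ q' q' (Category.comp_id q') n (hn.trans (congrArg (· ≫ p) e)) s := by
  subst e; exact h

/-- Sections of the inverse image to an etale scheme are sections. -/
theorem exists_section_of_etale {T : Scheme.{u}} (F : EtDesc.Sh T) (N : T.Etale)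
    (ρ : ((EtDesc.pullSh N.hom).obj F).obj.obj (op (EtCoh.top N.left))) :
    ∃ t : F.obj.obj (op N), ∀ (K : Type u) [Field K] [IsSepClosed K] (ω : Spec (CommRingCat.of K) ⟶ N.left),
      At N.hom F ρ ω ω (Category.comp_id ω) (N := N) ω rfl t := by
  have hz : ∀ x : N.left, ∃ (M : T.Etale) (g : M ⟶ N) (s : F.obj.obj (op M)), x ∈ Set.range g.left ∧
      ∀ (K : Type u) [Field K] [IsSepClosed K] (ω : Spec (CommRingCat.of K) ⟶ M.left),
        At N.hom F ρ (ω ≫ g.left) (ω ≫ g.left) (Category.comp_id _) (N := M) ω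
          ((Category.assoc _ _ _).trans (congrArg (ω ≫ ·) (MorphismProperty.Over.w g))).symm s := by
    intro x
    let z := geomPt N.left x
    obtain ⟨N', n, hn, s, hs⟩ := exists_at N.hom F ρ z z (Category.comp_id z)
    let cs := cmpScheme N.hom (EtCoh.top N.left) N'
    let pr : cs ⟶ N.left := pullback.fst ((EtCoh.top N.left).hom ≫ N.hom) N'.hom
    haveI : AlgebraicGeometry.Etale N'.hom := N'.prop
    haveI : AlgebraicGeometry.Etale N.hom := N.prop
    haveI : AlgebraicGeometry.Etale pr := MorphismProperty.pullback_fst _ _ N'.prop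
    haveI : AlgebraicGeometry.Etale (pr ≫ N.hom) := inferInstance
    let P : T.Etale := Scheme.Etale.mk (pr ≫ N.hom)
    have hP : pullback.snd ((EtCoh.top N.left).hom ≫ N.hom) N'.hom ≫ N'.hom = pr ≫ N.hom := by
      refine pullback.condition.symm.trans ?_
      show pr ≫ 𝟙 _ ≫ N.hom = _
      rw [Category.id_comp]
    let O : P.left.Opens := ⟨good N.hom F ρ s, isOpen_good N.hom F ρ s⟩
    let toP : EtSite.sub P O ⟶ P := EtSite.subHom P O
    let toN : P ⟶ N := MorphismProperty.Over.homMk pr rfl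
    let toN' : P ⟶ N' := MorphismProperty.Over.homMk (pullback.snd ((EtCoh.top N.left).hom ≫ N.hom) N'.hom) hP
    refine ⟨EtSite.sub P O, toP ≫ toN, F.obj.map (toP ≫ toN').op s, ?_, fun K _ _ ω => ?_⟩
    · let l : Spec (CommRingCat.of _) ⟶ cs := pullback.lift z n (by
        show z ≫ 𝟙 _ ≫ N.hom = n ≫ N'.hom
        rw [Category.id_comp, hn])
      have hl : l default ∈ O := (mem_good_iff N.hom F ρ s l z z n (pullback.lift_fst _ _ _)
        (pullback.lift_snd _ _ _) (Category.comp_id z) hn).2 hs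
      refine ⟨⟨l default, hl⟩, ?_⟩
      show pr (l default) = x
      rw [← Scheme.Hom.comp_apply, show l ≫ pr = z from pullback.lift_fst _ _ _, geomPt_default]
    · let l : Spec (CommRingCat.of K) ⟶ cs := ω ≫ O.ι
      have hmem : l default ∈ O := by
        show (ω ≫ O.ι) default ∈ O
        rw [Scheme.Hom.comp_apply]
        exact (ω default).2
      have h1 := (mem_good_iff N.hom F ρ s l (l ≫ pr) (l ≫ pr)
        (l ≫ pullback.snd ((EtCoh.top N.left).hom ≫ N.hom) N'.hom) rfl rfl (Category.comp_id _)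
        ((Category.assoc _ _ _).trans ((congrArg (l ≫ ·) hP).trans (Category.assoc _ _ _).symm))).1 hmem
      have e : l ≫ pr = ω ≫ (toP ≫ toN).left := Category.assoc _ _ _
      have key : ∀ (q : Spec (CommRingCat.of K) ⟶ N.left) (he : l ≫ pr = q)
          (hq : ω ≫ (EtSite.sub P O).hom = q ≫ N.hom),
          At N.hom F ρ q q (Category.comp_id q) (N := EtSite.sub P O) ω hq (F.obj.map (toP ≫ toN').op s) := by
        intro q he hq
        subst he
        refine SetsStage24.At.congr h1 (val_map F _ (toP ≫ toN') ω hq _ _ ?_ s).symm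
        exact (Category.assoc _ _ _).symm
      exact key _ e _
  choose M g s hx hs using hz
  obtain ⟨t, ht⟩ := exists_glue F M g s (fun x => ⟨x, hx x⟩) (by
    intro k l K _ _ ζ a b e ha hb
    have key : ∀ (q : Spec (CommRingCat.of K) ⟶ N.left) (_ : a ≫ (g k).left = q) (_ : b ≫ (g l).left = q)
        (hqa : a ≫ (M k).hom = q ≫ N.hom) (hqb : b ≫ (M l).hom = q ≫ N.hom),
        val F (q ≫ N.hom) a hqa (s k) = val F (q ≫ N.hom) b hqb (s l) := by
      intro q h₁ h₂ hqa hqb
      exact SetsStage24.At.val_eq (at_congr_pt F h₁ (hs k K a)) (at_congr_pt F h₂ (hs l K b))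
    have hq : (a ≫ (g k).left) ≫ N.hom = ζ := by rw [Category.assoc, MorphismProperty.Over.w, ha]
    exact (val_congr' F hq rfl rfl).1 (key _ rfl e.symm (ha.trans hq.symm) (hb.trans hq.symm)))
  refine ⟨t, fun K _ _ ω => ?_⟩
  obtain ⟨k, y, hy⟩ : ∃ k y, (g k).left y = ω default := ⟨_, hx (ω default)⟩
  haveI := etale_left (g k)
  obtain ⟨c, -⟩ := Scheme.pointSmallEtaleFiberObjToPreimage_surjective ω (s₀ := ω default) rfl
    (Scheme.Etale.mk (g k).left) ⟨y, hy⟩
  let a : Spec (CommRingCat.of K) ⟶ (M k).left := c.left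
  have hca : a ≫ (g k).left = ω := Over.w c
  refine SetsStage24.At.congr (at_congr_pt F hca (hs k K a)) ?_
  rw [← ht k]
  exact val_map F _ (g k) a _ ω rfl hca t

/-- Sections descend along a geometrically connected submersive square. -/
theorem exists_section_of_square {Y T : Scheme.{u}} (e : Y ⟶ T) (F : EtDesc.Sh T) (W : Y.Etale) (N : T.Etale)
    (θ : W.left ⟶ N.left) (hθ : θ ≫ N.hom = W.hom ≫ e) [GeometricallyConnected θ]
    (hsub : EtDesc.IsUnivSubmersive θ) (σ : ((EtDesc.pullSh e).obj F).obj.obj (op W)) :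
    ∃ t : F.obj.obj (op N), ∀ (K : Type u) [Field K] [IsSepClosed K] (ω : Spec (CommRingCat.of K) ⟶ W.left),
      At e F σ (ω ≫ W.hom) ω rfl (N := N) (ω ≫ θ) (by rw [Category.assoc, hθ, Category.assoc]) t := by
  let G := (EtDesc.pullSh e).obj F
  let pY : W.left ⟶ Y := W.hom
  let pA : N.left ⟶ T := N.hom
  let m₀ : EtCoh.top W.left ⟶ (EtCoh.bc pY).obj W :=
    MorphismProperty.Over.homMk (pullback.lift (𝟙 _) (𝟙 _) rfl) (pullback.lift_snd _ _ _)
  let τ := ((EtDesc.pullSh pY).obj G).obj.map m₀.op (res pY G σ)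
  obtain ⟨σ', hσ'⟩ := exists_congr_map_sq (show pY ≫ e = θ ≫ pA from hθ.symm) F (toComp F pY e τ)
  obtain ⟨ρ, hρ⟩ := (unitAt_bijective θ ((EtDesc.pullSh pA).obj F) hsub (EtCoh.top _)).2
    (((EtDesc.pullSh θ).obj ((EtDesc.pullSh pA).obj F)).obj.map (EtCore.bcTopIso θ).hom.op (fromComp F θ pA σ'))
  obtain ⟨t, ht⟩ := exists_section_of_etale F N ρ
  refine ⟨t, fun K _ _ ω => ?_⟩
  obtain ⟨p, hp⟩ := (ConcreteCategory.bijective_of_isIso (Sets.stalkPull e (ω ≫ pY) F)).2
    (val G (ω ≫ pY) ω rfl σ)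
  obtain ⟨M, z, s, hs⟩ := Sets.germ_surjective ((ω ≫ pY) ≫ e) F p
  have hτ : At pY G τ ω ω (Category.comp_id ω) ω rfl σ :=
    at_res pY G σ m₀ ω rfl ((congrArg (ω ≫ ·) (pullback.lift_fst _ _ _)).trans (Category.comp_id ω))
  have hAt := hσ' _ ω M z.left ((Over.w z).trans (Category.assoc _ _ _)) s
    (at_toComp F pY e τ ω (Category.comp_id ω) z.left (Over.w z) s
      (hτ.trans (congrArg _ (by rw [← hp, show val F ((ω ≫ pY) ≫ e) z.left (Over.w z) s = p from hs]))))
  let η := ω ≫ θ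
  have e3 : ((EtDesc.pullSh θ).obj ((EtDesc.pullSh pA).obj F)).obj.map (EtCore.bcTopIso θ).inv.op
      (res θ ((EtDesc.pullSh pA).obj F) ρ) = fromComp F θ pA σ' := by
    show ((EtDesc.pullSh θ).obj ((EtDesc.pullSh pA).obj F)).obj.map _ (EtDesc24.unitAt θ ((EtDesc.pullSh pA).obj F) (EtCoh.top _) ρ) = _
    rw [hρ, ← Functor.map_comp_apply, ← op_comp, Iso.inv_hom_id, op_id, Functor.map_id_apply]
  have h1 : At θ ((EtDesc.pullSh pA).obj F) (fromComp F θ pA σ') ω ω (Category.comp_id ω) η (Category.comp_id _) ρ :=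
    e3 ▸ at_res θ ((EtDesc.pullSh pA).obj F) ρ (EtCore.bcTopIso θ).inv η (Category.comp_id _)
      (congrArg (ω ≫ ·) (Groth.Agent.ShFlat24.bcTop_inv_proj θ))
  have hfin := at_toComp F θ pA (fromComp F θ pA σ') ω (Category.comp_id ω) η
    rfl t (h1.trans (congrArg _ (ht _ η)))
  rw [toComp_fromComp] at hfin
  have h2 := hAt.val_eq hfin
  refine hp.symm.trans (congrArg _ ?_)
  have e4 : (ω ≫ pY) ≫ e = ω ≫ θ ≫ pA := by rw [Category.assoc, hθ]
  exact hs.symm.trans ((val_congr' F e4 rfl rfl (ha := Over.w z)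
    (hb := by rw [Category.assoc, hθ, Category.assoc])).2 h2)
where
  exists_congr_map_sq {P T : Scheme.{u}} {e e' : P ⟶ T} (h : e = e') (F : EtDesc.Sh T)
      (τ : ((EtDesc.pullSh e).obj F).obj.obj (op (EtCoh.top P))) :
      ∃ σ : ((EtDesc.pullSh e').obj F).obj.obj (op (EtCoh.top P)), ∀ (K : Type u) [Field K] [IsSepClosed K]
        (ω : Spec (CommRingCat.of K) ⟶ P) (N : T.Etale) (n : Spec (CommRingCat.of K) ⟶ N.left)
        (hn : n ≫ N.hom = ω ≫ e) (s : F.obj.obj (op N)),
        At e F τ ω ω (Category.comp_id ω) n hn s →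
          At e' F σ ω ω (Category.comp_id ω) n (hn.trans (congrArg (ω ≫ ·) h)) s := by
    subst h
    exact ⟨τ, fun K _ _ ω N n hn s h => h⟩

theorem flat_of_factorization {S U V : Scheme.{u}} (a : U ⟶ V) (p : V ⟶ S) [AlgebraicGeometry.Etale p]
    (q : U ⟶ S) [Flat q] (h : a ≫ p = q) : Flat a := by
  let σ : U ⟶ pullback q p := pullback.lift (𝟙 U) a (by rw [Category.id_comp, h])
  have hσ : σ ≫ pullback.fst q p = 𝟙 U := pullback.lift_fst _ _ _
  haveI : AlgebraicGeometry.Etale (σ ≫ pullback.fst q p) := by rw [hσ]; infer_instance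
  haveI : AlgebraicGeometry.Etale σ := AlgebraicGeometry.Etale.of_comp σ (pullback.fst q p)
  rw [← show σ ≫ pullback.snd q p = a from pullback.lift_snd _ _ _]
  infer_instance

set_option maxHeartbeats 1000000 in
/-- Base change in degree zero from factorizations with geometrically connected fibres. -/
theorem isIso_baseChange0Sh_factorizations {X S Y T : Scheme.{u}} (f : X ⟶ S) [Flat f]
    (g : T ⟶ S) (h : Y ⟶ X) (e : Y ⟶ T) (c : IsPullback e h g f)
    (hcov : ∀ U : X.Etale, ∃ (ι : Type u) (Uc : ι → X.Etale) (mU : ∀ i, Uc i ⟶ U),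
      (∀ y : U.left, ∃ (i : ι) (z : (Uc i).left), (mU i).left.base z = y) ∧
      ∀ i, ∃ (V : S.Etale) (a : (Uc i).left ⟶ V.left),
        a ≫ V.hom = (Uc i).hom ≫ f ∧ QuasiCompact a ∧ GeometricallyConnected a)
    (F : EtDesc.Sh T) :
    IsIso (EtBC.baseChange0Sh g f h e c.w F) := by
  rw [Sets.isIso_iff_stalk]
  intro Ω _ _ ξ
  let G := (EtDesc.pullSh e).obj F
  have hb := ConcreteCategory.bijective_of_isIso (Sets.stalkPull f ξ ((EtDesc.pushSh g).obj F))
  have himg : ∀ {V : S.Etale} (v : fib (ξ ≫ f) V) (t : F.obj.obj (op ((EtCoh.bc g).obj V))),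
      (Sets.stalk ξ).map (EtBC.baseChange0Sh g f h e c.w F)
        (Sets.stalkPull f ξ ((EtDesc.pushSh g).obj F) (Sets.germ (ξ ≫ f) _ v t)) =
      Sets.germ ξ ((EtDesc.pushSh h).obj G) (liftFib f ξ v) (G.obj.map (sqHom g f h e c.w V).op (res e F t)) := by
    intro V v t
    rw [Sets.germ_stalkPull, Sets.germ_nat, baseChange0_germ]
  have hval : ∀ {V : S.Etale} {W : X.Etale} (m : W ⟶ (EtCoh.bc f).obj V)
      (t : F.obj.obj (op ((EtCoh.bc g).obj V))) (K : Type u) [Field K] [IsSepClosed K]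
      (ω : Spec (CommRingCat.of K) ⟶ ((EtCoh.bc h).obj W).left)
      (n : Spec (CommRingCat.of K) ⟶ ((EtCoh.bc g).obj V).left)
      (hn : n ≫ ((EtCoh.bc g).obj V).hom = (ω ≫ ((EtCoh.bc h).obj W).hom) ≫ e)
      (_ : n ≫ bcFst g V = ω ≫ bcFst h W ≫ m.left ≫ bcFst f V),
      At e F (G.obj.map ((EtCoh.bc h).map m).op (G.obj.map (sqHom g f h e c.w V).op (res e F t)))
        (ω ≫ ((EtCoh.bc h).obj W).hom) ω rfl n hn t := by
    intro V W m t K _ _ ω n hn hn'
    have e0 : G.obj.map ((EtCoh.bc h).map m).op (G.obj.map (sqHom g f h e c.w V).op (res e F t)) =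
        G.obj.map (((EtCoh.bc h).map m) ≫ sqHom g f h e c.w V).op (res e F t) := by
      rw [op_comp, Functor.map_comp_apply]
    rw [e0]
    refine at_res e F t (((EtCoh.bc h).map m) ≫ sqHom g f h e c.w V) n hn (pullback.hom_ext ?_ ?_)
    · refine Eq.trans ?_ hn'.symm
      show ((ω ≫ ((EtCoh.bc h).map m).left ≫ (sqHom g f h e c.w V).left) ≫ bcFst e _) ≫ bcFst g V = _
      refine (Category.assoc _ _ _).trans ?_
      refine (Category.assoc _ _ _).trans (congrArg (ω ≫ ·) ?_)
      refine (Category.assoc _ _ _).trans ((congrArg (_ ≫ ·) (sqHom_fst g f h e c.w V)).trans ?_)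
      exact (Category.assoc _ _ _).symm.trans
        ((congrArg (· ≫ bcFst f V) (bcFst_nat h m)).trans (Category.assoc _ _ _))
    · refine Eq.trans ?_ hn.symm
      have hc : bcFst e ((EtCoh.bc g).obj V) ≫ ((EtCoh.bc g).obj V).hom =
          ((EtCoh.bc e).obj ((EtCoh.bc g).obj V)).hom ≫ e := pullback.condition
      have hw := MorphismProperty.Over.w (((EtCoh.bc h).map m) ≫ sqHom g f h e c.w V)
      let K' := (((EtCoh.bc h).map m) ≫ sqHom g f h e c.w V).left
      show (ω ≫ K' ≫ bcFst e ((EtCoh.bc g).obj V)) ≫ ((EtCoh.bc g).obj V).hom = _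
      refine (congrArg (· ≫ _) (Category.assoc ω K' _).symm).trans ?_
      refine (Category.assoc (ω ≫ K') _ _).trans ((congrArg ((ω ≫ K') ≫ ·) hc).trans ?_)
      refine (Category.assoc _ _ _).symm.trans (congrArg (· ≫ e) ?_)
      exact (Category.assoc _ _ _).trans (congrArg (ω ≫ ·) hw)
  -- refining an etale neighbourhood
  have hrefine : ∀ (W : X.Etale) (w : fib ξ W), ∃ (U : X.Etale) (r : U ⟶ W) (u : fib ξ U)
      (_ : (Scheme.pointSmallEtale ξ).fiber.map r u = w) (V : S.Etale) (a : U.left ⟶ V.left),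
      a ≫ V.hom = U.hom ≫ f ∧ QuasiCompact a ∧ GeometricallyConnected a ∧ EtDesc.IsUnivSubmersive a := by
    intro W w
    obtain ⟨ι, Uc, mU, hc, hfac⟩ := hcov W
    let wl : Spec (CommRingCat.of Ω) ⟶ W.left := w.left
    obtain ⟨i, z, hz⟩ := hc (wl default)
    obtain ⟨V, a, ha, hqc, hgc⟩ := hfac i
    haveI := etale_left (mU i)
    obtain ⟨y, -⟩ := Scheme.pointSmallEtaleFiberObjToPreimage_surjective wl (s₀ := wl default) rfl
      (Scheme.Etale.mk (mU i).left) ⟨z, hz⟩
    have hy : y.left ≫ (mU i).left = wl := Over.w y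
    let u : fib ξ (Uc i) := Over.homMk y.left (by
      change y.left ≫ (Uc i).hom = ξ
      exact (congrArg (y.left ≫ ·) (MorphismProperty.Over.w (mU i)).symm).trans ((Category.assoc _ _ _).symm.trans
        ((congrArg (· ≫ W.hom) hy).trans (Over.w w))))
    haveI : AlgebraicGeometry.Etale V.hom := V.prop
    haveI : AlgebraicGeometry.Etale (Uc i).hom := (Uc i).prop
    haveI : Flat a := flat_of_factorization a V.hom _ ha
    exact ⟨Uc i, mU i, u, Over.OverMorphism.ext hy, V, a, ha, hqc, hgc, isUnivSubmersive_of_flat a⟩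
  constructor
  · intro p q hpq
    obtain ⟨p', rfl⟩ := hb.2 p
    obtain ⟨q', rfl⟩ := hb.2 q
    obtain ⟨V, v₀, t, t', rfl, rfl⟩ := GrothendieckTopology.Point.toPresheafFiber_jointly_surjective₂
      (Scheme.pointSmallEtale (ξ ≫ f)) (A := Type (u + 1)) (CC := fun X => X)
      (P := ((EtDesc.pushSh g).obj F).obj) p' q'
    change (Sets.stalk ξ).map _ (Sets.stalkPull f ξ _ (Sets.germ (ξ ≫ f) _ v₀ t)) =
      (Sets.stalk ξ).map _ (Sets.stalkPull f ξ _ (Sets.germ (ξ ≫ f) _ v₀ t')) at hpq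
    show Sets.stalkPull f ξ _ (Sets.germ (ξ ≫ f) _ v₀ t) = Sets.stalkPull f ξ _ (Sets.germ (ξ ≫ f) _ v₀ t')
    rw [himg, himg] at hpq
    refine congrArg _ ?_
    obtain ⟨W, m, w, hw, hWt⟩ := (Sets.germ_eq_iff ξ ((EtDesc.pushSh h).obj G) _ _ _).1 hpq
    obtain ⟨U, r, u, hu, V', a, ha, hqc, hgc, hsub⟩ := hrefine W w
    haveI : AlgebraicGeometry.Etale V.hom := V.prop
    haveI : AlgebraicGeometry.Etale V'.hom := V'.prop
    haveI := hgc
    let P := Gabber24.prod V' V
    let k : U ⟶ (EtCoh.bc f).obj V := r ≫ m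
    let b : U.left ⟶ P.left := pullback.lift a (k.left ≫ bcFst f V) (by
      rw [ha, Category.assoc, show bcFst f V ≫ V.hom = ((EtCoh.bc f).obj V).hom ≫ f from pullback.condition,
        ← Category.assoc, MorphismProperty.Over.w k])
    haveI : AlgebraicGeometry.Etale (prodFst V' V).left := etale_left _
    have hbfst : b ≫ (prodFst V' V).left = a := pullback.lift_fst _ _ _
    have hbsnd : b ≫ (prodSnd V' V).left = k.left ≫ bcFst f V := pullback.lift_snd _ _ _
    let O : P.left.Opens :=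
      ⟨Set.range b, isOpen_range_of_geometricallyConnected a hsub (prodFst V' V).left b hbfst⟩
    let Wn := EtSite.sub P O
    let j : Wn ⟶ V := EtSite.subHom P O ≫ prodSnd V' V
    let ul : Spec (CommRingCat.of Ω) ⟶ U.left := u.left
    haveI : IsOpenImmersion (O.ι : (O : Scheme.{u}) ⟶ P.left) := Scheme.Opens.instIsOpenImmersionι O
    let l : Spec (CommRingCat.of Ω) ⟶ (O : Scheme.{u}) := IsOpenImmersion.lift O.ι (ul ≫ b) (by
      rintro _ ⟨x, rfl⟩
      exact ⟨⟨(ul ≫ b) x, ul x, (Scheme.Hom.comp_apply _ _ _).symm⟩, rfl⟩)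
    have hl : l ≫ O.ι = ul ≫ b := IsOpenImmersion.lift_fac _ _ _
    have hbhom : b ≫ P.hom = U.hom ≫ f := by
      show b ≫ pullback.fst V'.hom V.hom ≫ V'.hom = _
      exact (Category.assoc _ _ _).symm.trans ((congrArg (· ≫ V'.hom) hbfst).trans ha)
    let v : fib (ξ ≫ f) Wn := Over.homMk (l : Spec (CommRingCat.of Ω) ⟶ Wn.left) (by
      show l ≫ O.ι ≫ P.hom = ξ ≫ f
      rw [← Category.assoc, hl, Category.assoc, hbhom, ← Category.assoc]
      exact congrArg (· ≫ f) (Over.w u))
    have hk : ul ≫ k.left = (liftFib f ξ v₀).left := by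
      rw [← congrArg (fun x : fib ξ ((EtCoh.bc f).obj V) => x.left) hw, ← hu]
      exact (Category.assoc _ _ _).symm
    have hv : (Scheme.pointSmallEtale (ξ ≫ f)).fiber.map j v = v₀ := by
      refine Over.OverMorphism.ext ?_
      show l ≫ O.ι ≫ (prodSnd V' V).left = v₀.left
      rw [← Category.assoc, hl, Category.assoc, hbsnd, ← Category.assoc, hk]
      exact pullback.lift_fst _ _ _
    refine (Sets.germ_eq_iff (ξ ≫ f) ((EtDesc.pushSh g).obj F) v₀ t t').2 ⟨Wn, j, v, hv, ?_⟩
    show F.obj.map ((EtCoh.bc g).map j).op t = F.obj.map ((EtCoh.bc g).map j).op t'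
    refine eq_of_agree F fun x => ?_
    rw [SetsStage24.mem_agree_map]
    obtain ⟨z, hz⟩ : (bcFst g Wn ≫ O.ι) x ∈ Set.range b := by
      rw [Scheme.Hom.comp_apply]
      exact (bcFst g Wn x).2
    obtain ⟨y, hy, -⟩ := Scheme.Pullback.exists_preimage_pullback (f := bcFst g Wn ≫ O.ι) (g := b) x z hz.symm
    let ω := geomPt (pullback (bcFst g Wn ≫ O.ι) b) y
    let ω₂ : Spec (CommRingCat.of _) ⟶ ((EtCoh.bc g).obj Wn).left := ω ≫ pullback.fst _ _
    let ω₁ : Spec (CommRingCat.of _) ⟶ U.left := ω ≫ pullback.snd _ _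
    have hω : ω₂ ≫ bcFst g Wn ≫ O.ι = ω₁ ≫ b := by
      simp only [ω₁, ω₂, Category.assoc, pullback.condition]
    have hω' : (ω₂ ≫ ((EtCoh.bc g).obj Wn).hom) ≫ g = (ω₁ ≫ U.hom) ≫ f := by
      rw [Category.assoc, ← show bcFst g Wn ≫ Wn.hom = ((EtCoh.bc g).obj Wn).hom ≫ g from pullback.condition,
        show Wn.hom = O.ι ≫ P.hom from rfl, Category.assoc ω₁, ← hbhom, ← Category.assoc ω₁ b, ← hω]
      simp only [Category.assoc]
      rfl
    let ζ := c.lift (ω₂ ≫ ((EtCoh.bc g).obj Wn).hom) (ω₁ ≫ U.hom) hω'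
    let ψ : Spec (CommRingCat.of _) ⟶ ((EtCoh.bc h).obj U).left :=
      pullback.lift ω₁ ζ (c.lift_snd _ _ _).symm
    have hψ : ψ ≫ ((EtCoh.bc h).obj U).hom = ζ := pullback.lift_snd _ _ _
    let n := ω₂ ≫ ((EtCoh.bc g).map j).left
    have hn : n ≫ ((EtCoh.bc g).obj V).hom = (ψ ≫ ((EtCoh.bc h).obj U).hom) ≫ e := by
      rw [hψ, c.lift_fst, Category.assoc, MorphismProperty.Over.w]
    have hn' : n ≫ bcFst g V = ψ ≫ bcFst h U ≫ k.left ≫ bcFst f V := by
      refine (Category.assoc _ _ _).trans ((congrArg (ω₂ ≫ ·) (bcFst_nat g j)).trans ?_)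
      refine Eq.trans ?_ ((Category.assoc _ _ _).symm.trans
        (congrArg (· ≫ k.left ≫ bcFst f V) (pullback.lift_fst ω₁ ζ _))).symm
      show ω₂ ≫ bcFst g Wn ≫ O.ι ≫ (prodSnd V' V).left = _
      rw [reassoc_of% hω, hbsnd]
    have e2 : G.obj.map ((EtCoh.bc h).map k).op (G.obj.map (sqHom g f h e c.w V).op (res e F t)) =
        G.obj.map ((EtCoh.bc h).map k).op (G.obj.map (sqHom g f h e c.w V).op (res e F t')) := by
      have h4 := congrArg (G.obj.map ((EtCoh.bc h).map r).op) hWt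
      simp only [k, Functor.map_comp, op_comp, ConcreteCategory.comp_apply]
      exact h4
    have h5 := SetsStage24.At.val_eq (hval k t _ ψ n hn hn') (e2 ▸ hval k t' _ ψ n hn hn')
    let φ : fib ((ψ ≫ ((EtCoh.bc h).obj U).hom) ≫ e) ((EtCoh.bc g).obj V) := Over.homMk n hn
    have hpt : fibPt φ = ((EtCoh.bc g).map j).left x := by
      show n default = _
      rw [Scheme.Hom.comp_apply, Scheme.Hom.comp_apply, geomPt_default, hy]
    rw [← hpt]
    exact (mem_agree_iff_germ F φ t t').2 h5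
  · intro q
    obtain ⟨W, w, t₀, rfl⟩ := Sets.germ_surjective ξ ((EtDesc.pushSh h).obj G) q
    obtain ⟨U, r, u, hu, V, a, ha, hqc, hgc, hsub⟩ := hrefine W w
    let θ : ((EtCoh.bc h).obj U).left ⟶ ((EtCoh.bc g).obj V).left :=
      pullback.lift (bcFst h U ≫ a) (((EtCoh.bc h).obj U).hom ≫ e) (by
        rw [Category.assoc, ha, ← Category.assoc, show bcFst h U ≫ U.hom = ((EtCoh.bc h).obj U).hom ≫ h from
          pullback.condition, Category.assoc, Category.assoc, c.w])
    have hθ : θ ≫ ((EtCoh.bc g).obj V).hom = ((EtCoh.bc h).obj U).hom ≫ e := pullback.lift_snd _ _ _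
    have hθ' : θ ≫ bcFst g V = bcFst h U ≫ a := pullback.lift_fst _ _ _
    have hp : IsPullback (bcFst h U) θ a (bcFst g V) := by
      refine IsPullback.of_bot (h₁₁ := bcFst h U) (v₁₁ := θ) (v₂₁ := ((EtCoh.bc g).obj V).hom)
        (v₁₂ := a) (v₂₂ := V.hom) (h₂₁ := bcFst g V) (h₃₁ := g) ?_ hθ'.symm (IsPullback.of_hasPullback V.hom g)
      rw [hθ, ha]
      exact (IsPullback.of_hasPullback U.hom h).paste_vert c.flip
    haveI : GeometricallyConnected θ := MorphismProperty.of_isPullback hp hgc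
    haveI : QuasiCompact θ := MorphismProperty.of_isPullback hp hqc
    haveI : AlgebraicGeometry.Etale V.hom := V.prop
    haveI : AlgebraicGeometry.Etale U.hom := U.prop
    haveI : Flat a := flat_of_factorization a V.hom _ ha
    haveI : Flat θ := MorphismProperty.of_isPullback hp inferInstance
    let σ : G.obj.obj (op ((EtCoh.bc h).obj U)) := G.obj.map ((EtCoh.bc h).map r).op t₀
    obtain ⟨t, ht⟩ := exists_section_of_square e F _ _ θ hθ (isUnivSubmersive_of_flat θ) σ
    let ul : Spec (CommRingCat.of Ω) ⟶ U.left := u.left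
    let v : fib (ξ ≫ f) V := Over.homMk (ul ≫ a) (by
      show (ul ≫ a) ≫ V.hom = ξ ≫ f
      rw [Category.assoc, ha, ← Category.assoc]
      exact congrArg (· ≫ f) (Over.w u))
    refine ⟨Sets.stalkPull f ξ _ (Sets.germ (ξ ≫ f) _ v t), (himg v t).trans ?_⟩
    let m : U ⟶ (EtCoh.bc f).obj V := MorphismProperty.Over.homMk (pullback.lift a U.hom ha) (pullback.lift_snd _ _ _)
    have hm : (Scheme.pointSmallEtale ξ).fiber.map m u = liftFib f ξ v := by
      refine Over.OverMorphism.ext ?_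
      show ul ≫ pullback.lift a U.hom ha = _
      apply pullback.hom_ext
      · refine Eq.trans ?_ (pullback.lift_fst _ _ _).symm
        rw [Category.assoc, pullback.lift_fst]
        rfl
      · refine Eq.trans ?_ (pullback.lift_snd _ _ _).symm
        rw [Category.assoc, pullback.lift_snd]
        exact Over.w u
    rw [← hm, ← hu, ← Sets.germ_map, ← Sets.germ_map]
    refine congrArg _ ?_
    show G.obj.map ((EtCoh.bc h).map m).op _ = σ
    refine ext_val fun K _ _ ζ ω hω => ?_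
    subst hω
    refine (hval m t K ω (ω ≫ θ) (by rw [Category.assoc, hθ, Category.assoc]) ?_).trans (ht K ω).symm
    show (ω ≫ θ) ≫ bcFst g V = ω ≫ bcFst h U ≫ pullback.lift a U.hom ha ≫ pullback.fst V.hom f
    rw [Category.assoc, hθ', pullback.lift_fst]

end Groth.Agent.EtSets24
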