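import Groth.Agent.Lib.EtSets24.IntegralBC
import Groth.Agent.Lib.EtSets24.ConstUnit
import Groth.Agent.Lib.EtSets24.ConnDescent
import Groth.Agent.Lib.AbRigid.Connected
import Groth.Agent.Lib.HensH7.Integral
import Groth.Agent.Lib.Hens.Henselization
import Groth.Agent.S2785
import Mathlib.RingTheory.Localization.BaseChange
import Mathlib.RingTheory.FiniteType

/-!
# Geometric fibres of strictly local maps of universally locally 0-acyclic morphisms are connected
-/

universe u

open CategoryTheory CategoryTheory.Limits AlgebraicGeometry Opposite IsLocalRing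
open scoped TensorProduct

set_option backward.isDefEq.respectTransparency.types false

namespace Groth.Agent.EtSets24

theorem idempotent_trivial_of_connected {R : Type u} [CommRing R] [PreconnectedSpace (PrimeSpectrum R)]
    {e : R} (he : IsIdempotentElem e) : e = 0 ∨ e = 1 := by
  let E := PrimeSpectrum.isIdempotentElemEquivClopens (R := R)
  have h0 := (E ⟨0, IsIdempotentElem.zero⟩).2
  rcases isClopen_iff.1 (E ⟨e, he⟩).2 with h | h
  · refine Or.inl (congrArg Subtype.val (E.injective (a₁ := ⟨e, he⟩) (a₂ := ⟨0, IsIdempotentElem.zero⟩) (TopologicalSpace.Clopens.ext ?_)))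
    refine h.trans ?_
    show ∅ = (PrimeSpectrum.basicOpen (0 : R) : Set (PrimeSpectrum R))
    simp
  · refine Or.inr (congrArg Subtype.val (E.injective (a₁ := ⟨e, he⟩) (a₂ := ⟨1, IsIdempotentElem.one⟩) (TopologicalSpace.Clopens.ext ?_)))
    refine h.trans ?_
    show Set.univ = (PrimeSpectrum.basicOpen (1 : R) : Set (PrimeSpectrum R))
    simp

/-- Over an algebraically closed field trivial idempotents persist under field extensions. -/
theorem idempotent_trivial_baseChange {K C L : Type u} [Field K] [IsAlgClosed K] [CommRing C] [Nontrivial C]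
    [Algebra K C] [Field L] [Algebra K L] (h : ∀ e : C, IsIdempotentElem e → e = 0 ∨ e = 1)
    (e : L ⊗[K] C) (he : IsIdempotentElem e) : e = 0 ∨ e = 1 := by
  classical
  obtain ⟨s, hs⟩ := TensorProduct.exists_finset e
  obtain ⟨C₀, _, _, hft, i, hi, hmem⟩ : ∃ (C₀ : Type u) (_ : CommRing C₀) (_ : Algebra K C₀)
      (_ : Algebra.FiniteType K C₀) (i : C₀ →ₐ[K] C), Function.Injective i ∧ ∀ p ∈ s, p.2 ∈ Set.range i :=
    ⟨Algebra.adjoin K ((s.image Prod.snd : Finset C) : Set C), inferInstance, inferInstance,
      (Subalgebra.fg_iff_finiteType _).1 (Subalgebra.fg_adjoin_finset _), Subalgebra.val _, Subtype.val_injective,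
      fun p hp => ⟨⟨p.2, Algebra.subset_adjoin (Finset.mem_image_of_mem _ hp)⟩, rfl⟩⟩
  haveI : Nontrivial C₀ := i.toRingHom.domain_nontrivial
  choose c hc using hmem
  let m : L ⊗[K] C₀ →ₐ[K] L ⊗[K] C := Algebra.TensorProduct.map (AlgHom.id K L) i
  have hm : Function.Injective m :=
    Module.Flat.lTensor_preserves_injective_linearMap (M := L) i.toLinearMap hi
  let e₀ : L ⊗[K] C₀ := ∑ p ∈ s.attach, p.1.1 ⊗ₜ c p.1 p.2
  have he₀ : m e₀ = e := by
    rw [map_sum, hs, ← Finset.sum_attach (s := s) (f := fun p => p.1 ⊗ₜ[K] p.2)]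
    refine Finset.sum_congr rfl fun p _ => ?_
    rw [Algebra.TensorProduct.map_tmul, AlgHom.id_apply, hc]
  have hid : IsIdempotentElem e₀ := hm (by rw [map_mul, he₀, he.eq])
  have hC₀ : ∀ e : C₀, IsIdempotentElem e → e = 0 ∨ e = 1 := fun e he =>
    (h (i e) (he.map i)).imp (fun h0 => hi (by rw [h0, map_zero])) fun h1 => hi (by rw [h1, map_one])
  let f : Spec (CommRingCat.of C₀) ⟶ Spec (CommRingCat.of K) := Spec.map (CommRingCat.ofHom (algebraMap K C₀))
  haveI : LocallyOfFiniteType f := (HasRingHomProperty.Spec_iff (P := @LocallyOfFiniteType)).2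
    (RingHom.finiteType_algebraMap.2 hft)
  haveI : ConnectedSpace ↥(Spec (CommRingCat.of C₀)) :=
    { toPreconnectedSpace := S2785.preconnected_spec _ hC₀
      toNonempty := inferInstanceAs (Nonempty (PrimeSpectrum C₀)) }
  haveI := AbRigid.connectedSpace_pullback_of_isAlgClosed f (Spec.map (CommRingCat.ofHom (algebraMap K L)))
  haveI : ConnectedSpace ↥(Spec (CommRingCat.of (C₀ ⊗[K] L))) :=
    Function.Surjective.connectedSpace (f := (pullbackSpecIso K C₀ L).hom)
      (pullbackSpecIso K C₀ L).hom.surjective (pullbackSpecIso K C₀ L).hom.continuous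
  haveI : PreconnectedSpace (PrimeSpectrum (C₀ ⊗[K] L)) :=
    inferInstanceAs (PreconnectedSpace ↥(Spec (CommRingCat.of (C₀ ⊗[K] L))))
  let σ := Algebra.TensorProduct.comm K L C₀
  rcases idempotent_trivial_of_connected (hid.map σ) with h0 | h1
  · left; rw [← he₀, show e₀ = 0 from σ.injective (h0.trans (map_zero σ).symm), map_zero]
  · right; rw [← he₀, show e₀ = 1 from σ.injective (h1.trans (map_one σ).symm), map_one]

/-- Away from a point, from bijective units. -/
theorem connectedSpace_away {N T : Type u} [CommRing N] [IsDomain N] [CommRing T] [Algebra N T]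
    (h : EtAcyc.IsZeroAcyclic (Spec.map (CommRingCat.ofHom (algebraMap N T)))) {s : N} (hs : s ≠ 0) :
    ConnectedSpace (PrimeSpectrum (Localization.Away s ⊗[N] T)) := by
  haveI : IsDomain (Localization.Away s) := IsLocalization.isDomain_localization
    (powers_le_nonZeroDivisors_of_noZeroDivisors hs)
  let v := Spec.map (CommRingCat.ofHom (algebraMap N (Localization.Away s)))
  let p := Spec.map (CommRingCat.ofHom (algebraMap N T))
  haveI : IsOpenImmersion v := IsOpenImmersion.of_isLocalization s
  let V : (Spec (CommRingCat.of N)).Etale := MorphismProperty.Over.mk ⊤ v (show AlgebraicGeometry.Etale v from inferInstance)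
  haveI : IrreducibleSpace V.left := inferInstanceAs (IrreducibleSpace (PrimeSpectrum (Localization.Away s)))
  haveI : ConnectedSpace ↥(pullback V.hom p) := connectedSpace_of_unit (EtAcyc.prj p V) fun F => by
    haveI := h V F
    have : IsIso ((EtDesc.adjSh (EtAcyc.prj p V)).unit.app F).hom :=
      inferInstanceAs (IsIso ((sheafToPresheaf _ _).map ((EtDesc.adjSh (EtAcyc.prj p V)).unit.app F)))
    exact ConcreteCategory.bijective_of_isIso
      (((EtDesc.adjSh (EtAcyc.prj p V)).unit.app F).hom.app (op (EtCoh.top V.left)))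
  haveI : ConnectedSpace ↥(pullback v p) := ‹ConnectedSpace ↥(pullback V.hom p)›
  exact Function.Surjective.connectedSpace (f := (pullbackSpecIso N (Localization.Away s) T).hom)
    (pullbackSpecIso N (Localization.Away s) T).hom.surjective (pullbackSpecIso N (Localization.Away s) T).hom.continuous

/-- The generic fibre is connected. -/
theorem idempotent_trivial_fractionRing {N T : Type u} [CommRing N] [IsDomain N] [CommRing T] [Algebra N T]
    (h : EtAcyc.IsZeroAcyclic (Spec.map (CommRingCat.ofHom (algebraMap N T)))) :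
    Nontrivial (FractionRing N ⊗[N] T) ∧
      ∀ e : FractionRing N ⊗[N] T, IsIdempotentElem e → e = 0 ∨ e = 1 := by
  let M := nonZeroDivisors N
  let K := FractionRing N
  haveI : IsLocalizedModule M (TensorProduct.mk N K T 1) := inferInstance
  have hker : ∀ t : T, (1 : K) ⊗ₜ[N] t = 0 → ∃ u : N, u ≠ 0 ∧ u • t = 0 := fun t ht => by
    obtain ⟨u, hu⟩ := (IsLocalizedModule.eq_zero_iff M (TensorProduct.mk N K T 1)).1 ht
    exact ⟨u, nonZeroDivisors.ne_zero u.2, hu⟩
  refine ⟨?_, fun e he => ?_⟩
  · by_contra hn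
    rw [not_nontrivial_iff_subsingleton] at hn
    obtain ⟨u, hu0, hu⟩ := hker 1 (Subsingleton.elim _ _)
    obtain ⟨P⟩ := (connectedSpace_away h hu0).toNonempty
    haveI := (⟨0, 1, fun e => P.isPrime.ne_top ((Ideal.eq_top_iff_one _).2 (e ▸ zero_mem _))⟩ : Nontrivial (Localization.Away u ⊗[N] T))
    refine one_ne_zero (α := Localization.Away u ⊗[N] T) ?_
    have hinv : IsUnit (algebraMap N (Localization.Away u) u) := IsLocalization.Away.algebraMap_isUnit u
    obtain ⟨w, hw⟩ := hinv.exists_left_inv
    rw [Algebra.TensorProduct.one_def, ← hw, mul_comm, ← Algebra.smul_def, TensorProduct.smul_tmul, hu,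
      TensorProduct.tmul_zero]
  -- write `e = (1/d) ⊗ t`
  obtain ⟨⟨t, d⟩, hde⟩ := IsLocalizedModule.surj M (TensorProduct.mk N K T 1) e
  change d.1 • e = (1 : K) ⊗ₜ[N] t at hde
  have hz : (1 : K) ⊗ₜ[N] (t * t - d.1 • t) = 0 := by
    rw [TensorProduct.tmul_sub, TensorProduct.tmul_smul, ← hde,
      show (1 : K) ⊗ₜ[N] (t * t) = ((1 : K) ⊗ₜ[N] t) * ((1 : K) ⊗ₜ[N] t) by
        rw [Algebra.TensorProduct.tmul_mul_tmul, one_mul], ← hde, smul_mul_smul_comm, he.eq, mul_smul, sub_self]
  obtain ⟨u, hu0, hu⟩ := hker _ hz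
  let s := d.1 * u
  have hs : s ≠ 0 := mul_ne_zero (nonZeroDivisors.ne_zero d.2) hu0
  let Q := Localization.Away s
  haveI := connectedSpace_away h hs
  obtain ⟨w, hw⟩ := (IsLocalization.Away.algebraMap_isUnit (S := Q) s).exists_left_inv
  let e₁ : Q ⊗[N] T := (w * algebraMap N Q u) ⊗ₜ[N] t
  have hw' : w * algebraMap N Q d.1 * algebraMap N Q u = 1 := by rw [mul_assoc, ← map_mul, hw]
  have he₁ : IsIdempotentElem e₁ := by
    show ((w * algebraMap N Q u) ⊗ₜ[N] t) * ((w * algebraMap N Q u) ⊗ₜ[N] t) = _
    rw [Algebra.TensorProduct.tmul_mul_tmul,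
      show (w * algebraMap N Q u) * (w * algebraMap N Q u) = u • (w * w * algebraMap N Q u) by
        rw [Algebra.smul_def]; ring, TensorProduct.smul_tmul]
    have hu' : u • (t * t) = u • (d.1 • t) := sub_eq_zero.1 (by rw [← smul_sub]; exact hu)
    rw [hu', ← TensorProduct.smul_tmul, ← TensorProduct.smul_tmul, Algebra.smul_def, Algebra.smul_def]
    congr 1
    calc algebraMap N Q d.1 * (algebraMap N Q u * (w * w * algebraMap N Q u))
        = (w * algebraMap N Q d.1 * algebraMap N Q u) * (w * algebraMap N Q u) := by ring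
      _ = w * algebraMap N Q u := by rw [hw', one_mul]
  let φ : Q →ₐ[N] K := IsLocalization.liftAlgHom (M := Submonoid.powers s) (f := Algebra.ofId N K) fun y => by
    obtain ⟨_, n, rfl⟩ := y
    show IsUnit (algebraMap N K (s ^ n))
    exact IsUnit.mk0 _ ((map_ne_zero_iff _ (IsFractionRing.injective N K)).2 (pow_ne_zero n hs))
  have hmap : Algebra.TensorProduct.map φ (AlgHom.id N T) e₁ = e := by
    refine IsLocalizedModule.smul_injective (TensorProduct.mk N K T 1) (S := M) d ?_
    show d.1 • _ = d.1 • e
    rw [hde, Algebra.TensorProduct.map_tmul, AlgHom.id_apply, TensorProduct.smul_tmul']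
    congr 1
    rw [Algebra.smul_def, ← φ.commutes, ← map_mul, ← map_one φ]
    congr 1
    rw [← hw']
    ring
  rcases idempotent_trivial_of_connected he₁ with h0 | h1
  · exact Or.inl (by rw [← hmap, h0, map_zero])
  · exact Or.inr (by rw [← hmap, h1, map_one])

/-- The fraction field of an integrally closed subring of an algebraically closed field. -/
theorem isAlgClosed_fractionRing_integralClosure (A L : Type u) [CommRing A] [Field L] [IsAlgClosed L]
    [Algebra A L] : IsAlgClosed (FractionRing (integralClosure A L)) := by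
  let N := integralClosure A L
  refine IsAlgClosed.of_exists_root _ fun p hp hirr => ?_
  let j : FractionRing N →+* L := IsFractionRing.lift (g := (N.val : N →ₐ[A] L).toRingHom) Subtype.val_injective
  obtain ⟨r, hr⟩ := IsAlgClosed.exists_eval₂_eq_zero j p (Polynomial.degree_pos_of_irreducible hirr).ne'
  -- clear the denominators of the leading monic equation
  obtain ⟨d, hd⟩ := IsLocalization.exist_integer_multiples (nonZeroDivisors N) p.support p.coeff
  let P : Polynomial (FractionRing N) := p.scaleRoots (algebraMap N _ d.1)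
  have hPm : P.Monic := (Polynomial.monic_scaleRoots_iff _).2 hp
  have hP : P ∈ Polynomial.lifts (algebraMap N (FractionRing N)) := by
    rw [Polynomial.lifts_iff_coeff_lifts]
    intro i
    rw [Polynomial.coeff_scaleRoots]
    by_cases hi : i ∈ p.support
    · rcases lt_or_eq_of_le (Polynomial.le_natDegree_of_mem_supp i hi) with hlt | heq
      · obtain ⟨c, hc⟩ := hd i hi
        refine ⟨c * d.1 ^ (p.natDegree - i - 1), ?_⟩
        rw [map_mul, hc, map_pow, Algebra.smul_def, mul_comm (algebraMap N _ d.1), mul_assoc, ← pow_succ']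
        congr 2
        omega
      · exact ⟨1, by rw [map_one, heq, Nat.sub_self, pow_zero, mul_one, hp.coeff_natDegree]⟩
    · exact ⟨0, by rw [map_zero, Polynomial.notMem_support_iff.1 hi, zero_mul]⟩
  obtain ⟨Q, hQ, -, hQm⟩ := Polynomial.lifts_and_degree_eq_and_monic hP hPm
  have hroot : Polynomial.eval₂ j (j (algebraMap N _ d.1) * r) P = 0 := Polynomial.scaleRoots_eval₂_eq_zero j hr
  rw [← hQ, Polynomial.eval₂_map, show j.comp (algebraMap N _) = (N.val : N →ₐ[A] L).toRingHom from
    RingHom.ext fun z => IsFractionRing.lift_algebraMap (hg := Subtype.val_injective) z] at hroot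
  have hint : IsIntegral A (j (algebraMap N _ d.1) * r) := isIntegral_trans (A := N) _ ⟨Q, hQm, hroot⟩
  let z : N := ⟨_, hint⟩
  have hz : j (algebraMap N _ z) = j (algebraMap N _ d.1) * r := IsFractionRing.lift_algebraMap (hg := Subtype.val_injective) z
  have hd0 : algebraMap N (FractionRing N) d.1 ≠ 0 :=
    (map_ne_zero_iff _ (IsFractionRing.injective N _)).2 (nonZeroDivisors.ne_zero d.2)
  refine ⟨algebraMap N _ z / algebraMap N _ d.1, j.injective ?_⟩
  rw [map_zero, ← Polynomial.eval₂_at_apply, map_div₀, hz, mul_div_cancel_left₀ _ ((map_ne_zero_iff _ j.injective).2 hd0)]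
  exact hr

/-- From the generic fibre to fibres over fields above it. -/
theorem idempotent_trivial_tower {N T L : Type u} [CommRing N] [CommRing T] [Algebra N T] (K : Type u) [Field K]
    [IsAlgClosed K] [Algebra N K] [Field L] [Algebra K L] [Algebra N L] [IsScalarTower N K L]
    (hnt : Nontrivial (K ⊗[N] T)) (hK : ∀ e : K ⊗[N] T, IsIdempotentElem e → e = 0 ∨ e = 1) :
    Nontrivial (L ⊗[N] T) ∧ ∀ e : L ⊗[N] T, IsIdempotentElem e → e = 0 ∨ e = 1 := by
  let ε := (Algebra.TensorProduct.cancelBaseChange N K K L T).symm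
  haveI := hnt
  haveI : Nontrivial (L ⊗[K] (K ⊗[N] T)) := Module.FaithfullyFlat.lTensor_nontrivial K L _
  refine ⟨ε.toEquiv.nontrivial, fun e he => ?_⟩
  rcases idempotent_trivial_baseChange hK (ε e) (he.map ε) with h0 | h1
  · exact Or.inl (ε.injective (h0.trans (map_zero ε).symm))
  · exact Or.inr (ε.injective (h1.trans (map_one ε).symm))

/-- Connectedness of geometric fibres of strictly local maps. -/
theorem idempotent_trivial_of_uloc {X S : Scheme.{u}} (f : X ⟶ S) (hf : EtAcyc.IsULocZeroAcyclic f)
    (x : X) (A B : Type u) [CommRing A] [CommRing B] [IsLocalRing A] [IsLocalRing B]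
    [Algebra (S.presheaf.stalk (f.base x)) A] [IsLocalHom (algebraMap (S.presheaf.stalk (f.base x)) A)]
    [Hensel.IsStrictHenselization (S.presheaf.stalk (f.base x)) A]
    [Algebra (X.presheaf.stalk x) B] [IsLocalHom (algebraMap (X.presheaf.stalk x) B)]
    [Hensel.IsStrictHenselization (X.presheaf.stalk x) B]
    [Algebra A B] [IsLocalHom (algebraMap A B)]
    (hc : (algebraMap A B).comp (algebraMap (S.presheaf.stalk (f.base x)) A) =
      (algebraMap (X.presheaf.stalk x) B).comp (f.stalkMap x).hom)
    (L : Type u) [Field L] [IsAlgClosed L] [Algebra A L] :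
    Nontrivial (B ⊗[A] L) ∧ ∀ e : B ⊗[A] L, IsIdempotentElem e → e = 0 ∨ e = 1 := by
  haveI : HenselianLocalRing A := Hensel.IsStrictHenselization.henselian (R := S.presheaf.stalk (f.base x))
  haveI := (Hensel.IsStrictHenselization.isSepClosure (R := S.presheaf.stalk (f.base x)) (S := A)).1
  let N := integralClosure A L
  obtain ⟨hN, hlocN, hins⟩ := HensH7.henselian_of_integral_domain (B := N) (A := A)
  haveI := hN
  haveI := hlocN
  haveI := (hins inferInstance).1
  haveI : IsPurelyInseparable (ResidueField A) (ResidueField N) := by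
    convert! (hins inferInstance).2 hlocN using 1
    exact Algebra.algebra_ext _ _ fun z => by obtain ⟨a, rfl⟩ := residue_surjective z; rfl
  haveI : Algebra.IsIntegral A N := inferInstance
  have hz := isZeroAcyclic_integral_extension f hf x A B N hc
  obtain ⟨hnt, hK⟩ := idempotent_trivial_fractionRing hz
  let K := FractionRing N
  haveI : IsAlgClosed K := isAlgClosed_fractionRing_integralClosure A L
  letI : Algebra K L := (IsFractionRing.lift (g := (N.val : N →ₐ[A] L).toRingHom) Subtype.val_injective : K →+* L).toAlgebra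
  haveI : IsScalarTower N K L := .of_algebraMap_eq fun z => (IsFractionRing.lift_algebraMap (hg := Subtype.val_injective) z).symm
  let ε : B ⊗[A] L ≃+* L ⊗[N] (N ⊗[A] B) :=
    (Algebra.TensorProduct.comm A B L).toRingEquiv.trans
      (Algebra.TensorProduct.cancelBaseChange A N N L B).symm.toRingEquiv
  obtain ⟨hnt', hL⟩ := idempotent_trivial_tower (L := L) K hnt hK
  haveI := hnt'
  refine ⟨ε.toEquiv.nontrivial, fun e he => ?_⟩
  rcases hL (ε e) (he.map ε) with h0 | h1
  · exact Or.inl (ε.injective (h0.trans (map_zero ε).symm))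
  · exact Or.inr (ε.injective (h1.trans (map_one ε).symm))

end Groth.Agent.EtSets24
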