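import Groth.Agent.Lib.LocAcyc24.BaseChange
import Groth.Agent.Lib.LocAcyc24.Transport
import Groth.Agent.Lib.Hens.StrictBC
import Groth.Prelude.Def_EtAcyc

/-!
# Universal local acyclicity seen on integral extensions of strict localisations

For an integral extension `A'` of a strictly henselian local ring `A = O^sh_{S,s}` the tensor
product `A' ⊗[A] O^sh_{X,x}` is a strict localisation of the base change to `Spec A'`.
-/

universe u

open CategoryTheory CategoryTheory.Limits AlgebraicGeometry IsLocalRing
open scoped TensorProduct

set_option linter.style.haveILetI false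
set_option backward.isDefEq.respectTransparency.types false

namespace Groth.Agent.EtSets24

open LocAcyc24

theorem ringHom_eq_of_spec {R S : Type u} [CommRing R] [CommRing S] (f g : R →+* S)
    (h : Spec.map (CommRingCat.ofHom f) = Spec.map (CommRingCat.ofHom g)) : f = g :=
  congrArg CommRingCat.Hom.hom (Spec.map_injective h)

set_option maxHeartbeats 1000000 in
theorem isZeroAcyclic_integral_extension {X S : Scheme.{u}} (f : X ⟶ S) (hf : EtAcyc.IsULocZeroAcyclic f)
    (x : X) (A B A' : Type u) [CommRing A] [CommRing B] [CommRing A'] [IsLocalRing A] [IsLocalRing B]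
    [Algebra (S.presheaf.stalk (f.base x)) A] [IsLocalHom (algebraMap (S.presheaf.stalk (f.base x)) A)]
    [Hensel.IsStrictHenselization (S.presheaf.stalk (f.base x)) A]
    [Algebra (X.presheaf.stalk x) B] [IsLocalHom (algebraMap (X.presheaf.stalk x) B)]
    [Hensel.IsStrictHenselization (X.presheaf.stalk x) B]
    [Algebra A B] [IsLocalHom (algebraMap A B)]
    (hc : (algebraMap A B).comp (algebraMap (S.presheaf.stalk (f.base x)) A) =
      (algebraMap (X.presheaf.stalk x) B).comp (f.stalkMap x).hom)
    [HenselianLocalRing A'] [IsSepClosed (ResidueField A')] [Algebra A A'] [IsLocalHom (algebraMap A A')]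
    [Algebra.IsIntegral A A'] [IsPurelyInseparable (ResidueField A) (ResidueField A')] :
    EtAcyc.IsZeroAcyclic (Spec.map (CommRingCat.ofHom (algebraMap A' (A' ⊗[A] B)))) := by
  haveI : HenselianLocalRing B := Hensel.IsStrictHenselization.henselian (R := X.presheaf.stalk x)
  haveI := (Hensel.IsStrictHenselization.isSepClosure (R := X.presheaf.stalk x) (S := B)).1
  have hsepX := (Hensel.IsStrictHenselization.isSepClosure (R := X.presheaf.stalk x) (S := B)).2
  obtain ⟨hTloc, hiC, -⟩ := Hens.isLocalRing_tensor_of_purelyInseparable A A' B
  haveI := hTloc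
  let T := A' ⊗[A] B
  let iB : A' →+* T := algebraMap A' T
  let iC : B →+* T := (Algebra.TensorProduct.includeRight : B →ₐ[A] T).toRingHom
  haveI : IsLocalHom iC := hiC
  obtain ⟨hTh, hTs⟩ : HenselianLocalRing T ∧ IsSepClosed (ResidueField T) := by
    letI : Algebra B T := iC.toAlgebra
    haveI : IsLocalHom (algebraMap B T) := hiC
    haveI : Algebra.IsIntegral B T := ⟨Hens.isIntegral_includeRight A A' B⟩
    haveI := Hens.isAlgebraic_residueField B T
    exact ⟨Hens.henselianLocalRing_of_isIntegral B _,
      Hens.isSepClosed_of_isAlgebraic (ResidueField B) (ResidueField T)⟩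
  haveI := hTh
  haveI := hTs
  have e : iC.comp (algebraMap A B) = iB.comp (algebraMap A A') := RingHom.ext fun r => by
    show (1 : A') ⊗ₜ[A] algebraMap A B r = algebraMap A A' r ⊗ₜ[A] (1 : B)
    rw [Algebra.algebraMap_eq_smul_one, Algebra.algebraMap_eq_smul_one, TensorProduct.tmul_smul,
      TensorProduct.smul_tmul']
  have hψ := (specOf_compat f (algebraMap A B)).1 hc
  let b : Spec (CommRingCat.of A') ⟶ S :=
    Spec.map (CommRingCat.ofHom (algebraMap A A')) ≫ Hens2.specOf S (f.base x) A
  have haw : (Spec.map (CommRingCat.ofHom iC) ≫ Hens2.specOf X x B) ≫ f =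
      Spec.map (CommRingCat.ofHom iB) ≫ b := by
    rw [Category.assoc, ← hψ, ← Category.assoc, ← Spec.map_comp, ← CommRingCat.ofHom_comp, e,
      CommRingCat.ofHom_comp, Spec.map_comp, Category.assoc]
  let aT : Spec (CommRingCat.of T) ⟶ pullback f b := pullback.lift _ _ haw
  let x' : (pullback f b : Scheme.{u}) := aT (closedPoint T)
  have hx : pullback.fst f b x' = x := by
    show pullback.fst f b (aT (closedPoint T)) = x
    rw [← Scheme.Hom.comp_apply, pullback.lift_fst, Scheme.Hom.comp_apply, map_closedPoint iC]
    exact specOf_closedPoint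
  haveI : IsLocalHom iB := by
    -- residue fields: `A'` is integral over `A`, and `A → T` is local
    haveI : IsLocalHom (iC.comp (algebraMap A B)) := RingHom.isLocalHom_comp _ _
    refine ⟨fun a ha => ?_⟩
    by_contra hn
    have hmax : (maximalIdeal T).comap iB = maximalIdeal A' := by
      haveI : ((maximalIdeal T).comap iB).IsMaximal := by
        refine Ideal.isMaximal_of_isIntegral_of_isMaximal_comap (R := A) _ ?_
        rw [Ideal.comap_comap, ← e, IsLocalRing.maximalIdeal_comap]
        exact IsLocalRing.maximalIdeal.isMaximal _
      exact IsLocalRing.eq_maximalIdeal this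
    exact (hmax.ge hn : iB a ∈ maximalIdeal T) ha
  have hy : pullback.snd f b x' = closedPoint A' := by
    show pullback.snd f b (aT (closedPoint T)) = _
    rw [← Scheme.Hom.comp_apply, pullback.lift_snd]
    exact map_closedPoint iB
  -- strict henselizations
  let OY := (Spec (CommRingCat.of A')).presheaf.stalk ((pullback.snd f b).base x')
  obtain ⟨fA, hfAl, hfA⟩ := exists_localHom (X := Spec (CommRingCat.of A')) (x := (pullback.snd f b).base x')
    (T := A') (𝟙 _) hy.symm
  letI : Algebra OY A' := fA.toAlgebra
  haveI : IsLocalHom (algebraMap OY A') := hfAl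
  have hfAbij : Function.Bijective fA := by
    let κ : A' →+* OY := (Spec.preimage ((Spec (CommRingCat.of A')).fromSpecStalk _)).hom
    have h1 : fA.comp κ = RingHom.id A' := ringHom_eq_of_spec (fA.comp κ) (RingHom.id A') ((by
      rw [CommRingCat.ofHom_comp, Spec.map_comp, show CommRingCat.ofHom κ = Spec.preimage _ from rfl, Spec.map_preimage, hfA]
      simp))
    have h2 : κ.comp fA = RingHom.id OY := ringHom_ext_specOf (by
      rw [CommRingCat.ofHom_comp, Spec.map_comp, Category.assoc, hfA, Category.comp_id,
        show CommRingCat.ofHom κ = Spec.preimage _ from rfl, Spec.map_preimage]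
      simp
      exact (Category.id_comp _).symm)
    exact Function.bijective_iff_has_inverse.2 ⟨κ, fun z => congr($h2 z), fun z => congr($h1 z)⟩
  haveI : Hensel.IsStrictHenselization OY A' := by
    haveI := Hens.isStrictHenselization_self A'
    exact isStrictHenselization_of_ringEquiv (B := A') (RingEquiv.ofBijective fA hfAbij) fun _ => rfl
  let OX := (pullback f b).presheaf.stalk x'
  obtain ⟨fT, hfTl, hfT⟩ := exists_localHom (X := pullback f b) (x := x') aT rfl
  letI : Algebra OX T := fT.toAlgebra
  haveI : IsLocalHom (algebraMap OX T) := hfTl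
  haveI : Hensel.IsStrictHenselization OX T :=
  { henselian := inferInstance
    isSepClosure := by
      refine ⟨inferInstance, ⟨fun z => ?_⟩⟩
      obtain ⟨t, rfl⟩ := residue_surjective z
      induction t using TensorProduct.induction_on with
      | zero => rw [map_zero]; exact (map_zero (algebraMap (ResidueField OX) (ResidueField T))) ▸ isSeparable_algebraMap _
      | add v w hv hw => rw [map_add]; exact Field.isSeparable_add hv hw
      | tmul a c =>
        have ht : a ⊗ₜ[A] c = iB a * iC c := by
          show _ = (a ⊗ₜ[A] (1 : B)) * ((1 : A') ⊗ₜ[A] c)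
          rw [Algebra.TensorProduct.tmul_mul_tmul, mul_one, one_mul]
        rw [ht, map_mul]
        refine Field.isSeparable_mul ?_ ?_
        · obtain ⟨o, rfl⟩ := hfAbij.2 a
          have : iB.comp fA = fT.comp ((pullback.snd f b).stalkMap x').hom := by
            refine ringHom_ext_specOf ?_
            rw [CommRingCat.ofHom_comp, Spec.map_comp, Category.assoc, hfA, Category.comp_id,
              CommRingCat.ofHom_comp (f := ((pullback.snd f b).stalkMap x').hom) (g := fT), CommRingCat.ofHom_hom, Spec.map_comp, Category.assoc, Scheme.SpecMap_stalkMap_fromSpecStalk,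
              ← Category.assoc, hfT, pullback.lift_snd]
          rw [show iB (fA o) = fT ((pullback.snd f b).stalkMap x' o) from congr($this o)]
          exact isSeparable_algebraMap (residue OX ((pullback.snd f b).stalkMap x' o))
        · let kX := (pullback.fst f b).stalkMap x'
          obtain ⟨gx, hgx⟩ : ∃ g : X.presheaf.stalk x →+* OX, fT.comp g = iC.comp (algebraMap (X.presheaf.stalk x) B) := by
            have key : ∀ (y : X) (hy : pullback.fst f b x' = y), ∃ g : X.presheaf.stalk y →+* OX,
                Spec.map (CommRingCat.ofHom (fT.comp g)) ≫ X.fromSpecStalk y = aT ≫ pullback.fst f b := by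
              rintro _ rfl
              refine ⟨kX.hom, ?_⟩
              rw [CommRingCat.ofHom_comp, CommRingCat.ofHom_hom, Spec.map_comp, Category.assoc,
                Scheme.SpecMap_stalkMap_fromSpecStalk, ← Category.assoc, hfT]
            obtain ⟨g, hg⟩ := key x hx
            refine ⟨g, ringHom_ext_specOf ?_⟩
            rw [hg, pullback.lift_fst, CommRingCat.ofHom_comp, Spec.map_comp, Category.assoc]
          haveI : IsLocalHom gx := by
            haveI : IsLocalHom (fT.comp gx) := by rw [hgx]; exact RingHom.isLocalHom_comp _ _
            exact isLocalHom_of_comp gx fT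
          let j : ResidueField (X.presheaf.stalk x) →+* ResidueField OX := ResidueField.map gx
          haveI := hsepX
          have hsep := Algebra.IsSeparable.isSeparable (ResidueField (X.presheaf.stalk x)) (residue B c)
          let P := (minpoly (ResidueField (X.presheaf.stalk x)) (residue B c)).map j
          have hroot : Polynomial.aeval (residue T (iC c)) P = 0 := by
            rw [Polynomial.aeval_def, Polynomial.eval₂_map]
            have hcomm : (algebraMap (ResidueField OX) (ResidueField T)).comp j =
                (ResidueField.map iC).comp (algebraMap (ResidueField (X.presheaf.stalk x)) (ResidueField B)) :=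
              RingHom.ext fun y => by
                obtain ⟨o, rfl⟩ := residue_surjective y
                exact congrArg (residue T) congr($hgx o)
            rw [hcomm, show residue T (iC c) = ResidueField.map iC (residue B c) from rfl, ← Polynomial.hom_eval₂,
              ← Polynomial.aeval_def, minpoly.aeval, map_zero]
          exact (Polynomial.Separable.map hsep).of_dvd (minpoly.dvd _ _ hroot)
    universal := fun Z _ _ φ _ τ hτ => by
      let a : Spec (CommRingCat.of Z) ⟶ pullback f b := Spec.map (CommRingCat.ofHom φ) ≫ (pullback f b).fromSpecStalk x'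
      let gA : A' →+* Z := (Spec.preimage (a ≫ pullback.snd f b)).hom
      have hgA : Spec.map (CommRingCat.ofHom gA) = a ≫ pullback.snd f b := Spec.map_preimage _
      have hres0 : (residue Z).comp φ = (τ.comp (residue T)).comp fT := RingHom.ext fun o => by
        exact (congr($hτ (residue OX o))).symm
      have hresA : (residue Z).comp gA = (τ.comp (residue T)).comp iB :=
        ringHom_eq_of_spec _ _ ((by
          rw [CommRingCat.ofHom_comp, Spec.map_comp, hgA, CommRingCat.ofHom_comp (f := iB), Spec.map_comp,
            show Spec.map (CommRingCat.ofHom iB) = aT ≫ pullback.snd f b from (pullback.lift_snd _ _ _).symm, ← hfT]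
          simp only [a, ← Category.assoc, ← Spec.map_comp, ← CommRingCat.ofHom_comp, hres0]))
      haveI : IsLocalHom gA := ⟨fun r hr => by
        have h := congr($hresA r)
        refine (isUnit_map_iff iB r).1 (residue_ne_zero_iff_isUnit _ |>.1 fun h0 => ?_)
        have h2 : residue Z (gA r) = τ (residue T (iB r)) := h
        rw [h0, map_zero] at h2
        exact (residue_ne_zero_iff_isUnit _).2 hr h2⟩
      obtain ⟨f₀, hf₀l, hf₀⟩ := exists_localHom (X := X) (x := x) (T := Z) (a ≫ pullback.fst f b) (by
        rw [Scheme.Hom.comp_apply]
        refine Eq.trans (congrArg (pullback.fst f b).base ?_) hx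
        show a (closedPoint Z) = x'
        rw [Scheme.Hom.comp_apply, map_closedPoint φ, Scheme.fromSpecStalk_closedPoint])
      have hres₀ : (residue Z).comp f₀ = (τ.comp (residue T)).comp (iC.comp (algebraMap (X.presheaf.stalk x) B)) := by
        refine ringHom_ext_specOf ?_
        rw [CommRingCat.ofHom_comp, Spec.map_comp, Category.assoc, hf₀,
          CommRingCat.ofHom_comp (f := iC.comp _), Spec.map_comp,
          Category.assoc (Spec.map (CommRingCat.ofHom (τ.comp (residue T)))),
          show Spec.map (CommRingCat.ofHom (iC.comp (algebraMap (X.presheaf.stalk x) B))) ≫ X.fromSpecStalk x =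
            aT ≫ pullback.fst f b by rw [pullback.lift_fst, CommRingCat.ofHom_comp, Spec.map_comp, Category.assoc],
          ← hfT]
        simp only [a, ← Category.assoc, ← Spec.map_comp, ← CommRingCat.ofHom_comp, hres0]
      obtain ⟨gB, hgBl, hgB₀, hgBs, hgBr⟩ := exists_lift_residue (X := X) (x := x) (R := B) f₀
        (τ.comp (ResidueField.map iC)) (RingHom.ext fun y => by
          obtain ⟨o, rfl⟩ := residue_surjective y
          exact (congr($hres₀ o)).symm)
      have hcomm : gB.comp (algebraMap A B) = gA.comp (algebraMap A A') := by
        haveI : IsLocalHom (gA.comp (algebraMap A A')) := RingHom.isLocalHom_comp _ _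
        refine hom_ext (X := S) (x := f.base x) (gA.comp (algebraMap A A')) _ ?_ fun r => ?_
        · rw [CommRingCat.ofHom_comp, Spec.map_comp, Category.assoc, hψ, ← Category.assoc, hgBs, hf₀,
            CommRingCat.ofHom_comp, Spec.map_comp, Category.assoc, hgA, Category.assoc, pullback.condition,
            Category.assoc]
          simp only [a, b, Category.assoc]
        · show residue Z (gB (algebraMap A B r)) = residue Z (gA (algebraMap A A' r))
          rw [hgBr, show residue Z (gA (algebraMap A A' r)) = τ (residue T (iB (algebraMap A A' r))) from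
            congr($hresA _)]
          show τ (residue T (iC (algebraMap A B r))) = _
          exact congrArg (fun z => τ (residue T z)) congr($e r)
      letI : Algebra A Z := (gA.comp (algebraMap A A')).toAlgebra
      let gA' : A' →ₐ[A] Z := { gA with commutes' := fun _ => rfl }
      let gB' : B →ₐ[A] Z := { gB with commutes' := fun r => congr($hcomm r) }
      let g : T →ₐ[A] Z := Algebra.TensorProduct.lift gA' gB' fun _ _ => Commute.all _ _
      have hgiB : g.toRingHom.comp iB = gA := RingHom.ext fun r => by
        show g (r ⊗ₜ[A] (1 : B)) = _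
        rw [Algebra.TensorProduct.lift_tmul, map_one, mul_one]
        rfl
      have hgiC : g.toRingHom.comp iC = gB := RingHom.ext fun r => by
        show g ((1 : A') ⊗ₜ[A] r) = _
        rw [Algebra.TensorProduct.lift_tmul, map_one, one_mul]
        rfl
      refine ⟨g.toRingHom, ⟨ringHom_ext_specOf ?_, fun t => ?_⟩, fun g' ⟨hg', hg'r⟩ => ?_⟩
      · rw [CommRingCat.ofHom_comp, Spec.map_comp, Category.assoc, hfT]
        refine pullback.hom_ext ?_ ?_
        · rw [Category.assoc, pullback.lift_fst, ← Category.assoc, ← Spec.map_comp, ← CommRingCat.ofHom_comp,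
            hgiC, hgBs, hf₀]
        · rw [Category.assoc, pullback.lift_snd, ← Spec.map_comp, ← CommRingCat.ofHom_comp, hgiB, hgA]
      · induction t using TensorProduct.induction_on with
        | zero => simp
        | add v w hv hw => simp only [map_add, hv, hw]
        | tmul r c =>
          show residue Z (g (r ⊗ₜ[A] c)) = τ (residue T (r ⊗ₜ[A] c))
          rw [show r ⊗ₜ[A] c = iB r * iC c by
              show _ = (r ⊗ₜ[A] (1 : B)) * ((1 : A') ⊗ₜ[A] c)
              rw [Algebra.TensorProduct.tmul_mul_tmul, mul_one, one_mul],
            map_mul, map_mul, map_mul, map_mul, show g (iB r) = gA r from congr($hgiB r),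
            show g (iC c) = gB c from congr($hgiC c), hgBr]
          exact congrArg (· * _) congr($hresA r)
      · have hspec : Spec.map (CommRingCat.ofHom g') ≫ aT = a := by
          rw [← hfT, ← Category.assoc, ← Spec.map_comp, ← CommRingCat.ofHom_comp]
          exact congrArg (fun h => Spec.map (CommRingCat.ofHom h) ≫ (pullback f b).fromSpecStalk x') hg'
        have h1 : g'.comp iB = gA := ringHom_eq_of_spec _ _ ((by
            rw [hgA, CommRingCat.ofHom_comp, Spec.map_comp, ← hspec, Category.assoc, pullback.lift_snd]))
        have h2 : g'.comp iC = gB := by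
          refine hom_ext (X := X) (x := x) gB _ ?_ fun r => ?_
          · rw [CommRingCat.ofHom_comp, Spec.map_comp, Category.assoc,
              show Spec.map (CommRingCat.ofHom iC) ≫ Hens2.specOf X x B = aT ≫ pullback.fst f b from
                (pullback.lift_fst _ _ _).symm, ← Category.assoc, hspec, hgBs, hf₀]
          · rw [hgBr]
            exact hg'r (iC r)
        refine RingHom.ext fun t => ?_
        induction t using TensorProduct.induction_on with
        | zero => simp
        | add v w hv hw => simp only [map_add, hv, hw]
        | tmul r c =>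
          show g' (r ⊗ₜ[A] c) = g (r ⊗ₜ[A] c)
          rw [show r ⊗ₜ[A] c = iB r * iC c by
              show _ = (r ⊗ₜ[A] (1 : B)) * ((1 : A') ⊗ₜ[A] c)
              rw [Algebra.TensorProduct.tmul_mul_tmul, mul_one, one_mul],
            map_mul, map_mul, show g (iB r) = gA r from congr($hgiB r),
            show g (iC c) = gB c from congr($hgiC c), show g' (iB r) = gA r from congr($h1 r),
            show g' (iC c) = gB c from congr($h2 c)] }
  haveI : IsLocalHom (algebraMap A' T) := ‹IsLocalHom iB›
  refine hf (pullback.snd f b) (pullback.fst f b) b (IsPullback.of_hasPullback f b) x' A' T ?_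
  refine ringHom_ext_specOf ?_
  show Spec.map (CommRingCat.ofHom (iB.comp fA)) ≫ _ = Spec.map (CommRingCat.ofHom (fT.comp _)) ≫ _
  rw [CommRingCat.ofHom_comp, Spec.map_comp, Category.assoc, hfA, Category.comp_id,
    CommRingCat.ofHom_comp (f := ((pullback.snd f b).stalkMap x').hom) (g := fT), CommRingCat.ofHom_hom, Spec.map_comp, Category.assoc, Scheme.SpecMap_stalkMap_fromSpecStalk, ← Category.assoc,
    hfT, pullback.lift_snd]

end Groth.Agent.EtSets24
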