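import Groth.Agent.Lib.EtSets24.GeomConnAcyclic
import Groth.Agent.Lib.EtSets24.Submersive
import Groth.Agent.Lib.GeomConn24.StagedConn
import Groth.Agent.Lib.ShFlat24.Main
import Groth.Agent.Lib.LocAcyc24.SHPoint
import Groth.Agent.Lib.Hens.Henselization

/-!
# Strictly local models for universally locally 0-acyclic morphisms
-/

universe u

open CategoryTheory CategoryTheory.Limits AlgebraicGeometry Opposite IsLocalRing Groth.Agent.Hens

open scoped TensorProduct

set_option backward.isDefEq.respectTransparency.types false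

namespace Groth.Agent.EtSets24

theorem isULocZeroAcyclic_of_isPullback {X S X' S' : Scheme.{u}} {f : X ⟶ S} {f' : X' ⟶ S'} {g' : X' ⟶ X}
    {g : S' ⟶ S} (h : IsPullback g' f' f g) (hf : EtAcyc.IsULocZeroAcyclic f) : EtAcyc.IsULocZeroAcyclic f' :=
  fun _ _ g₁ b' b h₁ => hf g₁ (b' ≫ g') (b ≫ g) (h₁.paste_horiz h)

/-- Universally locally 0-acyclic morphisms are generalizing. -/
theorem generalizingMap_of_uloc {X S : Scheme.{u}} (f : X ⟶ S) (hf : EtAcyc.IsULocZeroAcyclic f) :
    GeneralizingMap f := by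
  intro x y hy
  let RY := Hsh (S.presheaf.stalk (f x))
  let RX := Hsh (X.presheaf.stalk x)
  haveI : IsSepClosed (ResidueField RX) :=
    (Hensel.IsStrictHenselization.isSepClosure (R := X.presheaf.stalk x) (S := RX)).1
  obtain ⟨g, hgl, hg⟩ := LocAcyc24.exists_lift (X := S) (x := f x) (R := RY) (T := RX)
    (Hens2.specOf X x RX ≫ f) (by
      rw [Scheme.Hom.comp_apply]
      exact congrArg f.base LocAcyc24.specOf_closedPoint)
  letI : Algebra RY RX := g.toAlgebra
  haveI : IsLocalHom (algebraMap RY RX) := hgl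
  have hc := (LocAcyc24.specOf_compat f g).2 hg
  obtain ⟨z, rfl⟩ := (Scheme.range_fromSpecStalk (x := f x)).ge hy
  haveI : Module.FaithfullyFlat (S.presheaf.stalk (f x)) RY := Module.FaithfullyFlat.of_flat_of_isLocalHom
  obtain ⟨w, hw⟩ := PrimeSpectrum.comap_surjective_of_faithfullyFlat (A := S.presheaf.stalk (f x)) (B := RY) z
  let L := AlgebraicClosure (w : PrimeSpectrum RY).asIdeal.ResidueField
  letI : Algebra RY L := ((algebraMap (w : PrimeSpectrum RY).asIdeal.ResidueField L).comp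
    (algebraMap RY (w : PrimeSpectrum RY).asIdeal.ResidueField)).toAlgebra
  obtain ⟨hnt, -⟩ := idempotent_trivial_of_uloc f hf x RY RX hc L
  obtain ⟨P⟩ : Nonempty (PrimeSpectrum (RX ⊗[RY] L)) := inferInstance
  let v : PrimeSpectrum RX := PrimeSpectrum.comap (algebraMap RX (RX ⊗[RY] L)) P
  have hv : PrimeSpectrum.comap (algebraMap RY RX) v = w := by
    refine PrimeSpectrum.ext ?_
    show (P.asIdeal.comap (algebraMap RX (RX ⊗[RY] L))).comap (algebraMap RY RX) = w.asIdeal
    rw [Ideal.comap_comap, ← IsScalarTower.algebraMap_eq,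
      show algebraMap RY (RX ⊗[RY] L) = (Algebra.TensorProduct.includeRight : L →ₐ[RY] RX ⊗[RY] L).toRingHom.comp
        (algebraMap RY L) from (Algebra.TensorProduct.includeRight : L →ₐ[RY] RX ⊗[RY] L).comp_algebraMap.symm,
      ← Ideal.comap_comap, Ideal.eq_bot_of_prime (P.asIdeal.comap _),
      show algebraMap RY L = (algebraMap w.asIdeal.ResidueField L).comp (algebraMap RY w.asIdeal.ResidueField) from rfl,
      ← Ideal.comap_comap, Ideal.comap_bot_of_injective (algebraMap w.asIdeal.ResidueField L) (algebraMap w.asIdeal.ResidueField L).injective, ← RingHom.ker_eq_comap_bot,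
      Ideal.ker_algebraMap_residueField]
  refine ⟨Hens2.specOf X x RX v, ?_, ?_⟩
  · have h := (IsLocalRing.specializes_closedPoint v).map (Hens2.specOf X x RX).continuous
    rwa [LocAcyc24.specOf_closedPoint] at h
  · have h1 := congrArg (fun m : Spec (CommRingCat.of RX) ⟶ S => m v) hg
    refine h1.symm.trans ?_
    show Hens2.specOf S (f x) RY (Spec.map (CommRingCat.ofHom (algebraMap RY RX)) v) = _
    rw [show Spec.map (CommRingCat.ofHom (algebraMap RY RX)) v = w from hv, Hens2.specOf, Scheme.Hom.comp_apply]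
    exact congrArg (S.fromSpecStalk (f x)).base hw

set_option maxHeartbeats 1000000 in
/-- Models of strict henselizations at a geometric point of the source and its image. -/
theorem exists_pair_model_uloc {X S : Scheme.{u}} (f : X ⟶ S) (hf : EtAcyc.IsULocZeroAcyclic f) {Ω : Type u}
    [Field Ω] [IsSepClosed Ω] (ξ : Spec (CommRingCat.of Ω) ⟶ X) :
    ∃ (A B : Type u) (_ : CommRing A) (_ : HenselianLocalRing A) (_ : IsSepClosed (ResidueField A))
      (_ : CommRing B) (_ : HenselianLocalRing B) (_ : IsSepClosed (ResidueField B))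
      (α : Spec (CommRingCat.of A) ⟶ S) (_ : Flat α) (_ : ProperPush24.HasLifts α)
      (β : Spec (CommRingCat.of B) ⟶ X) (_ : Flat β) (ψ : A →+* B) (_ : IsLocalHom ψ)
      (ζA : Spec (CommRingCat.of Ω) ⟶ Spec (CommRingCat.of (ResidueField A)))
      (ζB : Spec (CommRingCat.of Ω) ⟶ Spec (CommRingCat.of (ResidueField B))),
      β ≫ f = Spec.map (CommRingCat.ofHom ψ) ≫ α ∧
      ζB ≫ Spec.map (CommRingCat.ofHom (residue B)) ≫ β = ξ ∧
      ζB ≫ Spec.map (CommRingCat.ofHom (residue B)) ≫ Spec.map (CommRingCat.ofHom ψ) =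
        ζA ≫ Spec.map (CommRingCat.ofHom (residue A)) ∧
      GeometricallyConnected (Spec.map (CommRingCat.ofHom ψ)) ∧
      Surjective (Spec.map (CommRingCat.ofHom ψ)) ∧
      ∀ (W : Scheme.{u}) (g : W ⟶ Spec (CommRingCat.of A)),
        GeneralizingMap (pullback.snd (Spec.map (CommRingCat.ofHom ψ)) g) := by
  let x := ξ default
  obtain ⟨U, hU, hxU, -⟩ : ∃ U : S.Opens, IsAffineOpen U ∧ f x ∈ U ∧ (U : Set S) ⊆ Set.univ :=
    exists_isAffineOpen_mem_and_subset (U := (⊤ : S.Opens)) trivial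
  obtain ⟨V, hV, hxV, hVU⟩ : ∃ V : X.Opens, IsAffineOpen V ∧ x ∈ V ∧ (V : Set X) ⊆ (f ⁻¹ᵁ U : X.Opens) :=
    exists_isAffineOpen_mem_and_subset (U := f ⁻¹ᵁ U) hxU
  let ξ₀ : Spec (CommRingCat.of Ω) ⟶ V.toScheme := IsOpenImmersion.lift V.ι ξ (by
    rw [Scheme.Opens.range_ι]
    rintro _ ⟨z, rfl⟩
    rw [Subsingleton.elim z default]
    exact hxV)
  have hξ₀ : ξ₀ ≫ V.ι = ξ := IsOpenImmersion.lift_fac _ _ _
  let φ' : Γ(X, V) ⟶ CommRingCat.of Ω := Spec.preimage (ξ₀ ≫ hV.isoSpec.hom)
  have hφ' : Spec.map φ' ≫ hV.fromSpec = ξ := by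
    rw [Spec.map_preimage, Category.assoc, ← IsAffineOpen.isoSpec_inv_ι, Iso.hom_inv_id_assoc, hξ₀]
  let φf : Γ(S, U) ⟶ Γ(X, V) := f.appLE U V hVU
  let R : Type u := Γ(S, U)
  let R' : Type u := Γ(X, V)
  letI : Algebra R R' := φf.hom.toAlgebra
  letI : Algebra R' Ω := φ'.hom.toAlgebra
  letI : Algebra R Ω := (φ'.hom.comp φf.hom).toAlgebra
  haveI : IsScalarTower R R' Ω := IsScalarTower.of_algebraMap_eq fun _ => rfl
  let A := Hs R Ω
  let B := Hs R' Ω
  obtain ⟨ψ, hψR, hψres⟩ := ShFlat24.exists_hsMap (R := R) (R' := R') (Ω := Ω)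
  haveI : IsLocalHom ψ := ⟨fun a ha => (Hs.isUnit_iff a).2 (hψres a ▸ (Hs.isUnit_iff _).1 ha)⟩
  -- strict henselizations of the local rings
  letI : Algebra R (S.presheaf.stalk (f x)) := (S.presheaf.germ U (f x) hxU).hom.toAlgebra
  letI : Algebra R' (X.presheaf.stalk x) := (X.presheaf.germ V x hxV).hom.toAlgebra
  let qS : Ideal R := (hU.primeIdealOf ⟨f x, hxU⟩).asIdeal
  let qX : Ideal R' := (hV.primeIdealOf ⟨x, hxV⟩).asIdeal
  haveI : IsLocalization.AtPrime (S.presheaf.stalk (f x)) qS := hU.isLocalization_stalk ⟨f x, hxU⟩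
  haveI : IsLocalization.AtPrime (X.presheaf.stalk x) qX := hV.isLocalization_stalk ⟨x, hxV⟩
  have hptX : (Spec.map φ') default = hV.primeIdealOf ⟨x, hxV⟩ := by
    rw [Spec.map_preimage, Scheme.Hom.comp_apply]
    refine congrArg (fun z => hV.isoSpec.hom z) (Subtype.ext ?_)
    show V.ι (ξ₀ default) = x
    rw [← Scheme.Hom.comp_apply, hξ₀]
  have hqX : ∀ r : R', algebraMap R' Ω r = 0 ↔ r ∈ qX := by
    intro r
    show φ'.hom r = 0 ↔ _
    rw [show qX = ((Spec.map φ') default : PrimeSpectrum R').asIdeal by rw [hptX]]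
    show φ'.hom r = 0 ↔ φ'.hom r ∈ ((default : Spec (CommRingCat.of Ω)) : PrimeSpectrum Ω).asIdeal
    rw [Ideal.eq_bot_of_prime ((default : Spec (CommRingCat.of Ω)) : PrimeSpectrum Ω).asIdeal, Ideal.mem_bot]
  have hcomp : Spec.map (φf ≫ φ') ≫ hU.fromSpec = ξ ≫ f := by
    rw [Spec.map_comp, Category.assoc, IsAffineOpen.SpecMap_appLE_fromSpec f hU hV hVU, ← Category.assoc, hφ']
  have hptS : (Spec.map (φf ≫ φ')) default = hU.primeIdealOf ⟨f x, hxU⟩ := by
    apply hU.fromSpec.isOpenEmbedding.injective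
    rw [← Scheme.Hom.comp_apply, hcomp, hU.fromSpec_primeIdealOf, Scheme.Hom.comp_apply]
  have hqS : ∀ r : R, algebraMap R Ω r = 0 ↔ r ∈ qS := by
    intro r
    show (φf ≫ φ').hom r = 0 ↔ _
    rw [show qS = ((Spec.map (φf ≫ φ')) default : PrimeSpectrum R).asIdeal by rw [hptS]]
    show (φf ≫ φ').hom r = 0 ↔ (φf ≫ φ').hom r ∈ ((default : Spec (CommRingCat.of Ω)) : PrimeSpectrum Ω).asIdeal
    rw [Ideal.eq_bot_of_prime ((default : Spec (CommRingCat.of Ω)) : PrimeSpectrum Ω).asIdeal, Ideal.mem_bot]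
  obtain ⟨_, _, hstA, hshA⟩ := HensPt14.exists_isStrictHenselization (R := R) (K := Ω) qS hqS (S.presheaf.stalk (f x))
  obtain ⟨_, _, hstB, hshB⟩ := HensPt14.exists_isStrictHenselization (R := R') (K := Ω) qX hqX (X.presheaf.stalk x)
  have hcompat : ψ.comp (algebraMap (S.presheaf.stalk (f x)) A) =
      (algebraMap (X.presheaf.stalk x) B).comp (f.stalkMap x).hom := by
    refine IsLocalization.ringHom_ext qS.primeCompl (RingHom.ext fun r => ?_)
    show ψ (algebraMap (S.presheaf.stalk (f x)) A (algebraMap R _ r)) =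
      algebraMap (X.presheaf.stalk x) B (f.stalkMap x (algebraMap R _ r))
    rw [← IsScalarTower.algebraMap_apply R (S.presheaf.stalk (f x)) A, hψR,
      IsScalarTower.algebraMap_apply R' (X.presheaf.stalk x) B]
    refine congrArg (algebraMap (X.presheaf.stalk x) B) ?_
    show X.presheaf.germ V x hxV (f.appLE U V hVU r) = f.stalkMap x (S.presheaf.germ U (f x) hxU r)
    rw [Scheme.Hom.germ_stalkMap_apply]
    show X.presheaf.germ V x hxV ((X.presheaf.map (homOfLE hVU).op) (f.app U r)) = _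
    exact TopCat.Presheaf.germ_res_apply _ _ _ _ _
  haveI := hshA
  haveI := hshB
  haveI : IsSepClosed (ResidueField A) := hshA.isSepClosure.sep_closed
  haveI : IsSepClosed (ResidueField B) := hshB.isSepClosure.sep_closed
  let α : Spec (CommRingCat.of A) ⟶ S := Spec.map (CommRingCat.ofHom (algebraMap R A) : Γ(S, U) ⟶ _) ≫ hU.fromSpec
  let β : Spec (CommRingCat.of B) ⟶ X := Spec.map (CommRingCat.ofHom (algebraMap R' B) : Γ(X, V) ⟶ _) ≫ hV.fromSpec
  haveI : Flat (Spec.map (CommRingCat.ofHom (algebraMap R A))) :=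
    (HasRingHomProperty.Spec_iff (P := @Flat)).2 (RingHom.flat_algebraMap_iff.2 inferInstance)
  haveI : Flat (Spec.map (CommRingCat.ofHom (algebraMap R' B))) :=
    (HasRingHomProperty.Spec_iff (P := @Flat)).2 (RingHom.flat_algebraMap_iff.2 inferInstance)
  haveI : Flat α := by
    show Flat (Spec.map (CommRingCat.ofHom (algebraMap R A) : Γ(S, U) ⟶ _) ≫ hU.fromSpec)
    exact inferInstance
  haveI : Flat β := by
    show Flat (Spec.map (CommRingCat.ofHom (algebraMap R' B) : Γ(X, V) ⟶ _) ≫ hV.fromSpec)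
    exact inferInstance
  have hαβ : β ≫ f = Spec.map (CommRingCat.ofHom ψ) ≫ α := by
    show (Spec.map _ ≫ hV.fromSpec) ≫ f = Spec.map _ ≫ Spec.map (CommRingCat.ofHom (algebraMap R A) : Γ(S, U) ⟶ _) ≫ hU.fromSpec
    rw [Category.assoc, ← IsAffineOpen.SpecMap_appLE_fromSpec f hU hV hVU, ← Spec.map_comp_assoc, ← Spec.map_comp_assoc]
    congr 2
    exact CommRingCat.hom_ext (RingHom.ext fun r => (hψR r).symm)
  letI : Algebra A B := ψ.toAlgebra
  haveI : IsLocalHom (algebraMap A B) := ‹IsLocalHom ψ›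
  have hconn : ∀ (L : Type u) [Field L] [IsAlgClosed L] (η : Spec (CommRingCat.of L) ⟶ Spec (CommRingCat.of A)),
      ConnectedSpace ↥(pullback (Spec.map (CommRingCat.ofHom ψ)) η) := by
    intro L _ _ η
    obtain ⟨φ, rfl⟩ := Spec.map_surjective η
    letI : Algebra A L := φ.hom.toAlgebra
    obtain ⟨hnt, he⟩ := idempotent_trivial_of_uloc f hf x A B hcompat L
    haveI : ConnectedSpace ↥(Spec (CommRingCat.of (B ⊗[A] L))) :=
      { toPreconnectedSpace := S2785.preconnected_spec _ he
        toNonempty := inferInstanceAs (Nonempty (PrimeSpectrum (B ⊗[A] L))) }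
    exact Function.Surjective.connectedSpace (f := (pullbackSpecIso A B L).inv)
      (pullbackSpecIso A B L).inv.surjective (pullbackSpecIso A B L).inv.continuous
  haveI hgc : GeometricallyConnected (Spec.map (CommRingCat.ofHom ψ)) :=
    ShFlat24.geometricallyConnected_of_algClosed ψ hconn
  -- `Spec B → X ×_S Spec A` is flat
  letI : Algebra R B := ((algebraMap R' B).comp (algebraMap R R')).toAlgebra
  haveI : IsScalarTower R R' B := IsScalarTower.of_algebraMap_eq fun _ => rfl
  haveI : IsScalarTower R A B := IsScalarTower.of_algebraMap_eq fun r => (hψR r).symm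
  haveI : Algebra.Etale R' R' := inferInstance
  have hfl := GeomConn24.flat_stageMap (A := A) (B := B) (GeomConn24.staged_hs (R := R) (Ω := Ω)) (Algebra.ofId R' B)
  let φB : A ⊗[R] R' →ₐ[A] B := Algebra.TensorProduct.lift (Algebra.ofId A B)
    ((Algebra.ofId R' B).restrictScalars R) fun _ _ => .all _ _
  let j : Spec (CommRingCat.of B) ⟶ pullback α f :=
    Spec.map (CommRingCat.ofHom φB.toRingHom) ≫ (pullbackSpecIso R A R').inv ≫
      pullback.map _ _ α f (𝟙 _) hV.fromSpec hU.fromSpec (Category.id_comp α).symm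
        (IsAffineOpen.SpecMap_appLE_fromSpec f hU hV hVU)
  haveI : Flat (Spec.map (CommRingCat.ofHom φB.toRingHom)) := (HasRingHomProperty.Spec_iff (P := @Flat)).2 hfl
  haveI : IsOpenImmersion (pullback.map (Spec.map (CommRingCat.ofHom (algebraMap R A))) (Spec.map (CommRingCat.ofHom (algebraMap R R')))
      α f (𝟙 _) hV.fromSpec hU.fromSpec (Category.id_comp α).symm
        (IsAffineOpen.SpecMap_appLE_fromSpec f hU hV hVU)) := by
    haveI : IsOpenImmersion hV.fromSpec := hV.isOpenImmersion_fromSpec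
    haveI : IsOpenImmersion hU.fromSpec := hU.isOpenImmersion_fromSpec
    infer_instance
  haveI : Flat j := by simp only [j]; infer_instance
  have hj : j ≫ pullback.fst α f = Spec.map (CommRingCat.ofHom ψ) := by
    simp only [j, Category.assoc, pullback.map, pullback.lift_fst, Category.comp_id]
    rw [pullbackSpecIso_inv_fst, ← Spec.map_comp]
    congr 1
    refine CommRingCat.hom_ext (RingHom.ext fun a => ?_)
    show φB (a ⊗ₜ 1) = ψ a
    simp only [φB, Algebra.TensorProduct.lift_tmul, map_one, mul_one]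
    rfl
  refine ⟨A, B, inferInstance, inferInstance, inferInstance, inferInstance, inferInstance, inferInstance,
    α, inferInstance, ProperPush24.hasLifts_hs hU, β, inferInstance, ψ, inferInstance,
    Spec.map (CommRingCat.ofHom (HensPt14.resK (R := R) (K := Ω))),
    Spec.map (CommRingCat.ofHom (HensPt14.resK (R := R') (K := Ω))), hαβ, ?_, ?_, hgc, inferInstance, ?_⟩
  · rw [← hφ']
    show Spec.map _ ≫ Spec.map _ ≫ Spec.map (CommRingCat.ofHom (algebraMap R' B) : Γ(X, V) ⟶ _) ≫ hV.fromSpec = _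
    rw [← Spec.map_comp_assoc, ← Spec.map_comp_assoc]
    congr 2
    exact CommRingCat.hom_ext (RingHom.ext fun r => (Hs.res (R := R') (K := Ω)).commutes r)
  · rw [← Spec.map_comp, ← Spec.map_comp, ← Spec.map_comp]
    congr 1
    exact CommRingCat.hom_ext (RingHom.ext fun a => hψres a)
  · intro W g
    let p := pullback.fst α f
    let P := pullback.fst p g
    have h : IsPullback (pullback.fst j P) (pullback.snd j P ≫ pullback.snd p g) (Spec.map (CommRingCat.ofHom ψ)) g := by
      rw [← hj]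
      exact (IsPullback.of_hasPullback j P).paste_vert (IsPullback.of_hasPullback p g)
    have h1 : GeneralizingMap (pullback.snd p g) := by
      have hsq : IsPullback (pullback.fst p g ≫ pullback.snd α f) (pullback.snd p g) f (g ≫ α) :=
        (IsPullback.of_hasPullback p g).paste_horiz (IsPullback.of_hasPullback α f).flip
      exact generalizingMap_of_uloc _ (isULocZeroAcyclic_of_isPullback hsq hf)
    haveI : Flat (h.isoPullback.inv ≫ pullback.snd j P) := inferInstance
    rw [← h.isoPullback_inv_snd, ← Category.assoc, Scheme.Hom.comp_base, TopCat.coe_comp]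
    exact (Flat.generalizingMap _).comp h1

end Groth.Agent.EtSets24
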