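import Groth.Agent.Lib.EtSets24.ConnDescent
import Groth.Agent.Lib.EtSets24.Submersive
import Groth.Agent.Lib.GeomConn24.StagedConn
import Groth.Agent.Lib.ShFlat24.Main
import Groth.Agent.Lib.Hens.Henselization
import Groth.Agent.Lib.AlgSpEt14.HensPt
import Groth.Prelude.Def_EtAcyc

/-!
# Local acyclicity in degree zero from connected geometric fibres

Strict localizations of an affine chart are staged algebras; geometric connectedness and universal
submersiveness of a map of such rings give the isomorphism on units.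
-/

universe u

open CategoryTheory CategoryTheory.Limits AlgebraicGeometry Opposite IsLocalRing TensorProduct Groth.Agent.Hens

set_option backward.isDefEq.respectTransparency.types false

namespace Groth.Agent.EtSets24

open GeomConn24

theorem isUnivSubmersive_pullback_fst {X Y V : Scheme.{u}} (v : V ⟶ Y) (f : X ⟶ Y)
    (hf : EtDesc.IsUnivSubmersive f) : EtDesc.IsUnivSubmersive (pullback.fst v f) := fun T t => by
  have h : IsPullback (pullback.fst (pullback.fst v f) t ≫ pullback.snd v f) (pullback.snd (pullback.fst v f) t) f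
      (t ≫ v) :=
    (IsPullback.of_hasPullback (pullback.fst v f) t).paste_horiz (IsPullback.of_hasPullback v f).flip
  have := hf T (t ≫ v)
  rw [← h.isoPullback_hom_snd]
  refine ⟨this.1.comp h.isoPullback.hom.surjective, ?_⟩
  have h' := this.2.comp h.isoPullback.hom.homeomorph.isQuotientMap
  convert! h' using 1

theorem isUnivSubmersive_of_comp {W X Y : Scheme.{u}} (a : W ⟶ X) (f : X ⟶ Y)
    (h : EtDesc.IsUnivSubmersive (a ≫ f)) : EtDesc.IsUnivSubmersive f := fun T t => by
  let m : pullback (a ≫ f) t ⟶ pullback f t :=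
    pullback.lift (pullback.fst (a ≫ f) t ≫ a) (pullback.snd (a ≫ f) t) (by rw [Category.assoc, pullback.condition])
  have h2 : (pullback.snd f t).base.hom ∘ m.base.hom = (pullback.snd (a ≫ f) t).base.hom :=
    funext fun z => (Scheme.Hom.comp_apply m (pullback.snd f t) z).symm.trans
      (congrArg (fun F : pullback (a ≫ f) t ⟶ T => F z) (pullback.lift_snd _ _ _))
  obtain ⟨hs, hq⟩ := h T t
  refine ⟨fun y => ?_, ?_⟩
  · obtain ⟨z, hz⟩ := hs y
    exact ⟨m z, (congr_fun h2 z).trans hz⟩
  · refine Topology.IsQuotientMap.of_comp m.continuous (pullback.snd f t).continuous ?_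
    exact h2 ▸ hq

/-- Criterion for degree zero acyclicity of a morphism of affine schemes. -/
theorem isZeroAcyclic_spec {A B : Type u} [CommRing A] [CommRing B] [Algebra A B]
    (hsub : EtDesc.IsUnivSubmersive (Spec.map (CommRingCat.ofHom (algebraMap A B))))
    (hconn : ∀ (L : Type u) [Field L] [IsAlgClosed L] [Algebra A L] (e : B ⊗[A] L),
      IsIdempotentElem e → e = 0 ∨ e = 1) :
    EtAcyc.IsZeroAcyclic (Spec.map (CommRingCat.ofHom (algebraMap A B))) := by
  haveI : GeometricallyConnected (Spec.map (CommRingCat.ofHom (algebraMap A B))) := by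
    refine ShFlat24.geometricallyConnected_of_algClosed _ fun L _ _ η => ?_
    obtain ⟨w, -⟩ := (hsub _ η).1 default
    obtain ⟨φ, rfl⟩ := Spec.map_surjective η
    letI : Algebra A L := φ.hom.toAlgebra
    haveI : Nonempty (PrimeSpectrum (B ⊗[A] L)) := ⟨(pullbackSpecIso A B L).hom w⟩
    haveI : ConnectedSpace ↥(Spec (CommRingCat.of (B ⊗[A] L))) :=
      { toPreconnectedSpace := S2785.preconnected_spec _ fun e he => hconn L e he
        toNonempty := inferInstanceAs (Nonempty (PrimeSpectrum (B ⊗[A] L))) }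
    exact Function.Surjective.connectedSpace (f := (pullbackSpecIso A B L).inv)
      (pullbackSpecIso A B L).inv.surjective (pullbackSpecIso A B L).inv.continuous
  exact fun V F => isIso_unit _ F (isUnivSubmersive_pullback_fst V.hom _ hsub)

/-- Flat maps of staged local rings with liftable idempotents are acyclic in degree zero. -/
theorem isZeroAcyclic_of_staged {R R' A B : Type u} [CommRing R] [CommRing R'] [Algebra R R'] [Module.Flat R R']
    [CommRing A] [Algebra R A] [HenselianLocalRing A] [IsSepClosed (ResidueField A)] [CommRing B] [IsLocalRing B]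
    [Algebra R' B] [Algebra R B] [IsScalarTower R R' B] [Algebra A B] [IsScalarTower R A B]
    [IsLocalHom (algebraMap A B)] [Module.Flat R' B] (hA : Staged R A) (hB : Staged R' B)
    (hlift : ∀ (L : Type u) [Field L] [IsAlgClosed L] [Algebra A L] [Algebra R L] [IsScalarTower R A L]
      (S' : Type u) [CommRing S'] [Algebra R S'] [Algebra R' S'] [IsScalarTower R R' S'] [Algebra.Etale R' S'],
      Lifts R A L S') :
    EtAcyc.IsZeroAcyclic (Spec.map (CommRingCat.ofHom (algebraMap A B))) := by
  haveI : Module.Flat A B := flat_of_staged (R' := R') hA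
  haveI : Module.FaithfullyFlat A B := Module.FaithfullyFlat.of_flat_of_isLocalHom
  haveI : Flat (Spec.map (CommRingCat.ofHom (algebraMap A B))) :=
    (HasRingHomProperty.Spec_iff (P := @Flat)).2 (RingHom.flat_algebraMap_iff.2 inferInstance)
  haveI : Surjective (Spec.map (CommRingCat.ofHom (algebraMap A B))) :=
    ⟨PrimeSpectrum.comap_surjective_of_faithfullyFlat⟩
  refine isZeroAcyclic_spec (isUnivSubmersive_of_flat _) fun L _ _ _ e he => ?_
  letI : Algebra R L := ((algebraMap A L).comp (algebraMap R A)).toAlgebra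
  haveI : IsScalarTower R A L := .of_algebraMap_eq fun _ => rfl
  exact idempotent_trivial_of_staged hA hB L (fun S' _ _ _ _ _ => hlift L S') e he

/-- Strict henselizations of a localization are staged, and flat. -/
theorem staged_strictHenselization (R : Type u) [CommRing R] (q : Ideal R) [q.IsPrime] (O S : Type u) [CommRing O]
    [IsLocalRing O] [Algebra R O] [IsLocalization.AtPrime O q] [CommRing S] [IsLocalRing S] [Algebra O S]
    [IsLocalHom (algebraMap O S)] [Hensel.IsStrictHenselization O S] [Algebra R S] [IsScalarTower R O S] :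
    Staged R S ∧ Module.Flat R S := by
  let K := SeparableClosure (ResidueField O)
  letI : Algebra R K := ((algebraMap (ResidueField O) K).comp ((residue O).comp (algebraMap R O))).toAlgebra
  have hq : ∀ r : R, algebraMap R K r = 0 ↔ r ∈ q := fun r => by
    show algebraMap (ResidueField O) K (residue O (algebraMap R O r)) = 0 ↔ _
    rw [map_eq_zero, residue_eq_zero_iff, IsLocalization.AtPrime.to_map_mem_maximal_iff O q]
  haveI : IsSepClosed K := IsSepClosure.sep_closed (ResidueField O)
  obtain ⟨_, _, _, hH⟩ := HensPt14.exists_isStrictHenselization (R := R) (K := K) q hq O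
  haveI := hH
  obtain ⟨e₁⟩ := exists_strictHenselization_equiv O (Hs R K)
  obtain ⟨e₂⟩ := exists_strictHenselization_equiv O S
  let e : Hs R K ≃ₐ[R] S := (e₁.symm.trans e₂).restrictScalars R
  exact ⟨staged_hs.map e.toAlgHom e.surjective, Module.Flat.of_linearEquiv e.symm.toLinearEquiv⟩

/-- Reduction of local acyclicity at a point to algebras over an affine chart. -/
theorem isZeroAcyclic_of_chart {X Y : Scheme.{u}} (g : X ⟶ Y) (x : X) {U : Y.Opens} (hU : IsAffineOpen U)
    (hxU : g x ∈ U) {V : X.Opens} (hV : IsAffineOpen V) (hxV : x ∈ V) (hVU : V ≤ g ⁻¹ᵁ U)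
    (RY RX : Type u) [CommRing RY] [CommRing RX] [IsLocalRing RY] [IsLocalRing RX]
    [Algebra (Y.presheaf.stalk (g.base x)) RY] [IsLocalHom (algebraMap (Y.presheaf.stalk (g.base x)) RY)]
    [Hensel.IsStrictHenselization (Y.presheaf.stalk (g.base x)) RY]
    [Algebra (X.presheaf.stalk x) RX] [IsLocalHom (algebraMap (X.presheaf.stalk x) RX)]
    [Hensel.IsStrictHenselization (X.presheaf.stalk x) RX]
    [Algebra RY RX] [IsLocalHom (algebraMap RY RX)]
    (hcomp : (algebraMap RY RX).comp (algebraMap (Y.presheaf.stalk (g.base x)) RY) =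
      (algebraMap (X.presheaf.stalk x) RX).comp (g.stalkMap x).hom)
    (H : letI : Algebra Γ(Y, U) Γ(X, V) := (g.appLE U V hVU).hom.toAlgebra
      ∀ (A B : Type u) [CommRing A] [Algebra Γ(Y, U) A] [HenselianLocalRing A] [IsSepClosed (ResidueField A)]
        [CommRing B] [IsLocalRing B] [Algebra Γ(X, V) B] [Algebra Γ(Y, U) B] [IsScalarTower Γ(Y, U) Γ(X, V) B]
        [Algebra A B] [IsScalarTower Γ(Y, U) A B] [IsLocalHom (algebraMap A B)] [Module.Flat Γ(X, V) B],
        Staged Γ(Y, U) A → Staged Γ(X, V) B →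
          EtAcyc.IsZeroAcyclic (Spec.map (CommRingCat.ofHom (algebraMap A B)))) :
    EtAcyc.IsZeroAcyclic (Spec.map (CommRingCat.ofHom (algebraMap RY RX))) := by
  let R : Type u := Γ(Y, U)
  let R' : Type u := Γ(X, V)
  letI : Algebra R R' := (g.appLE U V hVU).hom.toAlgebra
  let OY := Y.presheaf.stalk (g.base x)
  let OX := X.presheaf.stalk x
  letI : Algebra R OY := (Y.presheaf.germ U (g x) hxU).hom.toAlgebra
  letI : Algebra R' OX := (X.presheaf.germ V x hxV).hom.toAlgebra
  haveI : IsLocalization.AtPrime OY (hU.primeIdealOf ⟨g x, hxU⟩).asIdeal := hU.isLocalization_stalk ⟨g x, hxU⟩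
  haveI : IsLocalization.AtPrime OX (hV.primeIdealOf ⟨x, hxV⟩).asIdeal := hV.isLocalization_stalk ⟨x, hxV⟩
  letI : Algebra R RY := ((algebraMap OY RY).comp (algebraMap R OY)).toAlgebra
  letI : Algebra R' RX := ((algebraMap OX RX).comp (algebraMap R' OX)).toAlgebra
  letI : Algebra R RX := ((algebraMap R' RX).comp (algebraMap R R')).toAlgebra
  haveI : IsScalarTower R OY RY := .of_algebraMap_eq fun _ => rfl
  haveI : IsScalarTower R' OX RX := .of_algebraMap_eq fun _ => rfl
  haveI : IsScalarTower R R' RX := .of_algebraMap_eq fun _ => rfl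
  haveI : IsScalarTower R RY RX := .of_algebraMap_eq fun r => by
    show algebraMap OX RX (X.presheaf.germ V x hxV (g.appLE U V hVU r)) =
      algebraMap RY RX (algebraMap OY RY (Y.presheaf.germ U (g x) hxU r))
    refine Eq.trans (congrArg _ ?_) (RingHom.congr_fun hcomp (Y.presheaf.germ U (g x) hxU r)).symm
    show X.presheaf.germ V x hxV (g.appLE U V hVU r) = g.stalkMap x (Y.presheaf.germ U (g x) hxU r)
    rw [Scheme.Hom.germ_stalkMap_apply]
    show X.presheaf.germ V x hxV ((X.presheaf.map (homOfLE hVU).op) (g.app U r)) = _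
    exact TopCat.Presheaf.germ_res_apply _ _ _ _ _
  haveI : HenselianLocalRing RY := Hensel.IsStrictHenselization.henselian (R := OY)
  haveI : IsSepClosed (ResidueField RY) :=
    (Hensel.IsStrictHenselization.isSepClosure (R := OY) (S := RY)).sep_closed
  obtain ⟨hA, -⟩ := staged_strictHenselization R (hU.primeIdealOf ⟨g x, hxU⟩).asIdeal OY RY
  obtain ⟨hB, hfl⟩ := staged_strictHenselization R' (hV.primeIdealOf ⟨x, hxV⟩).asIdeal OX RX
  haveI := hfl
  exact H RY RX hA hB

/-- Charts at the points give local acyclicity in degree zero. -/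
theorem isLocZeroAcyclic_of_charts {X Y : Scheme.{u}} (g : X ⟶ Y)
    (H : ∀ x : X, ∃ (U : Y.Opens) (_ : IsAffineOpen U) (_ : g x ∈ U) (V : X.Opens) (_ : IsAffineOpen V)
      (_ : x ∈ V) (hVU : V ≤ g ⁻¹ᵁ U),
      letI : Algebra Γ(Y, U) Γ(X, V) := (g.appLE U V hVU).hom.toAlgebra
      ∀ (A B : Type u) [CommRing A] [Algebra Γ(Y, U) A] [HenselianLocalRing A] [IsSepClosed (ResidueField A)]
        [CommRing B] [IsLocalRing B] [Algebra Γ(X, V) B] [Algebra Γ(Y, U) B] [IsScalarTower Γ(Y, U) Γ(X, V) B]
        [Algebra A B] [IsScalarTower Γ(Y, U) A B] [IsLocalHom (algebraMap A B)] [Module.Flat Γ(X, V) B],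
        Staged Γ(Y, U) A → Staged Γ(X, V) B →
          EtAcyc.IsZeroAcyclic (Spec.map (CommRingCat.ofHom (algebraMap A B)))) :
    EtAcyc.IsLocZeroAcyclic g := by
  intro x RY RX _ _ _ _ _ _ _ _ _ _ _ _ hcomp
  obtain ⟨U, hU, hxU, V, hV, hxV, hVU, h⟩ := H x
  exact isZeroAcyclic_of_chart g x hU hxU hV hxV hVU RY RX hcomp h

end Groth.Agent.EtSets24
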